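import Mathlib

/-!
Action of the normalizer of a subgroup `Q` on the abelianization of `Q`, invariance of
characteristic subgroups, and the basic coprime-action fact on abelian groups:
if `V = [V, A]` then `C_V(A) = 1`.
-/

set_option autoImplicit false

namespace Cfsg.Agent.Lib.Helper66

open Finset

/-- the action of the normalizer of `Q` on the abelianization of `Q` -/
noncomputable def abAct {G : Type*} [Group G] (Q : Subgroup G) :
    ↥(Subgroup.normalizer (Q : Set G)) →* MulAut (Abelianization ↥Q) where
  toFun g := (Q.normalizerMonoidHom g).abelianizationCongr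
  map_one' := by
    rw [map_one]
    exact abelianizationCongr_refl
  map_mul' a b := by
    rw [map_mul]
    exact (abelianizationCongr_trans _ _).symm

theorem abAct_of {G : Type*} [Group G] (Q : Subgroup G)
    (g : ↥(Subgroup.normalizer (Q : Set G))) (q : ↥Q) :
    abAct Q g (Abelianization.of q) = Abelianization.of (g • q) := by
  show (Q.normalizerMonoidHom g).abelianizationCongr (Abelianization.of q) = _
  rw [abelianizationCongr_of]
  rfl

/-- elements normalizing `Q` normalize the image of every characteristic subgroup of `Q` -/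
theorem normalizer_le_normalizer_map_of_characteristic {G : Type*} [Group G] (Q : Subgroup G)
    (K : Subgroup ↥Q) [hK : K.Characteristic] :
    Subgroup.normalizer (Q : Set G) ≤ Subgroup.normalizer ((K.map Q.subtype : Subgroup G) : Set G) := by
  have key : ∀ g ∈ Subgroup.normalizer (Q : Set G), ∀ z ∈ K.map Q.subtype,
      g * z * g⁻¹ ∈ K.map Q.subtype := by
    intro g hg z hz
    obtain ⟨y, hy, rfl⟩ := hz
    have h1 : Q.normalizerMonoidHom ⟨g, hg⟩ y ∈ K := by
      have := (Subgroup.characteristic_iff_map_eq.mp hK) (Q.normalizerMonoidHom ⟨g, hg⟩)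
      rw [← this]
      exact ⟨y, hy, rfl⟩
    exact ⟨_, h1, rfl⟩
  intro g hg
  rw [Subgroup.mem_normalizer_iff]
  intro z
  constructor
  · exact key g hg z
  · intro hz
    have := key g⁻¹ (Subgroup.inv_mem _ hg) _ hz
    simpa [mul_assoc] using this

theorem normalizer_le_normalizer_commutator {G : Type*} [Group G] (Q : Subgroup G) :
    Subgroup.normalizer (Q : Set G) ≤ Subgroup.normalizer ((⁅Q, Q⁆ : Subgroup G) : Set G) := by
  rw [← Subgroup.map_subtype_commutator]
  exact normalizer_le_normalizer_map_of_characteristic Q (commutator ↥Q)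

/-- Coprime action on a finite abelian group: if `V` is generated by the commutators
`v⁻¹ * a • v`, then the only fixed point is `1`. -/
theorem eq_one_of_fixed_of_generated {A V : Type*} [Group A] [Finite A] [CommGroup V] [Finite V]
    (ρ : A →* MulAut V) (hcop : (Nat.card A).Coprime (Nat.card V))
    (hgen : Subgroup.closure {w : V | ∃ (v : V) (a : A), w = v⁻¹ * ρ a v} = ⊤)
    (v : V) (hv : ∀ a : A, ρ a v = v) : v = 1 := by
  classical
  have : Fintype A := Fintype.ofFinite A
  let τ : V →* V :=
    { toFun := fun w => ∏ a : A, ρ a w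
      map_one' := by simp
      map_mul' := fun x y => by simp [Finset.prod_mul_distrib] }
  have hτ : ∀ w : V, τ w = ∏ a : A, ρ a w := fun _ => rfl
  have hτker : ∀ w : V, τ w = 1 := by
    intro w
    have hw : w ∈ Subgroup.closure {w : V | ∃ (v : V) (a : A), w = v⁻¹ * ρ a v} := by
      rw [hgen]; trivial
    have hle : Subgroup.closure {w : V | ∃ (v : V) (a : A), w = v⁻¹ * ρ a v} ≤ τ.ker := by
      rw [Subgroup.closure_le]
      rintro _ ⟨u, b, rfl⟩
      rw [SetLike.mem_coe, MonoidHom.mem_ker, map_mul, map_inv, hτ, hτ]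
      have : ∏ a : A, ρ a (ρ b u) = ∏ a : A, ρ a u := by
        have h1 : ∀ a : A, ρ a (ρ b u) = ρ (a * b) u := by
          intro a; rw [map_mul]; rfl
        simp_rw [h1]
        exact (Group.mulRight_bijective b).prod_comp (fun a : A => ρ a u)
      rw [this, inv_mul_cancel]
    exact hle hw
  have h1 : v ^ Nat.card A = 1 := by
    have := hτker v
    rw [hτ] at this
    simp_rw [hv] at this
    rw [Finset.prod_const, Finset.card_univ, ← Nat.card_eq_fintype_card] at this
    exact this
  have h2 : v ^ Nat.card V = 1 := pow_card_eq_one'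
  have h3 := pow_gcd_eq_one.mpr ⟨h1, h2⟩
  rwa [hcop, pow_one] at h3

end Cfsg.Agent.Lib.Helper66

namespace Cfsg.Agent.Lib.Helper66

open scoped commutatorElement

/-- Coprime action: if `A` normalizes `P`, `[P, A] = P` and `A` centralizes `U ≤ P`,
then `U ≤ P'`. (On `P/P'` the fixed points of `A` are trivial.) -/
theorem le_commutator_of_centralized {X : Type*} [Group X] (P A U : Subgroup X) [Finite P]
    [Finite A] (hAP : A ≤ Subgroup.normalizer (P : Set X)) (hPA : ⁅P, A⁆ = P)
    (hcop : (Nat.card A).Coprime (Nat.card P)) (hUP : U ≤ P) (hUA : ⁅U, A⁆ = ⊥) :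
    U ≤ ⁅P, P⁆ := by
  let ρ : ↥A →* MulAut (Abelianization ↥P) := (abAct P).comp (Subgroup.inclusion hAP)
  have hρ : ∀ (a : ↥A) (q : ↥P), ρ a (Abelianization.of q) =
      Abelianization.of ((Subgroup.inclusion hAP a) • q) := fun a q => abAct_of P _ q
  have hcop' : (Nat.card ↥A).Coprime (Nat.card (Abelianization ↥P)) :=
    Nat.Coprime.coprime_dvd_right (Subgroup.card_quotient_dvd_card (commutator ↥P)) hcop
  have hgen : Subgroup.closure {w : Abelianization ↥P | ∃ (v : Abelianization ↥P) (a : ↥A),
      w = v⁻¹ * ρ a v} = ⊤ := by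
    set T := Subgroup.closure {w : Abelianization ↥P | ∃ (v : Abelianization ↥P) (a : ↥A),
      w = v⁻¹ * ρ a v} with hT
    have hle : ⁅P, A⁆ ≤ (T.comap Abelianization.of).map P.subtype := by
      rw [Subgroup.commutator_le]
      intro x hx a ha
      let xp : ↥P := ⟨x, hx⟩
      let g : ↥(Subgroup.normalizer (P : Set X)) := ⟨a, hAP ha⟩
      refine ⟨xp * (g • xp⁻¹), ?_, ?_⟩
      · rw [SetLike.mem_coe, Subgroup.mem_comap, map_mul]
        apply Subgroup.subset_closure
        refine ⟨Abelianization.of xp⁻¹, ⟨a, ha⟩, ?_⟩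
        rw [hρ, map_inv, inv_inv]
        rfl
      · show x * (a * x⁻¹ * a⁻¹) = ⁅x, a⁆
        rw [commutatorElement_def]
        group
    rw [hPA] at hle
    rw [eq_top_iff]
    intro v _
    obtain ⟨q, rfl⟩ := QuotientGroup.mk_surjective v
    obtain ⟨y, hy, hyq⟩ := hle q.2
    have : y = q := Subtype.ext hyq
    rw [this] at hy
    exact hy
  intro u hu
  have hcent : U ≤ Subgroup.centralizer (A : Set X) :=
    Subgroup.commutator_eq_bot_iff_le_centralizer.mp hUA
  have hfix : ∀ a : ↥A, ρ a (Abelianization.of ⟨u, hUP hu⟩) = Abelianization.of ⟨u, hUP hu⟩ := by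
    intro a
    rw [hρ]
    congr 1
    apply Subtype.ext
    show (a : X) * u * (a : X)⁻¹ = u
    have := (Subgroup.mem_centralizer_iff.mp (hcent hu)) a a.2
    rw [this]
    group
  have h1 := eq_one_of_fixed_of_generated ρ hcop' hgen _ hfix
  have h2 : (⟨u, hUP hu⟩ : ↥P) ∈ commutator ↥P := by
    rw [← Abelianization.ker_of, MonoidHom.mem_ker]
    exact h1
  rw [← Subgroup.map_subtype_commutator]
  exact ⟨_, h2, rfl⟩

end Cfsg.Agent.Lib.Helper66
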