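import Mathlib

set_option autoImplicit false

namespace Cfsg.Agent.Lib.Helper66

variable {G : Type*} [Group G]

theorem le_normalizer_of_conj_mem (S M : Subgroup G)
    (h : ∀ g ∈ S, ∀ x ∈ M, g * x * g⁻¹ ∈ M) : S ≤ Subgroup.normalizer (M : Set G) := by
  intro g hg
  rw [Subgroup.mem_normalizer_iff]
  intro x
  constructor
  · exact h g hg x
  · intro hx
    have := h g⁻¹ (S.inv_mem hg) _ hx
    simpa [mul_assoc] using this

/-- conjugation action of a subgroup `A` on a subgroup `Z` that it normalizes -/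
@[reducible] def conjMulAction (A Z : Subgroup G) (h : A ≤ Subgroup.normalizer (Z : Set G)) : MulAction A Z where
  smul a z := ⟨a * z * a⁻¹, (Subgroup.mem_normalizer_iff.1 (h a.2) z).1 z.2⟩
  one_smul z := Subtype.ext (by
    change ((1 : A) : G) * z * ((1 : A) : G)⁻¹ = z
    simp)
  mul_smul a b z := Subtype.ext (by
    change ((a * b : A) : G) * z * ((a * b : A) : G)⁻¹ = (a : G) * ((b : G) * z * (b : G)⁻¹) * (a : G)⁻¹
    simp [mul_assoc])

/-- A `p`-subgroup `A` normalizing a subgroup `Z` of prime order `p` centralizes it. -/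
theorem le_centralizer_of_card_prime {p : ℕ} [Fact p.Prime] (A Z : Subgroup G) (hA : IsPGroup p A)
    (hZ : Nat.card Z = p) (h : A ≤ Subgroup.normalizer (Z : Set G)) :
    A ≤ Subgroup.centralizer (Z : Set G) := by
  have hfin : Finite Z := Nat.finite_of_card_ne_zero (by rw [hZ]; exact (Fact.out : p.Prime).ne_zero)
  let _ := conjMulAction A Z h
  have h1 : (1 : Z) ∈ MulAction.fixedPoints A Z := by
    intro a
    apply Subtype.ext
    change (a : G) * ((1 : Z) : G) * (a : G)⁻¹ = ((1 : Z) : G)
    simp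
  obtain ⟨b, hb, hb1⟩ := hA.exists_fixed_point_of_prime_dvd_card_of_fixed_point Z
    (by rw [hZ]) h1
  have hgen : Subgroup.zpowers b = ⊤ := zpowers_eq_top_of_prime_card hZ (Ne.symm hb1)
  intro a ha
  rw [Subgroup.mem_centralizer_iff]
  intro z hz
  have hzmem : (⟨z, hz⟩ : Z) ∈ Subgroup.zpowers b := hgen ▸ Subgroup.mem_top _
  obtain ⟨k, hk⟩ := Subgroup.mem_zpowers_iff.1 hzmem
  have hbfix : (a : G) * (b : G) * (a : G)⁻¹ = (b : G) := by
    have := hb ⟨a, ha⟩
    exact congrArg Subtype.val this
  have hzk : z = (b : G) ^ k := by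
    have := congrArg Subtype.val hk
    simpa using this.symm
  have hcomm : Commute a (b : G) := by
    have : a * (b : G) = (b : G) * a := by
      calc a * (b : G) = (a * (b : G) * a⁻¹) * a := by group
        _ = (b : G) * a := by rw [hbfix]
    exact this
  rw [hzk]
  exact ((hcomm.zpow_right k).eq).symm

end Cfsg.Agent.Lib.Helper66
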