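import Mathlib

namespace Cfsg.Agent.Lib.Helper66

/-- Conjugation action of a normalizing subgroup `D` on the subgroup `P₀`. -/
@[reducible] def conjActSub {X : Type*} [Group X] (D P₀ : Subgroup X)
    (hDP : D ≤ Subgroup.normalizer (P₀ : Set X)) : MulAction D P₀ where
  smul g x := ⟨(g : X) * x.1 * (g : X)⁻¹, (Subgroup.mem_normalizer_iff.mp (hDP g.2) x.1).mp x.2⟩
  one_smul x := Subtype.ext (by show ((1 : D) : X) * x.1 * ((1 : D) : X)⁻¹ = x.1; simp)
  mul_smul g h x := Subtype.ext (by
    show ((g * h : D) : X) * x.1 * ((g * h : D) : X)⁻¹ =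
      (g : X) * ((h : X) * x.1 * (h : X)⁻¹) * (g : X)⁻¹
    simp [mul_assoc])

/-- A `p`-group `D` normalizing the finite subgroup `P₀`: `|P₀| ≡ |C_{P₀}(D)|` mod `p`. -/
theorem card_modEq_card_inf_centralizer {X : Type*} [Group X] [Finite X] {p : ℕ} [Fact p.Prime]
    (D P₀ : Subgroup X) (hD : IsPGroup p D) (hDP : D ≤ Subgroup.normalizer (P₀ : Set X)) :
    Nat.card P₀ ≡ Nat.card (P₀ ⊓ Subgroup.centralizer (D : Set X) : Subgroup X) [MOD p] := by
  let act : MulAction D P₀ := conjActSub D P₀ hDP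
  have h1 := hD.card_modEq_card_fixedPoints (↥P₀)
  have hsmul : ∀ (g : D) (x : P₀), ((g • x : P₀) : X) = (g : X) * x.1 * (g : X)⁻¹ := fun _ _ => rfl
  have e : MulAction.fixedPoints D ↥P₀ ≃ (P₀ ⊓ Subgroup.centralizer (D : Set X) : Subgroup X) :=
    { toFun := fun x => ⟨x.1.1, Subgroup.mem_inf.mpr ⟨x.1.2, by
        rw [Subgroup.mem_centralizer_iff]
        intro g hg
        have := x.2 ⟨g, hg⟩
        have h2 : g * x.1.1 * g⁻¹ = x.1.1 := by
          have := congrArg Subtype.val this
          rw [hsmul] at this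
          exact this
        calc g * x.1.1 = (g * x.1.1 * g⁻¹) * g := by group
          _ = x.1.1 * g := by rw [h2]⟩⟩
      invFun := fun y => ⟨⟨y.1, (Subgroup.mem_inf.mp y.2).1⟩, by
        intro g
        apply Subtype.ext
        rw [hsmul]
        have := (Subgroup.mem_centralizer_iff.mp (Subgroup.mem_inf.mp y.2).2) g.1 g.2
        show (g : X) * y.1 * (g : X)⁻¹ = y.1
        rw [this]; group⟩
      left_inv := fun x => rfl
      right_inv := fun y => rfl }
  rw [Nat.card_congr e] at h1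
  exact h1

/-- `|P₀ ⊓ C(b)|` version for a single `p`-element `b`. -/
theorem card_modEq_card_inf_centralizer_singleton {X : Type*} [Group X] [Finite X] {p : ℕ}
    [Fact p.Prime] (b : X) (P₀ : Subgroup X) (hb : IsPGroup p (Subgroup.zpowers b))
    (hbP : b ∈ Subgroup.normalizer (P₀ : Set X)) :
    Nat.card P₀ ≡ Nat.card (P₀ ⊓ Subgroup.centralizer {b} : Subgroup X) [MOD p] := by
  have h := card_modEq_card_inf_centralizer (Subgroup.zpowers b) P₀ hb (Subgroup.zpowers_le.mpr hbP)
  have : Subgroup.centralizer ((Subgroup.zpowers b : Subgroup X) : Set X) =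
      Subgroup.centralizer {b} := by
    rw [Subgroup.zpowers_eq_closure, Subgroup.centralizer_closure]
  rw [this] at h
  exact h

end Cfsg.Agent.Lib.Helper66
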