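import Mathlib
import Cfsg.Prelude.Def_Blocks
import Cfsg.Agent.Lib.Helper70.IPDefs
import Cfsg.Agent.Lib.Helper83.Decompose
import Cfsg.Agent.Lib.Helper83.Abelian
import Cfsg.Agent.Lib.Helper33.Constituent

/-!
# K-IPA-MUL (keystone 446322, architect helper4, CASE A of K-IP / S4463): `irr_mul_of_vanish`
-/

set_option autoImplicit false

namespace Cfsg.Agent.Lib.Helper66.IPA

open Cfsg Cfsg.Agent.Lib.Helper70.IP
open scoped ComplexConjugate

universe u

theorem irr_mul_of_vanish {G : Type u} [Group G] [Finite G] (Z : Subgroup G)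
    {χ θ : G → ℂ} (hχ : IsIrrCharacter G χ) (hθ : IsIrrCharacter G θ)
    (hχZ : IsIrrCharacter Z (fun z : Z => χ z))
    (hvan : ∀ g : G, g ∉ Z → θ g = 0)
    (hnorm : ∀ z : G, z ∈ Z → ‖θ z‖ = (charDegree θ : ℝ))
    (hidx : (charDegree θ) ^ 2 = Z.index) :
    IsIrrCharacter G (χ * θ) ∧ charDegree (χ * θ) = charDegree χ * charDegree θ := by
  classical
  have : Fintype G := Fintype.ofFinite G
  have hχc : IsCharacter G χ := Cfsg.Agent.Lib.Helper83.isCharacter_of_irr hχ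
  have hθc : IsCharacter G θ := Cfsg.Agent.Lib.Helper83.isCharacter_of_irr hθ
  have hmul : IsCharacter G (χ * θ) := Cfsg.Agent.Lib.Helper83.isCharacter_mul hχc hθc
  set d : ℕ := charDegree θ with hd
  -- the norm computation
  have hterm : ∀ g : G, (χ * θ) g * conj ((χ * θ) g) =
      (((if g ∈ Z then ‖χ g‖ ^ 2 * (d : ℝ) ^ 2 else 0 : ℝ)) : ℂ) := by
    intro g
    rw [Complex.mul_conj, Complex.normSq_eq_norm_sq, Pi.mul_apply, norm_mul]
    by_cases hg : g ∈ Z
    · rw [if_pos hg, hnorm g hg, mul_pow]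
    · rw [if_neg hg, hvan g hg, norm_zero, mul_zero]
      simp
  have hsumZ : ∑ g : G, (if g ∈ Z then ‖χ g‖ ^ 2 * (d : ℝ) ^ 2 else 0 : ℝ) =
      (Nat.card Z : ℝ) * (d : ℝ) ^ 2 := by
    rw [← Finset.sum_filter]
    have h1 : ∑ g ∈ Finset.univ.filter (fun g : G => g ∈ Z), ‖χ g‖ ^ 2 * (d : ℝ) ^ 2 =
        ∑ z : Z, ‖χ (z : G)‖ ^ 2 * (d : ℝ) ^ 2 := by
      apply Finset.sum_subtype
      intro x
      simp
    rw [h1, ← Finset.sum_mul]
    have h2 := Cfsg.Agent.Lib.Helper33.sum_norm_sq_irr (G := Z) hχZ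
    rw [h2]
  have hnorm1 : classInner (χ * θ) (χ * θ) = 1 := by
    unfold classInner
    rw [Finset.sum_congr rfl (fun g _ => hterm g), ← Complex.ofReal_sum, hsumZ]
    have hcard : (Nat.card G : ℝ) = (Nat.card Z : ℝ) * (d : ℝ) ^ 2 := by
      have h3 : Nat.card Z * Z.index = Nat.card G := Subgroup.card_mul_index Z
      rw [← hidx] at h3
      exact_mod_cast h3.symm
    have hG : (Nat.card G : ℝ) ≠ 0 := by
      have : Nat.card G ≠ 0 := Nat.card_pos.ne'
      exact_mod_cast this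
    rw [← hcard]
    have hG' : ((Nat.card G : ℝ) : ℂ) ≠ 0 := by exact_mod_cast hG
    have : ((Nat.card G : ℝ) : ℂ) = (Nat.card G : ℂ) := by norm_cast
    rw [this]
    rw [this] at hG'
    exact inv_mul_cancel₀ hG'
  refine ⟨Cfsg.Agent.Lib.Helper83.isIrrCharacter_of_norm_one hmul hnorm1, ?_⟩
  have h1 := Cfsg.Agent.Lib.Helper83.charDegree_cast hmul
  have h2 := Cfsg.Agent.Lib.Helper83.charDegree_cast hχc
  have h3 := Cfsg.Agent.Lib.Helper83.charDegree_cast hθc
  have h4 : ((charDegree (χ * θ) : ℕ) : ℂ) = ((charDegree χ * charDegree θ : ℕ) : ℂ) := by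
    rw [h1, Pi.mul_apply, ← h2, ← h3]
    push_cast
    rfl
  exact_mod_cast h4

end Cfsg.Agent.Lib.Helper66.IPA
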