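import Mathlib
import Cfsg.Prelude.Def_GeometricClasses
import Cfsg.Agent.Lib.Helper50.TensorAct
import Cfsg.Agent.Lib.Helper19.OEvenType
import Cfsg.Agent.Lib.Helper19.OEvenXX5
import Cfsg.Agent.Lib.Helper46.AschOBasic

/-! Keystone 584711 K-OPlus10-X13 (row S5847, helper43 architect): `q` odd, the polar form of a
plus-type `Q` on `F^10` is a tensor product `f₁ ⊗ f₂` of symmetric forms on `F^2` and `F^5`; then
`f₁` is a hyperbolic plane and the tensor subgroup permutes the two totally singular `5`-spaces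
`x_i ⊗ F^5` attached to its two isotropic lines. -/

set_option autoImplicit false
set_option linter.unusedSimpArgs false
set_option linter.unusedVariables false
set_option linter.unusedSectionVars false

namespace Cfsg.Agent.Lib.Helper66.OPlus10

open Cfsg Cfsg.Geo Cfsg.Agent.Lib.Helper50
open scoped Matrix Kronecker MatrixGroups

variable {F : Type*} [Field F]

/-- the Gram matrix of a non-degenerate symmetric form is invertible -/
theorem det_gram_ne_zero {k : ℕ} (f : (Fin k → F) → (Fin k → F) → F) (hf : IsSymmetricForm f) :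
    (gramMatrix f).det ≠ 0 := by
  intro h0
  obtain ⟨v, hv, hGv⟩ := Matrix.exists_mulVec_eq_zero_iff.mpr h0
  obtain ⟨x, hx⟩ := (hf.nondegenerate v hv).1
  apply hx
  rw [bilin_eq_gram f hf.bilinear, hGv, dotProduct_zero]

/-- in a finite field, if `d` is a square exactly when `-1` is, then `-d` is a square -/
theorem isSquare_neg_of_iff [Fintype F] (d : F) (hd : d ≠ 0)
    (h : IsSquare d ↔ IsSquare (-1 : F)) : IsSquare (-d) := by
  classical
  by_cases hm : IsSquare (-1 : F)
  · have := (h.mpr hm).mul hm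
    rwa [mul_neg_one] at this
  · have hd' : ¬ IsSquare d := fun hh => hm (h.mp hh)
    have e1 : quadraticChar F (-1) = -1 := quadraticChar_neg_one_iff_not_isSquare.mpr hm
    have e2 : quadraticChar F d = -1 := quadraticChar_neg_one_iff_not_isSquare.mpr hd'
    have e3 : quadraticChar F (-d) = 1 := by
      have : (-d) = (-1) * d := by ring
      rw [this, map_mul, e1, e2]
      norm_num
    exact (quadraticChar_one_iff_isSquare (neg_ne_zero.mpr hd)).mp e3

/-- a symmetric non-degenerate form on `F^2` with `- det` a square has a hyperbolic pair -/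
theorem exists_hyperbolic_pair (h2 : (2 : F) ≠ 0) (f : (Fin 2 → F) → (Fin 2 → F) → F)
    (hf : IsSymmetricForm f) (hsq : IsSquare (-(gramMatrix f).det)) :
    ∃ U : Fin 2 → (Fin 2 → F), (∀ i, f (U i) (U i) = 0) ∧ f (U 0) (U 1) ≠ 0 := by
  classical
  obtain ⟨s, hs⟩ := hsq
  have hval : ∀ x y : Fin 2 → F, f x y =
      x 0 * gramMatrix f 0 0 * y 0 + x 0 * gramMatrix f 0 1 * y 1 +
        x 1 * gramMatrix f 1 0 * y 0 + x 1 * gramMatrix f 1 1 * y 1 := by
    intro x y
    rw [bilin_eq_gram f hf.bilinear]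
    simp [dotProduct, Matrix.mulVec, Fin.sum_univ_two]
    ring
  have hsym : gramMatrix f 1 0 = gramMatrix f 0 1 := hf.symm _ _
  rw [Matrix.det_fin_two, hsym] at hs
  -- an isotropic non-zero vector
  obtain ⟨u, hu0, huu⟩ : ∃ u : Fin 2 → F, u ≠ 0 ∧ f u u = 0 := by
    by_cases ha : gramMatrix f 0 0 = 0
    · refine ⟨![1, 0], ?_, ?_⟩
      · intro h
        have := congrFun h 0
        simp at this
      · rw [hval]
        simp [ha]
    · refine ⟨![-gramMatrix f 0 1 + s, gramMatrix f 0 0], ?_, ?_⟩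
      · intro h
        have := congrFun h 1
        simp at this
        exact ha this
      · rw [hval, hsym]
        simp only [Matrix.cons_val_zero, Matrix.cons_val_one]
        linear_combination (-(gramMatrix f 0 0)) * hs
  obtain ⟨w, hw⟩ := (hf.nondegenerate u hu0).2
  refine ⟨![u, w - (f w w / (2 * f u w)) • u], ?_, ?_⟩
  · intro i
    fin_cases i
    · simpa using huu
    · simp only [Fin.mk_one, Matrix.cons_val_one, Matrix.cons_val_zero]
      have hb := hf.bilinear
      have e1 : f (w - (f w w / (2 * f u w)) • u) (w - (f w w / (2 * f u w)) • u) =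
          f w w - (f w w / (2 * f u w)) * f u w - (f w w / (2 * f u w)) * f u w +
            (f w w / (2 * f u w)) * (f w w / (2 * f u w)) * f u u := by
        have hsub : ∀ x y : Fin 2 → F, x - y = x + (-1 : F) • y := by
          intro x y; rw [neg_one_smul, sub_eq_add_neg]
        rw [hsub]
        simp only [hb.add_left, hb.add_right, hb.smul_left, hb.smul_right]
        rw [hf.symm w u]
        ring
      rw [e1, huu]
      field_simp
      ring
  · simp only [Matrix.cons_val_zero, Matrix.cons_val_one]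
    have hb := hf.bilinear
    have hsub : ∀ x y : Fin 2 → F, x - y = x + (-1 : F) • y := by
      intro x y; rw [neg_one_smul, sub_eq_add_neg]
    rw [hsub, hb.add_right, hb.smul_right, hb.smul_right, huu]
    simpa using hw


theorem bil_zero_right {k : ℕ} {f : (Fin k → F) → (Fin k → F) → F} (hf : IsBilinearForm f)
    (v : Fin k → F) : f v 0 = 0 := by
  have h := hf.smul_right 0 v 0
  rw [zero_smul, zero_mul] at h
  exact h

theorem bil_zero_left {k : ℕ} {f : (Fin k → F) → (Fin k → F) → F} (hf : IsBilinearForm f)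
    (v : Fin k → F) : f 0 v = 0 := by
  have h := hf.smul_left 0 0 v
  rw [zero_smul, zero_mul] at h
  exact h

theorem pureLin_injective {n n₁ n₂ : ℕ} (e : Fin n ≃ Fin n₁ × Fin n₂) (P : GL (Fin n) F)
    (u : Fin n₁ → F) (hu : u ≠ 0) : Function.Injective (pureLin e P u) := by
  intro w w' hww
  rw [pureLin_apply, pureLin_apply, pureT_eq_iff] at hww
  obtain ⟨a, ha⟩ : ∃ a, u a ≠ 0 := by
    by_contra hcon
    push Not at hcon
    exact hu (funext hcon)
  ext b
  exact mul_left_cancel₀ ha (hww a b)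

theorem emb_surj {n n₁ n₂ : ℕ} (e : Fin n ≃ Fin n₁ × Fin n₂) (P : GL (Fin n) F) (v : Fin n → F) :
    ∃ x : Fin n₁ × Fin n₂ → F, v = (P : Matrix (Fin n) (Fin n) F) *ᵥ (x ∘ e) := by
  refine ⟨(((P⁻¹ : GL (Fin n) F) : Matrix (Fin n) (Fin n) F) *ᵥ v) ∘ e.symm, ?_⟩
  have h1 : ((((P⁻¹ : GL (Fin n) F) : Matrix (Fin n) (Fin n) F) *ᵥ v) ∘ e.symm) ∘ e
      = ((P⁻¹ : GL (Fin n) F) : Matrix (Fin n) (Fin n) F) *ᵥ v := by
    ext i
    simp
  rw [h1, Matrix.mulVec_mulVec, ← Units.val_mul, mul_inv_cancel, Units.val_one, Matrix.one_mulVec]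

/-- **K-OPlus10-X13** (584711). -/
theorem tensor_two_five_le_tsPair [Fintype F] (h2 : (2 : F) ≠ 0) (Q : (Fin 10 → F) → F)
    (hQ : IsNondegenerateQuadraticForm Q)
    (hplus : IsPlusTypeOn Q ⊤) (e : Fin 10 ≃ Fin 2 × Fin 5) (P : GL (Fin 10) F)
    (f₁ : (Fin 2 → F) → (Fin 2 → F) → F) (f₂ : (Fin 5 → F) → (Fin 5 → F) → F)
    (h₁ : IsSymmetricForm f₁) (h₂ : IsSymmetricForm f₂)
    (hT : IsTensorFormStructure id (QuadraticMap.polar Q) f₁ f₂ e P) :
    ∃ D : Fin 2 → Submodule F (Fin 10 → F), IsMDecomposition 5 D ∧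
      (∀ i, IsTotallySingularQuad Q (D i)) ∧
      tensorProductSubgroup 2 5 e P ⊓ isometryGroup F Q ≤ decompositionStabilizer D := by
  classical
  -- Step A: `- det G₁` is a square
  have hsq : IsSquare (-(gramMatrix f₁).det) := by
    obtain ⟨c, hc, hform⟩ := hT
    obtain ⟨b, hb⟩ := Cfsg.Agent.Lib.Helper19.OEvenX.exists_tensor_basis e P
    have hG : (Matrix.of fun i j => QuadraticMap.polar Q (b i) (b j)) =
        c • (gramMatrix f₁ ⊗ₖ gramMatrix f₂) := by
      ext p p'
      rw [Matrix.of_apply, hb, hb, hform, Cfsg.Agent.Lib.Helper19.OEvenX.formOfGram_single,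
        Matrix.smul_apply, smul_eq_mul]
    have hiff := (Cfsg.Agent.Lib.Helper19.OEvenType.isPlusTypeOn_top_iff_gram Q hQ h2 (M := 5)
      (by norm_num) b).mp hplus
    rw [hG, Matrix.det_smul, Matrix.det_kronecker, Fintype.card_prod, Fintype.card_fin,
      Fintype.card_fin] at hiff
    have hd1 := det_gram_ne_zero f₁ h₁
    have hd2 := det_gram_ne_zero f₂ h₂
    apply isSquare_neg_of_iff _ hd1
    have hm : ((-1 : F)) ^ 5 = -1 := by norm_num
    rw [hm] at hiff
    rw [← hiff]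
    have hk : c ^ (2 * 5) * ((gramMatrix f₁).det ^ 5 * (gramMatrix f₂).det ^ 2) =
        (gramMatrix f₁).det * (c ^ 5 * (gramMatrix f₁).det ^ 2 * (gramMatrix f₂).det) *
          (c ^ 5 * (gramMatrix f₁).det ^ 2 * (gramMatrix f₂).det) := by ring
    have hk0 : c ^ 5 * (gramMatrix f₁).det ^ 2 * (gramMatrix f₂).det ≠ 0 :=
      mul_ne_zero (mul_ne_zero (pow_ne_zero _ hc) (pow_ne_zero _ hd1)) hd2
    constructor
    · rintro ⟨r, hr⟩
      exact ⟨r * (c ^ 5 * (gramMatrix f₁).det ^ 2 * (gramMatrix f₂).det), by rw [hk, hr]; ring⟩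
    · rintro ⟨r, hr⟩
      refine ⟨r / (c ^ 5 * (gramMatrix f₁).det ^ 2 * (gramMatrix f₂).det), ?_⟩
      rw [hk] at hr
      field_simp
      linear_combination hr
  -- Step B: hyperbolic pair
  obtain ⟨U, hUU, hU01⟩ := exists_hyperbolic_pair h2 f₁ h₁ hsq
  have hb₁ := h₁.bilinear
  have hU10 : f₁ (U 1) (U 0) = f₁ (U 0) (U 1) := h₁.symm _ _
  have h01 : (0 : Fin 2) ≠ 1 := by decide
  have hUne : ∀ i, U i ≠ 0 := by
    intro i h
    fin_cases i
    · apply hU01
      have : U 0 = 0 := h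
      rw [this, bil_zero_left hb₁]
    · apply hU01
      have : U 1 = 0 := h
      rw [this, bil_zero_right hb₁]
  have hli : LinearIndependent F ![U 0, U 1] := by
    rw [LinearIndependent.pair_iff]
    intro s t hst
    have e1 : f₁ (U 0) (s • U 0 + t • U 1) = 0 := by rw [hst, bil_zero_right hb₁]
    have e2 : f₁ (U 1) (s • U 0 + t • U 1) = 0 := by rw [hst, bil_zero_right hb₁]
    rw [hb₁.add_right, hb₁.smul_right, hb₁.smul_right, hUU 0, mul_zero, zero_add] at e1
    rw [hb₁.add_right, hb₁.smul_right, hb₁.smul_right, hUU 1, mul_zero, add_zero, hU10] at e2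
    exact ⟨(mul_eq_zero.mp e2).resolve_right hU01, (mul_eq_zero.mp e1).resolve_right hU01⟩
  have hspan : ∀ v : Fin 2 → F, ∃ α β : F, v = α • U 0 + β • U 1 := by
    intro v
    have hcard : Fintype.card (Fin 2) = Module.finrank F (Fin 2 → F) := by simp
    let bU := basisOfLinearIndependentOfCardEqFinrank hli hcard
    have hbU : ∀ i, bU i = ![U 0, U 1] i := fun i => by
      simp [bU, coe_basisOfLinearIndependentOfCardEqFinrank]
    refine ⟨bU.repr v 0, bU.repr v 1, ?_⟩
    have := bU.sum_repr v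
    rw [Fin.sum_univ_two, hbU, hbU] at this
    simpa using this.symm
  have hcls : ∀ v : Fin 2 → F, f₁ v v = 0 → ∃ (j : Fin 2) (κ : F), v = κ • U j := by
    intro v hv
    obtain ⟨α, β, rfl⟩ := hspan v
    have e1 : f₁ (α • U 0 + β • U 1) (α • U 0 + β • U 1) = 2 * (α * β * f₁ (U 0) (U 1)) := by
      simp only [hb₁.add_left, hb₁.add_right, hb₁.smul_left, hb₁.smul_right]
      rw [hUU 0, hUU 1, hU10]
      ring
    rw [e1] at hv
    have h3 := (mul_eq_zero.mp hv).resolve_left h2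
    have h4 := (mul_eq_zero.mp h3).resolve_right hU01
    rcases mul_eq_zero.mp h4 with h | h
    · exact ⟨1, β, by rw [h, zero_smul, zero_add]⟩
    · exact ⟨0, α, by rw [h, zero_smul, add_zero]⟩
  -- values of the polar form on pure tensors
  obtain ⟨c, hc0, hc⟩ := form_pureT (QuadraticMap.polar Q) f₁ f₂ e P hT
  have hval : ∀ (u u' : Fin 2 → F) (w w' : Fin 5 → F),
      QuadraticMap.polar Q (pureT e P u w) (pureT e P u' w') = c * f₁ u u' * f₂ w w' := by
    intro u u' w w'
    rw [hc, ← bilin_eq_gram f₁ h₁.bilinear, ← bilin_eq_gram f₂ h₂.bilinear]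
  refine ⟨fun i => LinearMap.range (pureLin e P (U i)), ⟨le_refl 2, by norm_num, ?_, ?_, ?_⟩, ?_, ?_⟩
  · -- dimensions
    intro i
    rw [LinearMap.finrank_range_of_inj (pureLin_injective e P (U i) (hUne i)),
      Module.finrank_fin_fun]
  · -- independence
    rw [iSupIndep_pair h01 (fun k => by fin_cases k <;> simp)]
    rw [Submodule.disjoint_def]
    rintro x ⟨w, rfl⟩ ⟨w', hw'⟩
    have hw0 : w' = 0 := by
      by_contra hw
      obtain ⟨y, hy⟩ := (h₂.nondegenerate w' hw).1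
      apply hy
      have e1 := hval (U 0) (U 0) y w
      have e2 := hval (U 0) (U 1) y w'
      rw [pureLin_apply] at hw'
      rw [pureLin_apply] at hw'
      rw [hw', e1, hUU 0, mul_zero, zero_mul] at e2
      rcases mul_eq_zero.1 e2.symm with h | h
      · rcases mul_eq_zero.1 h with h' | h'
        · exact absurd h' hc0
        · exact absurd h' hU01
      · exact h
    rw [← hw', hw0, map_zero]
  · -- spanning
    rw [eq_top_iff]
    intro v _
    obtain ⟨x, rfl⟩ := emb_surj e P v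
    choose α β hαβ using fun b : Fin 5 => hspan (fun a => x (a, b))
    have hx : x = Cfsg.Agent.Lib.Helper50.tprod (U 0) α + Cfsg.Agent.Lib.Helper50.tprod (U 1) β := by
      ext ⟨a, b⟩
      have := congrFun (hαβ b) a
      simp only [Pi.add_apply, Pi.smul_apply, smul_eq_mul] at this
      simp only [Pi.add_apply, Cfsg.Agent.Lib.Helper50.tprod]
      rw [this]
      ring
    have hx' : (P : Matrix (Fin 10) (Fin 10) F) *ᵥ (x ∘ e) =
        pureT e P (U 0) α + pureT e P (U 1) β := by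
      rw [hx]
      unfold pureT
      rw [← Matrix.mulVec_add]
      rfl
    rw [hx']
    refine Submodule.add_mem _ ?_ ?_
    · exact Submodule.mem_iSup_of_mem 0 ⟨α, rfl⟩
    · exact Submodule.mem_iSup_of_mem 1 ⟨β, rfl⟩
  · -- totally singular
    rintro i x ⟨w, rfl⟩
    have h3 : (2 : F) * Q (pureLin e P (U i) w) = 0 := by
      rw [Cfsg.Agent.Lib.Helper46.AschO.two_mul_Q hQ, pureLin_apply, hval, hUU i]
      ring
    exact (mul_eq_zero.mp h3).resolve_left h2
  · -- the stabiliser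
    rintro g ⟨hgT, hgI⟩
    obtain ⟨A, B, hact⟩ := tensor_mulVec_pureT e P g hgT
    have hgQ : ∀ u : Fin 10 → F, Q ((g : Matrix (Fin 10) (Fin 10) F) *ᵥ u) = Q u :=
      fun u => hgI u u
    have hiso : ∀ x y : Fin 10 → F,
        QuadraticMap.polar Q ((g : Matrix (Fin 10) (Fin 10) F) *ᵥ x)
          ((g : Matrix (Fin 10) (Fin 10) F) *ᵥ y) = QuadraticMap.polar Q x y := by
      intro x y
      unfold QuadraticMap.polar
      rw [← Matrix.mulVec_add, hgQ, hgQ, hgQ]
    -- similarity of `A`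
    obtain ⟨w0, hw0⟩ : ∃ w0 : Fin 5 → F, w0 ≠ 0 := by
      refine ⟨Pi.single 0 1, ?_⟩
      intro h
      have := congrFun h 0
      simp at this
    obtain ⟨w1, hw1⟩ := (h₂.nondegenerate w0 hw0).1
    set lam := f₂ ((B : Matrix (Fin 5) (Fin 5) F) *ᵥ w1) ((B : Matrix (Fin 5) (Fin 5) F) *ᵥ w0)
      with hlam
    have hsim : ∀ u u' : Fin 2 → F,
        f₁ ((A : Matrix (Fin 2) (Fin 2) F) *ᵥ u) ((A : Matrix (Fin 2) (Fin 2) F) *ᵥ u') * lam
          = f₁ u u' * f₂ w1 w0 := by
      intro u u'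
      have h := hiso (pureT e P u w1) (pureT e P u' w0)
      rw [hact, hact, hval, hval, mul_assoc, mul_assoc] at h
      exact mul_left_cancel₀ hc0 h
    have h01ne : f₁ ((A : Matrix (Fin 2) (Fin 2) F) *ᵥ U 0)
        ((A : Matrix (Fin 2) (Fin 2) F) *ᵥ U 1) * lam ≠ 0 := by
      rw [hsim]
      exact mul_ne_zero hU01 hw1
    have hlam0 : lam ≠ 0 := right_ne_zero_of_mul h01ne
    have hA01 : f₁ ((A : Matrix (Fin 2) (Fin 2) F) *ᵥ U 0)
        ((A : Matrix (Fin 2) (Fin 2) F) *ᵥ U 1) ≠ 0 := left_ne_zero_of_mul h01ne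
    have hnon : ∀ i, f₁ ((A : Matrix (Fin 2) (Fin 2) F) *ᵥ U i)
        ((A : Matrix (Fin 2) (Fin 2) F) *ᵥ U i) = 0 := by
      intro i
      have := hsim (U i) (U i)
      rw [hUU i, zero_mul] at this
      exact (mul_eq_zero.mp this).resolve_right hlam0
    obtain ⟨j0, κ0, hA0⟩ := hcls _ (hnon 0)
    obtain ⟨j1, κ1, hA1⟩ := hcls _ (hnon 1)
    have hκ0 : κ0 ≠ 0 := by
      rintro rfl
      apply hA01
      rw [hA0, zero_smul, bil_zero_left hb₁]
    have hκ1 : κ1 ≠ 0 := by
      rintro rfl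
      apply hA01
      rw [hA1, zero_smul, bil_zero_right hb₁]
    have hj : j0 ≠ j1 := by
      intro hjj
      apply hA01
      rw [hA0, hA1, hjj, hb₁.smul_left, hb₁.smul_right, hUU j1, mul_zero, mul_zero]
    have hσ : ∀ j0 j1 : Fin 2, j0 ≠ j1 → (Equiv.swap 0 j0) 0 = j0 ∧ (Equiv.swap 0 j0) 1 = j1 := by
      decide
    obtain ⟨hσ0, hσ1⟩ := hσ j0 j1 hj
    have himg' : ∀ i, ∃ κ : F, κ ≠ 0 ∧
        (A : Matrix (Fin 2) (Fin 2) F) *ᵥ U i = κ • U ((Equiv.swap 0 j0) i) := by
      rw [Fin.forall_fin_two]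
      exact ⟨⟨κ0, hκ0, by rw [hA0, hσ0]⟩, ⟨κ1, hκ1, by rw [hA1, hσ1]⟩⟩
    refine ⟨Equiv.swap 0 j0, fun i => ?_⟩
    obtain ⟨κ, hκ, hAi⟩ := himg' i
    ext v
    constructor
    · rintro ⟨d, ⟨w, rfl⟩, rfl⟩
      rw [Matrix.toLin'_apply, pureLin_apply, hact, hAi, pureT_smul_left, ← pureT_smul_right]
      exact ⟨_, rfl⟩
    · rintro ⟨w, rfl⟩
      refine ⟨pureLin e P (U i) (((B⁻¹ : GL (Fin 5) F) : Matrix (Fin 5) (Fin 5) F) *ᵥ (κ⁻¹ • w)),
        ⟨_, rfl⟩, ?_⟩
      rw [Matrix.toLin'_apply, pureLin_apply, hact, hAi, pureT_smul_left, ← pureT_smul_right,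
        Matrix.mulVec_mulVec, ← Units.val_mul, mul_inv_cancel, Units.val_one, Matrix.one_mulVec,
        smul_smul, mul_inv_cancel₀ hκ, one_smul, pureLin_apply]

end Cfsg.Agent.Lib.Helper66.OPlus10
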