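import Mathlib
import Cfsg.Agent.Lib.Helper06.Dihedral

set_option autoImplicit false

namespace Cfsg.Agent.Lib.Helper66

open Cfsg.Agent.Lib.Helper06

variable {G : Type*} [Group G]

/-- the additive hom `ZMod (orderOf c) →+ Additive G`, `k ↦ c ^ k`. -/
noncomputable def rotAdd (c : G) : ZMod (orderOf c) →+ Additive G :=
  ZMod.lift (orderOf c) ⟨zmultiplesHom (Additive G) (Additive.ofMul c), by
    rw [zmultiplesHom_apply]
    change Additive.ofMul (c ^ ((orderOf c : ℕ) : ℤ)) = 0
    rw [zpow_natCast, pow_orderOf_eq_one]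
    rfl⟩

/-- `i ↦ c ^ i` on `ZMod (orderOf c)`. -/
noncomputable def rot (c : G) (i : ZMod (orderOf c)) : G := (rotAdd c i).toMul

theorem rot_intCast (c : G) (k : ℤ) : rot c (k : ZMod (orderOf c)) = c ^ k := by
  unfold rot rotAdd
  rw [ZMod.lift_coe]
  simp only [zmultiplesHom_apply]
  rfl

theorem rot_add (c : G) (i j : ZMod (orderOf c)) : rot c (i + j) = rot c i * rot c j := by
  unfold rot
  rw [map_add]
  rfl

theorem rot_sub (c : G) (i j : ZMod (orderOf c)) : rot c (i - j) = rot c i * (rot c j)⁻¹ := by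
  unfold rot
  rw [map_sub, toMul_sub, div_eq_mul_inv]

theorem rot_zero (c : G) : rot c 0 = 1 := by
  unfold rot
  rw [map_zero]
  rfl

theorem rot_one (c : G) : rot c 1 = c := by
  have := rot_intCast c 1
  simpa using this

theorem rot_exists (c : G) (i : ZMod (orderOf c)) : ∃ k : ℤ, (k : ZMod (orderOf c)) = i ∧ rot c i = c ^ k := by
  obtain ⟨k, rfl⟩ := ZMod.intCast_surjective i
  exact ⟨k, rfl, rot_intCast c k⟩

theorem rot_comm (c : G) (i j : ZMod (orderOf c)) : rot c i * rot c j = rot c j * rot c i := by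
  rw [← rot_add, ← rot_add, add_comm]

theorem rot_eq_one (c : G) (i : ZMod (orderOf c)) (h : rot c i = 1) : i = 0 := by
  obtain ⟨k, rfl, hk⟩ := rot_exists c i
  rw [hk] at h
  rw [ZMod.intCast_zmod_eq_zero_iff_dvd]
  exact orderOf_dvd_iff_zpow_eq_one.2 h

theorem conj_rot {x y : G} (hx : x * x = 1) (hy : y * y = 1) (i : ZMod (orderOf (x * y))) :
    x * rot (x * y) i * x = (rot (x * y) i)⁻¹ := by
  obtain ⟨k, _, hk⟩ := rot_exists (x * y) i
  rw [hk]
  exact inv_conj_zpow hx hy k

/-- the homomorphism from the dihedral group attached to two involutions. -/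
noncomputable def dihedralHom {x y : G} (hx : x * x = 1) (hy : y * y = 1) :
    DihedralGroup (orderOf (x * y)) →* G where
  toFun
    | DihedralGroup.r i => rot (x * y) i
    | DihedralGroup.sr i => x * rot (x * y) i
  map_one' := by
    rw [DihedralGroup.one_def]
    exact rot_zero _
  map_mul' := by
    rintro (i | i) (j | j)
    · rw [DihedralGroup.r_mul_r]
      exact rot_add _ _ _
    · rw [DihedralGroup.r_mul_sr]
      change x * rot (x * y) (j - i) = rot (x * y) i * (x * rot (x * y) j)
      have h := conj_rot hx hy i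
      have h2 : rot (x * y) i * x = x * (rot (x * y) i)⁻¹ := by
        calc rot (x * y) i * x = (x * x) * rot (x * y) i * x := by rw [hx, one_mul]
          _ = x * (x * rot (x * y) i * x) := by group
          _ = x * (rot (x * y) i)⁻¹ := by rw [h]
      have this := rot_comm (x * y) i j
      have h3 : rot (x * y) j * (rot (x * y) i)⁻¹ = (rot (x * y) i)⁻¹ * rot (x * y) j := by
        calc rot (x * y) j * (rot (x * y) i)⁻¹
            = (rot (x * y) i)⁻¹ * (rot (x * y) i * rot (x * y) j) * (rot (x * y) i)⁻¹ := by group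
          _ = (rot (x * y) i)⁻¹ * (rot (x * y) j * rot (x * y) i) * (rot (x * y) i)⁻¹ := by rw [this]
          _ = (rot (x * y) i)⁻¹ * rot (x * y) j := by group
      rw [rot_sub, h3, ← mul_assoc (rot (x * y) i), h2, mul_assoc]
    · rw [DihedralGroup.sr_mul_r]
      change x * rot (x * y) (i + j) = x * rot (x * y) i * rot (x * y) j
      rw [rot_add, mul_assoc]
    · rw [DihedralGroup.sr_mul_sr]
      change rot (x * y) (j - i) = x * rot (x * y) i * (x * rot (x * y) j)
      have h := conj_rot hx hy i
      have this := rot_comm (x * y) i j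
      calc rot (x * y) (j - i) = rot (x * y) j * (rot (x * y) i)⁻¹ := rot_sub _ _ _
        _ = (rot (x * y) i)⁻¹ * (rot (x * y) i * rot (x * y) j) * (rot (x * y) i)⁻¹ := by group
        _ = (rot (x * y) i)⁻¹ * (rot (x * y) j * rot (x * y) i) * (rot (x * y) i)⁻¹ := by rw [this]
        _ = (rot (x * y) i)⁻¹ * rot (x * y) j := by group
        _ = (x * rot (x * y) i * x) * rot (x * y) j := by rw [h]
        _ = x * rot (x * y) i * (x * rot (x * y) j) := by group

theorem dihedralHom_r {x y : G} (hx : x * x = 1) (hy : y * y = 1) (i : ZMod (orderOf (x * y))) :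
    dihedralHom hx hy (DihedralGroup.r i) = rot (x * y) i := rfl

theorem dihedralHom_sr {x y : G} (hx : x * x = 1) (hy : y * y = 1) (i : ZMod (orderOf (x * y))) :
    dihedralHom hx hy (DihedralGroup.sr i) = x * rot (x * y) i := rfl

theorem dihedralHom_injective {x y : G} (hx : orderOf x = 2) (hy : orderOf y = 2) :
    Function.Injective (dihedralHom (sq_one_of_orderOf_two hx) (sq_one_of_orderOf_two hy)) := by
  rw [injective_iff_map_eq_one (dihedralHom (sq_one_of_orderOf_two hx) (sq_one_of_orderOf_two hy))]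
  rintro (i | i) h
  · rw [dihedralHom_r] at h
    rw [rot_eq_one _ i h, DihedralGroup.r_zero]
  · exfalso
    rw [dihedralHom_sr] at h
    obtain ⟨k, _, hk⟩ := rot_exists (x * y) i
    rw [hk] at h
    apply x_not_mem_zpowers hx hy
    have : x = (x * y) ^ (-k) := by
      rw [zpow_neg]
      exact eq_inv_of_mul_eq_one_left h
    have hmem : (x * y) ^ (-k) ∈ Subgroup.zpowers (x * y) := Subgroup.zpow_mem_zpowers _ _
    rwa [← this] at hmem

theorem dihedralHom_range {x y : G} (hx : x * x = 1) (hy : y * y = 1) :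
    (dihedralHom hx hy).range = Subgroup.closure ({x, y} : Set G) := by
  ext d
  rw [mem_closure_pair_iff hx hy, MonoidHom.mem_range]
  constructor
  · rintro ⟨(i | i), rfl⟩
    · obtain ⟨k, _, hk⟩ := rot_exists (x * y) i
      exact ⟨k, Or.inl (by rw [dihedralHom_r, hk])⟩
    · obtain ⟨k, _, hk⟩ := rot_exists (x * y) i
      exact ⟨k, Or.inr (by rw [dihedralHom_sr, hk])⟩
  · rintro ⟨k, rfl | rfl⟩
    · exact ⟨DihedralGroup.r (k : ZMod (orderOf (x * y))), by rw [dihedralHom_r, rot_intCast]⟩
    · exact ⟨DihedralGroup.sr (k : ZMod (orderOf (x * y))), by rw [dihedralHom_sr, rot_intCast]⟩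

/-- The subgroup generated by two involutions `x`, `y` is dihedral of order `2 * orderOf (x * y)`
(for `orderOf (x * y) = 0` this is the infinite dihedral group). -/
theorem nonempty_closure_pair_equiv_dihedral {x y : G} (hx : orderOf x = 2) (hy : orderOf y = 2) :
    Nonempty (Subgroup.closure ({x, y} : Set G) ≃* DihedralGroup (orderOf (x * y))) := by
  have e1 := MonoidHom.ofInjective (dihedralHom_injective hx hy)
  have e2 := MulEquiv.subgroupCongr
    (dihedralHom_range (sq_one_of_orderOf_two hx) (sq_one_of_orderOf_two hy))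
  exact ⟨(e1.trans e2).symm⟩

theorem nonempty_equiv_dihedral_of_closure_eq_top {x y : G} (hx : orderOf x = 2) (hy : orderOf y = 2)
    (htop : Subgroup.closure ({x, y} : Set G) = ⊤) :
    Nonempty (G ≃* DihedralGroup (orderOf (x * y))) := by
  obtain ⟨e⟩ := nonempty_closure_pair_equiv_dihedral hx hy
  exact ⟨(Subgroup.topEquiv.symm.trans (MulEquiv.subgroupCongr htop.symm)).trans e⟩

theorem card_closure_pair {x y : G} (hx : orderOf x = 2) (hy : orderOf y = 2) :
    Nat.card (Subgroup.closure ({x, y} : Set G)) = 2 * orderOf (x * y) := by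
  obtain ⟨e⟩ := nonempty_closure_pair_equiv_dihedral hx hy
  rw [Nat.card_congr e.toEquiv, DihedralGroup.nat_card]

end Cfsg.Agent.Lib.Helper66
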