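import Mathlib
import Cfsg.Prelude.Def_GeometricClasses
import Cfsg.Agent.Lib.Helper61.AschDefs
import Cfsg.Agent.Lib.Helper61.AschBasic
import Cfsg.Agent.Lib.Helper22.AschC4
import Cfsg.Agent.Lib.Helper46.AschODefs
import Cfsg.Agent.Lib.Helper46.AschOBasic

/-!
# K-S5673-U (for helper46's S5673): isometries of a non-degenerate quadratic form fixing a unitary form
have traces fixed by the field automorphism of the unitary form.
-/

set_option autoImplicit false
set_option linter.unusedSectionVars false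

namespace Cfsg.Agent.Lib.Helper66.AschO

open Cfsg Cfsg.Geo Cfsg.Agent.Lib.Helper61.Asch Cfsg.Agent.Lib.Helper46.AschO
open scoped Matrix Kronecker MatrixGroups

variable {F : Type*} [Field F] [Fintype F] {n : ℕ}

local notation "V" => (Fin n → F)
local notation "Mat" => Matrix (Fin n) (Fin n) F

/-- the trace of the adjoint is the trace -/
theorem trace_adjQ (Q : V → F) (hQ : IsNondegenerateQuadraticForm Q) (x : Mat) :
    Matrix.trace (adjQ Q x) = Matrix.trace x := by
  unfold adjQ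
  rw [Matrix.trace_mul_comm, ← mul_assoc, Matrix.mul_nonsing_inv _ (isUnit_det_gramQ hQ), one_mul,
    Matrix.trace_transpose]

/-- an isometry and its inverse have the same trace -/
theorem trace_inv_of_isometry (Q : V → F) (hQ : IsNondegenerateQuadraticForm Q) (g : GL (Fin n) F)
    (hg : g ∈ isometryGroup F Q) :
    Matrix.trace ((g⁻¹ : GL (Fin n) F) : Mat) = Matrix.trace ((g : GL (Fin n) F) : Mat) := by
  rw [mem_isometryGroup_iff] at hg
  have h1 : adjQ Q (g : Mat) = ((1 : Fˣ) : F) • ((g⁻¹ : GL (Fin n) F) : Mat) :=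
    adjQ_similarity hQ (g := g) (c := 1) (fun v => by rw [hg v, Units.val_one, one_mul])
  rw [Units.val_one, one_smul] at h1
  rw [← h1, trace_adjQ Q hQ]

theorem trace_tw (σ : F ≃+* F) (A : Mat) :
    Matrix.trace (Cfsg.Agent.Lib.Helper22.Asch.tw σ A) = σ (Matrix.trace A) := by
  unfold Cfsg.Agent.Lib.Helper22.Asch.tw
  simp only [Matrix.trace, Matrix.diag_apply, Matrix.map_apply, map_sum]

/-- K-S5673-U. -/
theorem trace_fixed_of_fixes_unitary (Q : V → F) (hQ : IsNondegenerateQuadraticForm Q)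
    (X : Subgroup (GL (Fin n) F)) (hXI : X ≤ isometryGroup F Q) (σ : F ≃+* F)
    (f : V → V → F) (hf : IsUnitaryForm σ f) (hfix : FixesForm (matrixSet X) f) :
    ∀ x ∈ X, σ (Matrix.trace ((x : GL (Fin n) F) : Mat)) = Matrix.trace ((x : GL (Fin n) F) : Mat) := by
  intro x hx
  have hs := Cfsg.Agent.Lib.Helper22.Asch.isSesq_of_unitary σ f hf
  have hU : IsUnit (Cfsg.Agent.Lib.Helper22.Asch.gram f) :=
    Cfsg.Agent.Lib.Helper22.Asch.isUnit_gram σ f hs (fun v hv => (hf.nondegenerate v hv).1)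
  have hUd : IsUnit (Cfsg.Agent.Lib.Helper22.Asch.gram f).det := (Matrix.isUnit_iff_isUnit_det _).mp hU
  have hfx : ((x : GL (Fin n) F) : Mat)ᵀ * Cfsg.Agent.Lib.Helper22.Asch.gram f *
      Cfsg.Agent.Lib.Helper22.Asch.tw σ (x : Mat) = Cfsg.Agent.Lib.Helper22.Asch.gram f :=
    Cfsg.Agent.Lib.Helper22.Asch.gram_fix σ f hs _ (hfix _ ⟨x, hx, rfl⟩)
  set U := Cfsg.Agent.Lib.Helper22.Asch.gram f with hUdef
  set A : Mat := ((x : GL (Fin n) F) : Mat) with hA
  set Ai : Mat := ((x⁻¹ : GL (Fin n) F) : Mat) with hAi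
  have hAiA : Ai * A = 1 := by
    rw [hAi, hA, ← Units.val_mul, inv_mul_cancel, Units.val_one]
  -- `tw σ A = U⁻¹ * Aiᵀ * U`
  have h2 : Cfsg.Agent.Lib.Helper22.Asch.tw σ A = U⁻¹ * Aiᵀ * U := by
    have h3 : Aiᵀ * Aᵀ = 1 := by
      rw [← Matrix.transpose_mul]
      have : A * Ai = 1 := by
        rw [hAi, hA, ← Units.val_mul, mul_inv_cancel, Units.val_one]
      rw [this, Matrix.transpose_one]
    calc Cfsg.Agent.Lib.Helper22.Asch.tw σ A
        = U⁻¹ * (Aiᵀ * Aᵀ) * U * Cfsg.Agent.Lib.Helper22.Asch.tw σ A := by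
          rw [h3, mul_one, Matrix.nonsing_inv_mul _ hUd, one_mul]
      _ = U⁻¹ * Aiᵀ * (Aᵀ * U * Cfsg.Agent.Lib.Helper22.Asch.tw σ A) := by
          simp only [mul_assoc]
      _ = U⁻¹ * Aiᵀ * U := by rw [hfx]
  have h4 : Matrix.trace (Cfsg.Agent.Lib.Helper22.Asch.tw σ A) = Matrix.trace Ai := by
    rw [h2, Matrix.trace_mul_comm, ← mul_assoc, Matrix.mul_nonsing_inv _ hUd, one_mul,
      Matrix.trace_transpose]
  rw [← trace_tw, h4]
  exact trace_inv_of_isometry Q hQ x (hXI hx)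

end Cfsg.Agent.Lib.Helper66.AschO
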