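import Mathlib
import Cfsg.Prelude.Def_Local
import Cfsg.Agent.Lib.Helper12.GLDefs
import Cfsg.Agent.Lib.Helper32.CoprimeDecomp
import Cfsg.Agent.S0071

/-!
# K-S1301-GL-5 (keystone 1301007, architect helper12)

Given Glauberman's theorem `GLStmt X` for a finite group `X` with `O(X) = 1`: a perfect group `B` of
automorphisms of `X` fixing a Sylow 2-subgroup pointwise has odd order.

`odd_card_of_perfect_fix_of_glStmt` takes `hGL : GLStmt X` as a hypothesis; the final
`odd_card_of_perfect_fix` is obtained by feeding `glauberman X` (helper12's assembly).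
-/

set_option autoImplicit false
set_option linter.style.haveILetI false
universe u

namespace Cfsg.Agent.Lib.Helper66.GL

open Cfsg.Agent.Lib.Helper12.GL
open scoped commutatorElement

section coprime

variable {A : Type*} [Group A]

/-- Coprime action: `[Q, Z, Z] = [Q, Z]`. -/
theorem commutator_commutator_eq_of_coprime [Finite A] {Q Z : Subgroup A}
    (hZQ : Z ≤ Subgroup.normalizer (Q : Set A)) (hcop : (Nat.card Q).Coprime (Nat.card Z))
    (hsolv : Group.IsSolvable Q ∨ Group.IsSolvable Z) : ⁅⁅Q, Z⁆, Z⁆ = ⁅Q, Z⁆ := by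
  have h1 : ⁅Q, Z⁆ ≤ Q := Subgroup.le_normalizer_iff_commutator_le_left.mp hZQ
  refine le_antisymm (Subgroup.commutator_mono h1 le_rfl) ?_
  set R₁ := ⁅Q, Z⁆ with hR₁
  set N := ⁅R₁, Z⁆ with hN
  have hdec : Q ≤ (Q ⊓ Subgroup.centralizer (Z : Set A)) ⊔ R₁ :=
    Cfsg.Agent.Lib.Helper32.le_centralizer_sup_commutator hZQ hcop hsolv
  have hQR₁ : Q ≤ Subgroup.normalizer (R₁ : Set A) := Subgroup.normalizer_commutator_ge_left Q Z
  have hR₁N : R₁ ≤ Subgroup.normalizer (N : Set A) := Subgroup.normalizer_commutator_ge_left R₁ Z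
  have hCN : Q ⊓ Subgroup.centralizer (Z : Set A) ≤ Subgroup.normalizer (N : Set A) := by
    rw [Subgroup.le_normalizer_iff]
    intro c hc n hn
    have hcQ : c ∈ Q := hc.1
    have hcZ : c ∈ Subgroup.centralizer (Z : Set A) := hc.2
    have hmap : N.map (MulAut.conj c).toMonoidHom ≤ N := by
      rw [hN, Subgroup.map_commutator]
      apply Subgroup.commutator_mono
      · rintro _ ⟨x, hx, rfl⟩
        exact (Subgroup.le_normalizer_iff.mp hQR₁) c hcQ x hx
      · rintro _ ⟨z, hz, rfl⟩
        have : c * z * c⁻¹ = z := by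
          have h := (Subgroup.mem_centralizer_iff.mp hcZ) z hz
          rw [← h, mul_inv_cancel_right]
        show c * z * c⁻¹ ∈ Z
        rw [this]; exact hz
    exact hmap ⟨n, hn, rfl⟩
  have hQN : Q ≤ Subgroup.normalizer (N : Set A) := hdec.trans (sup_le hCN hR₁N)
  -- the subgroup of elements of `Q` all of whose commutators with `Z` lie in `N`
  let T : Subgroup A :=
    { carrier := {q | q ∈ Q ∧ ∀ z ∈ Z, ⁅q, z⁆ ∈ N}
      one_mem' := ⟨Q.one_mem, fun z _ => by rw [commutatorElement_one_left]; exact N.one_mem⟩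
      mul_mem' := by
        rintro a b ⟨ha, ha'⟩ ⟨hb, hb'⟩
        refine ⟨Q.mul_mem ha hb, fun z hz => ?_⟩
        rw [commutatorElement_mul_left_eq_conj_mul]
        exact N.mul_mem ((Subgroup.le_normalizer_iff.mp hQN) a ha _ (hb' z hz)) (ha' z hz)
      inv_mem' := by
        rintro a ⟨ha, ha'⟩
        refine ⟨Q.inv_mem ha, fun z hz => ?_⟩
        rw [commutatorElement_inv_left]
        have h2 : ⁅z, a⁆ ∈ N := by
          rw [← commutatorElement_inv]; exact N.inv_mem (ha' z hz)
        have := (Subgroup.le_normalizer_iff.mp hQN) a⁻¹ (Q.inv_mem ha) _ h2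
        rwa [inv_inv] at this }
  have hT : (Q ⊓ Subgroup.centralizer (Z : Set A)) ⊔ R₁ ≤ T := by
    refine sup_le ?_ ?_
    · intro c hc
      refine ⟨hc.1, fun z hz => ?_⟩
      have h := (Subgroup.mem_centralizer_iff.mp hc.2) z hz
      have : ⁅c, z⁆ = 1 := by
        rw [commutatorElement_eq_one_iff_mul_comm]; exact h.symm
      rw [this]; exact N.one_mem
    · intro d hd
      exact ⟨h1 hd, fun z hz => Subgroup.commutator_mem_commutator hd hz⟩
  rw [Subgroup.commutator_le]
  intro q hq z hz
  exact (hT (hdec hq)).2 z hz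

end coprime


section main

/-- K-S1301-GL-5, with Glauberman's theorem as a hypothesis. -/
theorem odd_card_of_perfect_fix_of_glStmt (X : Type u) [Group X] [Finite X] (hGL : GLStmt X)
    (hO : Cfsg.pPrimeCore 2 X = ⊥) (S : Sylow 2 X) (B : Subgroup (MulAut X))
    (hBS : ∀ β ∈ B, ∀ s ∈ S, β s = s) (hB : ⁅B, B⁆ = B) : Odd (Nat.card B) := by
  classical
  haveI : Fact (Nat.Prime 2) := ⟨Nat.prime_two⟩
  obtain ⟨PB⟩ : Nonempty (Sylow 2 ↥B) := inferInstance
  -- Frobenius' criterion
  have hfrob : ∃ N : Subgroup ↥B, N.Normal ∧ N.IsComplement' (PB : Subgroup ↥B) := by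
    rw [Cfsg.Agent.S0071.result PB]
    intro Q' hQ' g hgN hgcop
    set Q : Subgroup (MulAut X) := Q'.map B.subtype with hQ
    set b : MulAut X := (g : MulAut X) with hb
    set Z : Subgroup (MulAut X) := Subgroup.zpowers b with hZ
    have hQ2 : IsPGroup 2 Q := (PB.isPGroup'.to_le hQ').map B.subtype
    have hQB : Q ≤ B := Subgroup.map_subtype_le Q'
    have hbN : b ∈ Subgroup.normalizer (Q : Set (MulAut X)) :=
      Subgroup.le_normalizer_map B.subtype ⟨g, hgN, rfl⟩
    have hZQ : Z ≤ Subgroup.normalizer (Q : Set (MulAut X)) := by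
      rw [hZ, Subgroup.zpowers_le]; exact hbN
    have hob : orderOf b = orderOf g := Subgroup.orderOf_coe g
    have hcop : (Nat.card Q).Coprime (Nat.card Z) := by
      obtain ⟨k, hk⟩ := IsPGroup.iff_card.mp hQ2
      rw [hk, hZ, Nat.card_zpowers, hob]
      exact Nat.Coprime.pow_left k hgcop.symm
    have hsolv : Group.IsSolvable Q := by
      haveI := hQ2.isNilpotent
      infer_instance
    set R : Subgroup (MulAut X) := ⁅Q, Z⁆ with hR
    have hRQ : R ≤ Q := Subgroup.le_normalizer_iff_commutator_le_left.mp hZQ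
    have hSP : SPair S R b :=
      { isP := hQ2.to_le hRQ
        odd := by rw [hob]; exact Nat.coprime_two_right.mp hgcop
        norm := (Subgroup.normalizer_commutator_ge_right Q Z) (Subgroup.mem_zpowers b)
        comm := commutator_commutator_eq_of_coprime hZQ hcop (Or.inl hsolv)
        fixR := fun r hr s hs => hBS r (hQB (hRQ hr)) s hs
        fixb := fun s hs => hBS b g.2 s hs }
    have hR1 : R = ⊥ := by
      rw [Subgroup.eq_bot_iff_forall]
      intro r hr
      ext x
      have h := hGL S R b hSP r hr x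
      rw [hO, Subgroup.mem_bot] at h
      have : r x = x := by
        have h2 : x * (x⁻¹ * r x) = x * 1 := by rw [h]
        rwa [mul_inv_cancel_left, mul_one] at h2
      simpa using this
    have hcen : Q ≤ Subgroup.centralizer (Z : Set (MulAut X)) :=
      Subgroup.commutator_eq_bot_iff_le_centralizer.mp hR1
    rw [Subgroup.mem_centralizer_iff]
    intro q' hq'
    have hqQ : (q' : MulAut X) ∈ Q := ⟨q', hq', rfl⟩
    have h := (Subgroup.mem_centralizer_iff.mp (hcen hqQ)) b (Subgroup.mem_zpowers b)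
    -- h : b * q' = q' * b
    apply Subtype.ext
    rw [Subgroup.coe_mul, Subgroup.coe_mul]
    exact h.symm
  obtain ⟨N, hNn, hNc⟩ := hfrob
  haveI := hNn
  -- `B` is perfect
  have hperf : commutator ↥B = ⊤ := by
    rw [commutator_def]
    apply Subgroup.map_injective B.subtype_injective
    rw [Subgroup.map_commutator, ← MonoidHom.range_eq_map, Subgroup.range_subtype, hB]
  -- the quotient is a perfect 2-group
  have hidx : N.index = Nat.card (PB : Subgroup ↥B) := by
    have := hNc.symm.index_eq_card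
    exact this
  obtain ⟨k, hk⟩ := IsPGroup.iff_card.mp PB.isPGroup'
  have hcardQ : Nat.card (↥B ⧸ N) = 2 ^ k := by
    rw [← Subgroup.index_eq_card, hidx, hk]
  have hQp : IsPGroup 2 (↥B ⧸ N) := IsPGroup.of_card hcardQ
  haveI : Group.IsNilpotent (↥B ⧸ N) := hQp.isNilpotent
  have hsub : Subsingleton (↥B ⧸ N) := by
    by_contra hns
    rw [not_subsingleton_iff_nontrivial] at hns
    haveI := hns
    have hlt := Group.IsSolvable.commutator_lt_top_of_nontrivial (↥B ⧸ N)
    have htop : commutator (↥B ⧸ N) = ⊤ := by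
      rw [commutator_def, ← Subgroup.map_top_of_surjective (QuotientGroup.mk' N)
        (QuotientGroup.mk'_surjective N), ← Subgroup.map_commutator, ← commutator_def, hperf]
    rw [htop] at hlt
    exact lt_irrefl _ hlt
  have hcard1 : Nat.card (PB : Subgroup ↥B) = 1 := by
    rw [hk, ← hcardQ]
    exact Nat.card_of_subsingleton (1 : ↥B ⧸ N)
  have hPB : (PB : Subgroup ↥B) = ⊥ := Subgroup.card_eq_one.mp hcard1
  rw [← Nat.not_even_iff_odd, even_iff_two_dvd]
  intro h2
  exact PB.ne_bot_of_dvd_card h2 hPB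

end main

end Cfsg.Agent.Lib.Helper66.GL
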