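/-
K-OEl-FC0t (keystone 598801, pack S5988/S5990, architect helper49): the shape `(T, k)` of an isometry
of odd prime order `r ≠ p`, with the type of `V` as a parameter (port of helper57's K-OhP FC0).
-/
import Cfsg.Agent.Lib.Helper38.OhP.Defs
import Cfsg.Agent.Lib.Helper98.Os3
import Cfsg.Agent.Lib.Helper28.OhPA
import Cfsg.Agent.Lib.Helper04.OhPC1
import Cfsg.Agent.Lib.Helper21.OhPC2
import Cfsg.Agent.Lib.Helper29.OhPS1

set_option autoImplicit false
set_option linter.unusedVariables false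

namespace Cfsg.Agent.Lib.Helper66.OEl

open Module Cfsg.Agent.Lib.Helper98.Elus Cfsg.Agent.Lib.Helper98.Sy Cfsg.Agent.Lib.Helper38.OhP

universe u
variable {F : Type u} [Field F] {V : Type u} [AddCommGroup V] [Module F V]

theorem inv_top_fc0t (y : V →ₗ[F] V) : Inv y (⊤ : Submodule F V) := fun _ _ => Submodule.mem_top

/-- **K-OEl-FC0t (598801)** -/
theorem exists_shape_t [Fintype F] [FiniteDimensional F V] (Q : QuadraticForm F V)
    (hV : NonDeg (pB Q) ⊤) (p f : ℕ) [Fact p.Prime] (hF : Fintype.card F = p ^ f)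
    (r : ℕ) [Fact r.Prime] (hpr : p ≠ r) (hr2 : r ≠ 2) (hrF : (r : F) ≠ 0) (y : V →ₗ[F] V)
    (hy : y ^ r = 1) (hy1 : y ≠ 1) (hiso : QIso Q y)
    (i c : ℕ) (hi : i = orderOf ((Fintype.card F : ℕ) : ZMod r)) (hc : c = cOf i)
    (d : ℕ) (hdim : finrank F V = 2 * d) :
    ∃ T : ℕ, 1 ≤ T ∧ T * c ≤ 2 * d ∧ finrank F (V1 r y) = T * c ∧ finrank F (V0 y) = 2 * d - T * c ∧
      (0 < 2 * d - T * c ∨ (PlusQ Q ⊤ ↔ tPlus i T)) := by
  have hR : (pB Q).IsRefl := Cfsg.Agent.Lib.Helper98.Os.isRefl_of_symm (pB_symm Q)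
  have hparts := Cfsg.Agent.Lib.Helper98.Oh.nonDeg_inf_parts_refl hR r hrF y hy hiso.iso ⊤ hV
    (inv_top_fc0t y)
  rw [top_inf_eq, top_inf_eq] at hparts
  obtain ⟨hnd0, hnd1⟩ := hparts
  have hort : Ort (pB Q) (V0 y) (V1 r y) := ort_V0_V1 r hrF y hy hiso.iso
  have hsup : V0 y ⊔ V1 r y = ⊤ := V0_sup_V1 r hrF y hy
  have hsum : finrank F (V0 y) + finrank F (V1 r y) = 2 * d := by
    have h1 := Cfsg.Agent.Lib.Helper98.Os.finrank_sup_of_ort hR (V0 y) (V1 r y) hnd0 hnd1 hort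
    rw [hsup, finrank_top, hdim] at h1
    exact h1.symm
  -- LEAF S1 of K-OhP for `U = V1 r y`
  have S1 := Cfsg.Agent.Lib.Helper29.OhP.type_of_le_V1_q_of Q p f hF r hpr y hy hiso
    (fun W1 W2 h1 h2 ho e1 e2 => Cfsg.Agent.Lib.Helper28.OhP.plusQ_sup_iff Q W1 W2 h1 h2 ho e1 e2)
    (fun U h1 h2 h3 h4 =>
      Cfsg.Agent.Lib.Helper04.OhP.exists_min_nonDeg_q Q hV p f hF r hpr hr2 hrF y hy hiso U h1 h2 h3 h4)
    (fun W h1 h2 h3 h4 =>
      Cfsg.Agent.Lib.Helper21.OhP.plusQ_iff_of_min Q hV p f hF r hpr hr2 hrF y hy hiso W h1 h2 h3 h4)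
    (V1 r y) le_rfl (inv_V1 r y) hnd1
  obtain ⟨hdvd, htype⟩ := S1
  rw [← hi, ← hc] at hdvd htype
  have hT : finrank F (V1 r y) = finrank F (V1 r y) / c * c := (Nat.div_mul_cancel hdvd).symm
  generalize finrank F (V1 r y) / c = T at hT htype ⊢
  refine ⟨T, ?_, ?_, hT, ?_, ?_⟩
  · -- `T ≥ 1` as `y ≠ 1`
    by_contra hlt
    have hT0 : T = 0 := by omega
    have h0 : finrank F (V1 r y) = 0 := by rw [hT, hT0, zero_mul]
    have hbot : V1 r y = ⊥ := Submodule.finrank_eq_zero.mp h0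
    rw [hbot, sup_bot_eq] at hsup
    apply hy1
    apply LinearMap.ext
    intro v
    have hv : v ∈ V0 y := by rw [hsup]; exact Submodule.mem_top
    rw [(mem_V0 y v).mp hv]
    rfl
  · omega
  · omega
  · by_cases hpos : 0 < 2 * d - T * c
    · exact Or.inl hpos
    · right
      have h0 : finrank F (V0 y) = 0 := by omega
      have hbot : V0 y = ⊥ := Submodule.finrank_eq_zero.mp h0
      rw [hbot, bot_sup_eq] at hsup
      rw [← hsup]
      exact htype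

end Cfsg.Agent.Lib.Helper66.OEl
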