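import Mathlib
import Cfsg.Agent.Lib.Helper23.Burnside

/-! Keystone 249010 K-PG-TRANSFER (S2490 pack, helper17 architect): Burnside transfer inside a
simple subgroup `N` of `G`. -/

namespace Cfsg.Agent.Lib.Helper66.PG7920

theorem false_of_inf_normalizer_le_centralizer {G : Type*} [Group G] [Finite G]
    (p : ℕ) [Fact p.Prime] (N : Subgroup G) (hN : IsSimpleGroup N)
    (hnab : ¬ ∀ x ∈ N, ∀ y ∈ N, x * y = y * x) (P : Sylow p G)
    (hP : (P : Subgroup G) ≠ ⊥) (hPN : (P : Subgroup G) ≤ N)
    (h : N ⊓ Subgroup.normalizer ((P : Subgroup G) : Set G) ≤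
      Subgroup.centralizer ((P : Subgroup G) : Set G)) : False := by
  have := hN
  have hnc : ¬ IsMulCommutative N := by
    intro hc
    apply hnab
    intro x hx y hy
    have := hc.is_comm.comm (⟨x, hx⟩ : N) ⟨y, hy⟩
    exact congrArg Subtype.val this
  -- `p` divides `|N|`
  have hpN : p ∣ Nat.card N := by
    have hcardP : p ∣ Nat.card (P : Subgroup G) := by
      by_contra hnd
      have hpg := P.isPGroup'
      obtain ⟨k, hk⟩ := (IsPGroup.iff_card.mp hpg)
      rcases Nat.eq_zero_or_pos k with rfl | hkpos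
      · rw [pow_zero] at hk
        have : (P : Subgroup G) = ⊥ := Subgroup.card_eq_one.mp hk
        exact hP this
      · apply hnd
        rw [hk]
        exact dvd_pow_self p hkpos.ne'
    exact hcardP.trans (Subgroup.card_dvd_of_le hPN)
  refine Cfsg.Agent.Lib.Helper23.false_of_normalizer_le_centralizer (G := N) hnc p hpN
    (P.subtype hPN) ?_
  intro x hx
  rw [Sylow.coe_subtype] at hx ⊢
  rw [← Subgroup.subgroupOf_normalizer_eq hPN] at hx
  have hx' : (x : G) ∈ Subgroup.normalizer ((P : Subgroup G) : Set G) := by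
    simpa [Subgroup.mem_subgroupOf] using hx
  have hxc := h (Subgroup.mem_inf.mpr ⟨x.2, hx'⟩)
  rw [Subgroup.mem_centralizer_iff] at hxc ⊢
  intro y hy
  have hyP : (y : G) ∈ ((P : Subgroup G) : Set G) := by
    have hy' : y ∈ (P : Subgroup G).subgroupOf N := hy
    rw [Subgroup.mem_subgroupOf] at hy'
    exact hy'
  have := hxc (y : G) hyP
  exact Subtype.ext this
end Cfsg.Agent.Lib.Helper66.PG7920
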