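/-
K-LC-A0 (keystone 640604, pack S0406, architect helper94): `4 d ∈ L ↔ Σ d even`, and `8 ∣ x · v`.
-/
import Cfsg.Agent.Lib.Helper94.LCDefs

set_option autoImplicit false
open Matrix

namespace Cfsg.Agent.Lib.Helper66.LC

open Cfsg.Agent.Lib.Helper94.LC

/-- the decomposition `4 d = Σ d_i (4 u_i - 4 u_0) + (Σ d_i) 4 u_0` -/
theorem four_mul_decomp (d : Fin 24 → ℤ) :
    (fun i => 4 * d i) =
      ∑ i, d i • ((Pi.single i (4 : ℤ) : Fin 24 → ℤ) - Pi.single 0 4) +
        (∑ i, d i) • (Pi.single 0 (4 : ℤ) : Fin 24 → ℤ) := by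
  funext j
  simp only [Pi.add_apply, Finset.sum_apply, Pi.smul_apply, Pi.sub_apply, smul_eq_mul]
  have h1 : ∀ i, d i * ((Pi.single i (4 : ℤ) : Fin 24 → ℤ) j - (Pi.single 0 (4 : ℤ) : Fin 24 → ℤ) j) =
      d i * (Pi.single i (4 : ℤ) : Fin 24 → ℤ) j - d i * (Pi.single 0 (4 : ℤ) : Fin 24 → ℤ) j :=
    fun i => mul_sub _ _ _
  rw [Finset.sum_congr rfl (fun i _ => h1 i), Finset.sum_sub_distrib, ← Finset.sum_mul]
  have h2 : ∑ i, d i * (Pi.single i (4 : ℤ) : Fin 24 → ℤ) j = 4 * d j := by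
    rw [Finset.sum_eq_single j]
    · rw [Pi.single_eq_same]; ring
    · intro i _ hij
      rw [Pi.single_eq_of_ne hij.symm, mul_zero]
    · intro h; exact absurd (Finset.mem_univ _) h
  rw [h2]; ring

variable (L : AddSubgroup (Fin 24 → ℤ))

theorem four_mul_mem_of_even (hL : CoordLattice L) (d : Fin 24 → ℤ) (h : (2 : ℤ) ∣ ∑ i, d i) :
    (fun i => 4 * d i) ∈ L := by
  rw [four_mul_decomp]
  apply L.add_mem
  · apply L.sum_mem
    intro i _
    apply L.zsmul_mem
    by_cases hi : i = 0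
    · rw [hi, sub_self]; exact L.zero_mem
    · exact hL.h4m i 0 hi
  · obtain ⟨k, hk⟩ := h
    rw [hk, mul_comm, mul_smul]
    apply L.zsmul_mem
    have : (2 : ℤ) • (Pi.single 0 (4 : ℤ) : Fin 24 → ℤ) = Pi.single 0 8 := by
      funext j
      by_cases hj : j = 0
      · subst hj; simp
      · simp [Pi.single_eq_of_ne hj]
    rw [this]
    exact hL.h8 0

/-- **K-LC-A0 (640604)**, first part -/
theorem four_mul_mem_iff (hL : CoordLattice L) (d : Fin 24 → ℤ) :
    (fun i => 4 * d i) ∈ L ↔ (2 : ℤ) ∣ ∑ i, d i := by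
  constructor
  · intro hd
    by_contra hodd
    set d' : Fin 24 → ℤ := fun i => d i - (Pi.single 0 (1 : ℤ) : Fin 24 → ℤ) i with hd'
    have hs : ∑ i, d' i = ∑ i, d i - 1 := by
      simp only [hd']
      rw [Finset.sum_sub_distrib]
      have h1 : ∑ i, (Pi.single 0 (1 : ℤ) : Fin 24 → ℤ) i = 1 := by
        rw [Finset.sum_eq_single 0]
        · simp
        · intro i _ hi
          exact Pi.single_eq_of_ne hi _
        · intro h; exact absurd (Finset.mem_univ _) h
      rw [h1]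
    have h2 : (2 : ℤ) ∣ ∑ i, d' i := by
      rw [hs]; omega
    have h3 := L.sub_mem hd (four_mul_mem_of_even L hL d' h2)
    have h4 : ((fun i => 4 * d i) - fun i => 4 * d' i) = (Pi.single 0 (4 : ℤ) : Fin 24 → ℤ) := by
      funext j
      simp only [Pi.sub_apply, hd']
      by_cases hj : j = 0
      · subst hj; simp; ring
      · simp [Pi.single_eq_of_ne hj]
    rw [h4] at h3
    have h5 : (Pi.single 0 (4 : ℤ) : Fin 24 → ℤ) ≠ 0 := by
      intro h
      have := congrFun h 0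
      simp at this
    have h6 := hL.hmin _ h3 h5
    have h7 : ssq (Pi.single 0 (4 : ℤ) : Fin 24 → ℤ) = 16 := by
      unfold ssq
      rw [Finset.sum_eq_single 0]
      · simp
      · intro i _ hi
        rw [Pi.single_eq_of_ne hi]; ring
      · intro h; exact absurd (Finset.mem_univ _) h
    omega
  · exact four_mul_mem_of_even L hL d

/-- **K-LC-A0 (640604)**, second part -/
theorem eight_dvd_dot (hL : CoordLattice L) (x v : Fin 24 → ℤ) (hx : x ∈ L) (hv : v ∈ L) :
    (8 : ℤ) ∣ ∑ i, x i * v i := by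
  have h1 : ssq (x + v) = ssq x + ssq v + 2 * ∑ i, x i * v i := by
    unfold ssq
    rw [Finset.mul_sum, ← Finset.sum_add_distrib, ← Finset.sum_add_distrib]
    apply Finset.sum_congr rfl
    intro i _
    rw [Pi.add_apply]; ring
  obtain ⟨a, ha⟩ := hL.h16 _ (L.add_mem hx hv)
  obtain ⟨b, hb⟩ := hL.h16 _ hx
  obtain ⟨c, hc⟩ := hL.h16 _ hv
  rw [ha, hb, hc] at h1
  exact ⟨a - b - c, by omega⟩

end Cfsg.Agent.Lib.Helper66.LC
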