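import Mathlib

/-! Keystone 217714 K-G2I-N3 (S2177 pack, helper37 architect): `false_of_conj_le`
(with a copy of leaf N1 `card_sup_le_mul`). -/

set_option autoImplicit false

namespace Cfsg.Agent.Lib.Helper66.G2Inv

/-- elements of `Q ⊔ L` are products when `L` normalises `Q`. -/
theorem exists_mul_of_mem_sup_of_le_normalizer {G : Type*} [Group G] (Q L : Subgroup G)
    (h : L ≤ Subgroup.normalizer (Q : Set G)) {x : G} (hx : x ∈ Q ⊔ L) :
    ∃ a ∈ Q, ∃ b ∈ L, x = a * b := by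
  have hconj : ∀ b ∈ L, ∀ a ∈ Q, b * a * b⁻¹ ∈ Q := by
    intro b hb a ha
    exact ((Subgroup.mem_normalizer_iff.mp (h hb)) a).mp ha
  rw [Subgroup.sup_eq_closure] at hx
  induction hx using Subgroup.closure_induction with
  | mem y hy =>
    rcases hy with hy | hy
    · exact ⟨y, hy, 1, L.one_mem, by simp⟩
    · exact ⟨1, Q.one_mem, y, hy, by simp⟩
  | one => exact ⟨1, Q.one_mem, 1, L.one_mem, by simp⟩
  | mul y z _ _ ihy ihz =>
    obtain ⟨a, ha, b, hb, rfl⟩ := ihy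
    obtain ⟨a', ha', b', hb', rfl⟩ := ihz
    refine ⟨a * (b * a' * b⁻¹), Q.mul_mem ha (hconj b hb a' ha'), b * b', L.mul_mem hb hb', ?_⟩
    group
  | inv y _ ihy =>
    obtain ⟨a, ha, b, hb, rfl⟩ := ihy
    refine ⟨b⁻¹ * a⁻¹ * b⁻¹⁻¹, hconj b⁻¹ (L.inv_mem hb) a⁻¹ (Q.inv_mem ha), b⁻¹, L.inv_mem hb, ?_⟩
    group

/-- **K-G2I-N1** (copy). -/
theorem card_sup_le_mul {G : Type*} [Group G] [Finite G] (Q L : Subgroup G)
    (h : L ≤ Subgroup.normalizer (Q : Set G)) : Nat.card ↥(Q ⊔ L) ≤ Nat.card ↥Q * Nat.card ↥L := by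
  rw [← Nat.card_prod]
  let f : ↥Q × ↥L → ↥(Q ⊔ L) := fun p =>
    ⟨(p.1 : G) * (p.2 : G), Subgroup.mul_mem _ (Subgroup.mem_sup_left p.1.2)
      (Subgroup.mem_sup_right p.2.2)⟩
  have hf : Function.Surjective f := by
    rintro ⟨x, hx⟩
    obtain ⟨a, ha, b, hb, rfl⟩ := exists_mul_of_mem_sup_of_le_normalizer Q L h hx
    exact ⟨(⟨a, ha⟩, ⟨b, hb⟩), rfl⟩
  exact Nat.card_le_card_of_surjective f hf

/-- **K-G2I-N3.** -/
theorem false_of_conj_le {G : Type*} [Group G] [Finite G] (U Q L : Subgroup G) (q : ℕ)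
    (hU : q ^ 6 ≤ Nat.card ↥U) (hn : L ≤ Subgroup.normalizer (Q : Set G))
    (hQ : Nat.card ↥Q ≤ q ^ 3) (hL : Nat.card ↥L < q ^ 3)
    (h : G) (hh : ∀ u ∈ U, h * u * h⁻¹ ∈ Q ⊔ L) : False := by
  let f : ↥U → ↥(Q ⊔ L) := fun u => ⟨h * (u : G) * h⁻¹, hh u u.2⟩
  have hf : Function.Injective f := by
    intro u v huv
    have h1 : h * (u : G) * h⁻¹ = h * (v : G) * h⁻¹ := congrArg Subtype.val huv
    have h2 : (u : G) = v := by
      have := congrArg (fun t => h⁻¹ * t * h) h1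
      simpa [mul_assoc] using this
    exact Subtype.ext h2
  have h1 : Nat.card ↥U ≤ Nat.card ↥(Q ⊔ L) := Nat.card_le_card_of_injective f hf
  have h2 := card_sup_le_mul Q L hn
  have hpos : 0 < q ^ 3 := lt_of_le_of_lt (Nat.zero_le _) hL
  have h3 : Nat.card ↥Q * Nat.card ↥L < q ^ 3 * q ^ 3 := Nat.mul_lt_mul_of_le_of_lt hQ hL hpos
  have h4 : q ^ 3 * q ^ 3 = q ^ 6 := by rw [← pow_add]
  omega

end Cfsg.Agent.Lib.Helper66.G2Inv
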