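import Mathlib
import Cfsg.Prelude.Def_GeometricClasses
import Cfsg.Agent.Lib.Helper99.FieldSub

/-!
# K-SLMax-X8 (keystone 250, architect helper61)

`|F| = 4`, `K ≤ M₃(F)` a field subalgebra of degree 3 (so `K ≅ F₆₄`): the normaliser of `K` meets `SL₃(4)` inside
a conjugate of `Z · GL₃(2)`.

Proof.  `K^×` has order 63, so by Cauchy there is `y ∈ K` of order 7; as `X⁷ - 1 = (X-1)(X³+X+1)(X³+X²+1)` over `F₂`,
`y` or `y⁻¹` is a root `θ` of `X³ = X + 1`, whose roots in `K` are `θ, θ², θ⁴`.  With `v₀ ≠ 0`, the matrix `P` with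
columns `v₀, θ v₀, θ² v₀` is invertible (the norm form `N(a,b,c) = det (a + bθ + cθ²)` of `F[θ]/F` vanishes only at
zero).  For `g` in the normaliser, `g θ g⁻¹ = θ ^ m₁` with `m₁ ∈ {1, 2, 4}` and `g v₀ = (a + bθ + cθ²) v₀`, so
`g P = P M` where `M` has columns `κ, T^m₁ κ, T^(2 m₁) κ` (`κ = (a,b,c)`, `T` = multiplication by `θ` in coordinates);
`det M = N(κ)` and `N(κ) = 1` forces `κ ∈ F^× · F₂³` (finite check over `F₄`), whence `c₀ g P = P M₀` with `M₀` over `F₂`.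
-/

set_option autoImplicit false
set_option linter.style.haveILetI false
set_option linter.unusedSectionVars false
set_option linter.unusedVariables false

namespace Cfsg.Agent.Lib.Helper66.SLMax

open Cfsg Cfsg.Geo Matrix

section core
variable {F : Type*} [Field F]

/-- multiplication by `θ` (a root of `X^3 = X + 1`) in the coordinates `1, θ, θ^2` -/
def T (u : Fin 3 → F) : Fin 3 → F := ![u 2, u 0 + u 2, u 1]

/-- the element of `F[θ]` with coordinates `u` -/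
def E (θ : Matrix (Fin 3) (Fin 3) F) (u : Fin 3 → F) : Matrix (Fin 3) (Fin 3) F :=
  u 0 • (1 : Matrix (Fin 3) (Fin 3) F) + u 1 • θ + u 2 • θ ^ 2

theorem E_add (θ : Matrix (Fin 3) (Fin 3) F) (u v : Fin 3 → F) : E θ (u + v) = E θ u + E θ v := by
  simp only [E, Pi.add_apply, add_smul]; abel

theorem E_smul (θ : Matrix (Fin 3) (Fin 3) F) (c : F) (u : Fin 3 → F) : E θ (c • u) = c • E θ u := by
  simp only [E, Pi.smul_apply, smul_eq_mul, mul_smul, smul_add]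

theorem E_sub (θ : Matrix (Fin 3) (Fin 3) F) (u v : Fin 3 → F) : E θ (u - v) = E θ u - E θ v := by
  simp only [E, Pi.sub_apply, sub_smul]; abel

theorem E_T (θ : Matrix (Fin 3) (Fin 3) F) (hθ : θ ^ 3 = θ + 1) (u : Fin 3 → F) :
    E θ (T u) = θ * E θ u := by
  have h1 : θ * θ = θ ^ 2 := (sq θ).symm
  have h3 : θ * θ ^ 2 = θ + 1 := by rw [← pow_succ']; exact hθ
  simp only [E, T, Matrix.cons_val_zero, Matrix.cons_val_one, Matrix.cons_val_two, Matrix.head_cons,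
    Matrix.tail_cons]
  rw [mul_add, mul_add, mul_smul_comm, mul_smul_comm, mul_smul_comm, mul_one, h1, h3]
  simp only [add_smul, smul_add]; abel

theorem E_iter (θ : Matrix (Fin 3) (Fin 3) F) (hθ : θ ^ 3 = θ + 1) (m : ℕ) (u : Fin 3 → F) :
    E θ (T^[m] u) = θ ^ m * E θ u := by
  induction m with
  | zero => simp
  | succ m ih => rw [Function.iterate_succ_apply', E_T θ hθ, ih, pow_succ', mul_assoc]

theorem E_mem (K : Subalgebra F (Matrix (Fin 3) (Fin 3) F)) {θ : Matrix (Fin 3) (Fin 3) F}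
    (hθK : θ ∈ K) (u : Fin 3 → F) : E θ u ∈ K :=
  K.add_mem (K.add_mem (K.smul_mem K.one_mem _) (K.smul_mem hθK _)) (K.smul_mem (K.pow_mem hθK 2) _)

theorem T_smul (c : F) (u : Fin 3 → F) : T (c • u) = c • T u := by
  ext i; fin_cases i <;> simp [T, mul_add]

theorem T_iter_smul (c : F) (m : ℕ) (u : Fin 3 → F) : T^[m] (c • u) = c • T^[m] u := by
  induction m with
  | zero => simp
  | succ m ih => rw [Function.iterate_succ_apply', Function.iterate_succ_apply', ih, T_smul]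

theorem T_mem (F₀ : Subfield F) {u : Fin 3 → F} (hu : ∀ i, u i ∈ F₀) : ∀ i, T u i ∈ F₀ := by
  intro i; fin_cases i
  · simpa [T] using hu 2
  · simpa [T] using F₀.add_mem (hu 0) (hu 2)
  · simpa [T] using hu 1

theorem T_iter_mem (F₀ : Subfield F) (m : ℕ) {u : Fin 3 → F} (hu : ∀ i, u i ∈ F₀) :
    ∀ i, T^[m] u i ∈ F₀ := by
  induction m with
  | zero => simpa using hu
  | succ m ih => rw [Function.iterate_succ_apply']; exact T_mem F₀ ih

/-- the matrix with the three given columns -/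
def Mc (a b d : Fin 3 → F) : Matrix (Fin 3) (Fin 3) F := Matrix.of fun r i => ![a, b, d] i r

theorem Mc_mulVec (a b d u : Fin 3 → F) : Mc a b d *ᵥ u = u 0 • a + u 1 • b + u 2 • d := by
  ext r
  simp [Mc, Matrix.mulVec, dotProduct, Fin.sum_univ_three]
  ring

theorem Mc_smul (c : F) (a b d : Fin 3 → F) : c • Mc a b d = Mc (c • a) (c • b) (c • d) := by
  ext i j; fin_cases j <;> simp [Mc]

theorem Mc_mem (F₀ : Subfield F) {a b d : Fin 3 → F} (ha : ∀ i, a i ∈ F₀) (hb : ∀ i, b i ∈ F₀)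
    (hd : ∀ i, d i ∈ F₀) : ∀ i j, Mc a b d i j ∈ F₀ := by
  intro i j; fin_cases j
  · simpa [Mc] using ha i
  · simpa [Mc] using hb i
  · simpa [Mc] using hd i

theorem E_Mc (θ : Matrix (Fin 3) (Fin 3) F) (hθ : θ ^ 3 = θ + 1) (m₁ m₂ : ℕ) (κ u : Fin 3 → F) :
    E θ (Mc κ (T^[m₁] κ) (T^[m₂] κ) *ᵥ u) =
      (u 0 • (1 : Matrix (Fin 3) (Fin 3) F) + u 1 • θ ^ m₁ + u 2 • θ ^ m₂) * E θ κ := by
  rw [Mc_mulVec, E_add, E_add, E_smul, E_smul, E_smul, E_iter θ hθ, E_iter θ hθ]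
  simp only [add_mul, smul_mul_assoc, one_mul]

/-- the matrix with columns `v₀, θ v₀, θ^2 v₀` -/
def Pm (θ : Matrix (Fin 3) (Fin 3) F) (v₀ : Fin 3 → F) : Matrix (Fin 3) (Fin 3) F :=
  Mc v₀ (θ *ᵥ v₀) ((θ ^ 2) *ᵥ v₀)

theorem Pm_mulVec (θ : Matrix (Fin 3) (Fin 3) F) (v₀ u : Fin 3 → F) :
    Pm θ v₀ *ᵥ u = E θ u *ᵥ v₀ := by
  rw [Pm, Mc_mulVec, E, Matrix.add_mulVec, Matrix.add_mulVec, Matrix.smul_mulVec, Matrix.smul_mulVec,
    Matrix.smul_mulVec, Matrix.one_mulVec]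

end core


section finite
variable {F : Type*} [Field F] [Fintype F]

theorem two_eq_zero_of_card_four (hq : Fintype.card F = 4) : (2 : F) = 0 := by
  have h4 : ((Fintype.card F : ℕ) : F) = 0 := Nat.cast_card_eq_zero F
  rw [hq] at h4
  have h22 : (2 : F) * 2 = 0 := by
    have : ((4 : ℕ) : F) = 2 * 2 := by norm_num
    rw [← this]; exact h4
  exact mul_self_eq_zero.mp h22

theorem pow_four_of_card_four (hq : Fintype.card F = 4) (x : F) : x ^ 4 = x := by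
  have := FiniteField.pow_card x
  rwa [hq] at this

/-- the prime subfield `{x | x ^ 2 = x}` of a field of characteristic two -/
def F2 (h2 : (2 : F) = 0) : Subfield F where
  carrier := {x | x ^ 2 = x}
  mul_mem' := by
    intro a b ha hb
    simp only [Set.mem_ofPred_eq] at *
    rw [mul_pow, ha, hb]
  one_mem' := by simp
  add_mem' := by
    intro a b ha hb
    simp only [Set.mem_ofPred_eq] at *
    linear_combination ha + hb + a * b * h2
  zero_mem' := by simp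
  neg_mem' := by
    intro a ha
    simp only [Set.mem_ofPred_eq] at *
    linear_combination ha + a * h2
  inv_mem' := by
    intro a ha
    simp only [Set.mem_ofPred_eq] at *
    rw [inv_pow, ha]

theorem mem_F2 (h2 : (2 : F) = 0) (x : F) : x ∈ F2 h2 ↔ x ^ 2 = x := Iff.rfl

theorem card_F2 (h2 : (2 : F) = 0) : Nat.card (F2 h2) = 2 := by
  rw [Nat.card_eq_two_iff]
  refine ⟨0, 1, ?_, ?_⟩
  · intro h
    have := congrArg Subtype.val h
    simp at this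
  · apply Set.eq_univ_of_forall
    intro z
    have hz : (z : F) ^ 2 = z := z.2
    have : (z : F) * ((z : F) - 1) = 0 := by linear_combination hz
    rcases mul_eq_zero.mp this with h | h
    · left; exact Subtype.ext h
    · right; exact Subtype.ext (sub_eq_zero.mp h)

/-- the finite check: the norm form takes the value one only on `F^× · F₂^3` -/
theorem fc1 (hq : Fintype.card F = 4) (a b c : F)
    (hN : a ^ 3 + b ^ 3 + c ^ 3 + a * b ^ 2 + a * c ^ 2 + b * c ^ 2 + a * b * c = 1) :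
    ∃ c₀ : F, c₀ ≠ 0 ∧ (c₀ * a) ^ 2 = c₀ * a ∧ (c₀ * b) ^ 2 = c₀ * b ∧ (c₀ * c) ^ 2 = c₀ * c := by
  have h2 := two_eq_zero_of_card_four hq
  have ha4 := pow_four_of_card_four hq a
  have hb4 := pow_four_of_card_four hq b
  have hc4 := pow_four_of_card_four hq c
  by_cases ha : a = 0
  · by_cases hb : b = 0
    · have hc : c ≠ 0 := by
        rintro rfl
        subst ha hb
        norm_num at hN
      refine ⟨c ^ 2, pow_ne_zero 2 hc, ?_, ?_, ?_⟩ <;> grind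
    · have hb3 : b ^ 3 = 1 := by
        have : b * (b ^ 3 - 1) = 0 := by linear_combination hb4
        rcases mul_eq_zero.mp this with h | h
        · exact absurd h hb
        · exact sub_eq_zero.mp h
      refine ⟨b ^ 2, pow_ne_zero 2 hb, ?_, ?_, ?_⟩ <;> grind
  · have ha3 : a ^ 3 = 1 := by
      have : a * (a ^ 3 - 1) = 0 := by linear_combination ha4
      rcases mul_eq_zero.mp this with h | h
      · exact absurd h ha
      · exact sub_eq_zero.mp h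
    refine ⟨a ^ 2, pow_ne_zero 2 ha, ?_, ?_, ?_⟩ <;> grind

/-- the norm form vanishes only at zero -/
theorem fc3 (hq : Fintype.card F = 4) (a b c : F)
    (hN : a ^ 3 + b ^ 3 + c ^ 3 + a * b ^ 2 + a * c ^ 2 + b * c ^ 2 + a * b * c = 0) :
    a = 0 ∧ b = 0 ∧ c = 0 := by
  have h2 := two_eq_zero_of_card_four hq
  have ha4 := pow_four_of_card_four hq a
  have hb4 := pow_four_of_card_four hq b
  have hc4 := pow_four_of_card_four hq c
  refine ⟨?_, ?_, ?_⟩ <;> grind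

theorem det_Mc12 (hq : Fintype.card F = 4) (κ : Fin 3 → F) :
    (Mc κ (T^[1] κ) (T^[2] κ)).det = κ 0 ^ 3 + κ 1 ^ 3 + κ 2 ^ 3 + κ 0 * κ 1 ^ 2 + κ 0 * κ 2 ^ 2
      + κ 1 * κ 2 ^ 2 + κ 0 * κ 1 * κ 2 := by
  have h2 := two_eq_zero_of_card_four hq
  rw [Matrix.det_fin_three]
  simp [Mc, T]
  grind

theorem det_Mc24 (hq : Fintype.card F = 4) (κ : Fin 3 → F) :
    (Mc κ (T^[2] κ) (T^[4] κ)).det = κ 0 ^ 3 + κ 1 ^ 3 + κ 2 ^ 3 + κ 0 * κ 1 ^ 2 + κ 0 * κ 2 ^ 2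
      + κ 1 * κ 2 ^ 2 + κ 0 * κ 1 * κ 2 := by
  have h2 := two_eq_zero_of_card_four hq
  rw [Matrix.det_fin_three]
  simp [Mc, T]
  grind

theorem det_Mc41 (hq : Fintype.card F = 4) (κ : Fin 3 → F) :
    (Mc κ (T^[4] κ) (T^[1] κ)).det = κ 0 ^ 3 + κ 1 ^ 3 + κ 2 ^ 3 + κ 0 * κ 1 ^ 2 + κ 0 * κ 2 ^ 2
      + κ 1 * κ 2 ^ 2 + κ 0 * κ 1 * κ 2 := by
  have h2 := two_eq_zero_of_card_four hq
  rw [Matrix.det_fin_three]
  simp [Mc, T]
  grind

end finite


section theta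
variable {F : Type*} [Field F] [Fintype F]

theorem exists_theta (hq : Fintype.card F = 4) (K : Subalgebra F (Matrix (Fin 3) (Fin 3) F))
    (hK : IsFieldSubalgebra 3 K) :
    ∃ θ ∈ K, θ ^ 3 = θ + 1 ∧ θ ^ 7 = 1 ∧
      ∀ x ∈ K, x ^ 3 = x + 1 → x = θ ∨ x = θ ^ 2 ∨ x = θ ^ 4 := by
  classical
  letI : Field ↥K := (Cfsg.Agent.Lib.Helper99.FieldSub.isField K hK).toField
  haveI : Fintype ↥K := Fintype.ofFinite _
  have h2F : (2 : F) = 0 := two_eq_zero_of_card_four hq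
  have h2 : (2 : ↥K) = 0 := by
    have : (2 : ↥K) = algebraMap F ↥K 2 := (map_ofNat (algebraMap F ↥K) 2).symm
    rw [this, h2F, map_zero]
  have h1 : Fintype.card ↥K = 64 := by
    rw [Module.card_eq_pow_finrank (K := F) (V := ↥K), hK.finrank_eq, hq]
    norm_num
  have hu : Fintype.card (↥K)ˣ = 63 := by
    rw [Fintype.card_units, h1]
  haveI : Fact (Nat.Prime 7) := ⟨by norm_num⟩
  obtain ⟨y, hy⟩ := exists_prime_orderOf_dvd_card 7 (G := (↥K)ˣ) (by rw [hu]; norm_num)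
  have hy7 : (y : ↥K) ^ 7 = 1 := by
    have := pow_orderOf_eq_one y
    rw [hy] at this
    have := congrArg Units.val this
    simpa using this
  have hy1 : (y : ↥K) ≠ 1 := by
    intro h
    have : y = 1 := Units.ext h
    rw [this, orderOf_one] at hy
    norm_num at hy
  -- factorisation
  have hfac : ((y : ↥K) - 1) * ((y : ↥K) ^ 3 + y + 1) * ((y : ↥K) ^ 3 + y ^ 2 + 1) = 0 := by
    grind
  obtain ⟨θ, hθ⟩ : ∃ θ : ↥K, θ ^ 3 = θ + 1 := by
    rcases mul_eq_zero.mp hfac with h | h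
    · rcases mul_eq_zero.mp h with h | h
      · exact absurd (sub_eq_zero.mp h) hy1
      · exact ⟨y, by grind⟩
    · exact ⟨(y : ↥K) ^ 6, by grind⟩
  have hθ7 : θ ^ 7 = 1 := by grind
  refine ⟨θ.1, θ.2, ?_, ?_, ?_⟩
  · have := congrArg Subtype.val hθ
    simpa using this
  · have := congrArg Subtype.val hθ7
    simpa using this
  · intro x hx hx3
    have hx3' : (⟨x, hx⟩ : ↥K) ^ 3 = ⟨x, hx⟩ + 1 := Subtype.ext (by simpa using hx3)
    have hprod : ((⟨x, hx⟩ : ↥K) - θ) * ((⟨x, hx⟩ : ↥K) - θ ^ 2) * ((⟨x, hx⟩ : ↥K) - θ ^ 4) = 0 := by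
      grind
    rcases mul_eq_zero.mp hprod with h | h
    · rcases mul_eq_zero.mp h with h | h
      · left
        have := congrArg Subtype.val (sub_eq_zero.mp h)
        simpa using this
      · right; left
        have := congrArg Subtype.val (sub_eq_zero.mp h)
        simpa using this
    · right; right
      have := congrArg Subtype.val (sub_eq_zero.mp h)
      simpa using this

end theta

section main
variable {F : Type*} [Field F] [Fintype F]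

theorem E_injective (hq : Fintype.card F = 4) (θ : Matrix (Fin 3) (Fin 3) F) (hθ : θ ^ 3 = θ + 1)
    (u : Fin 3 → F) (hu : E θ u = 0) : u = 0 := by
  by_contra hne
  have hdet : (Mc u (T^[1] u) (T^[2] u)).det ≠ 0 := by
    rw [det_Mc12 hq]
    intro h0
    obtain ⟨h0', h1', h2'⟩ := fc3 hq _ _ _ h0
    apply hne
    ext i; fin_cases i <;> simp [h0', h1', h2']
  set M := Mc u (T^[1] u) (T^[2] u) with hM
  have hunit : IsUnit M.det := isUnit_iff_ne_zero.mpr hdet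
  have hall : ∀ w, E θ (M *ᵥ w) = 0 := by
    intro w
    rw [hM, E_Mc θ hθ, hu, mul_zero]
  have h1 := hall (M⁻¹ *ᵥ ![1, 0, 0])
  rw [Matrix.mulVec_mulVec, Matrix.mul_nonsing_inv M hunit, Matrix.one_mulVec] at h1
  have h2 : E θ ![1, 0, 0] = 1 := by simp [E]
  rw [h2] at h1
  exact one_ne_zero h1

theorem Pm_isUnit (hq : Fintype.card F = 4) (K : Subalgebra F (Matrix (Fin 3) (Fin 3) F))
    (hK : IsFieldSubalgebra 3 K) (θ : Matrix (Fin 3) (Fin 3) F) (hθK : θ ∈ K) (hθ : θ ^ 3 = θ + 1)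
    (v₀ : Fin 3 → F) (hv₀ : v₀ ≠ 0) : IsUnit (Pm θ v₀) := by
  rw [← Matrix.mulVec_injective_iff_isUnit]
  intro u w huw
  have h0 : Pm θ v₀ *ᵥ (u - w) = 0 := by rw [Matrix.mulVec_sub, huw, sub_self]
  rw [Pm_mulVec] at h0
  have hE : E θ (u - w) = 0 := by
    by_contra hne
    exact hv₀ (Cfsg.Agent.Lib.Helper99.FieldSub.eq_zero_of_mulVec_eq_zero K hK (E_mem K hθK _) hne h0)
  exact sub_eq_zero.mp (E_injective hq θ hθ _ hE)

/-- the matrix relation `g P = P M` -/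
theorem key_rel (θ : Matrix (Fin 3) (Fin 3) F) (hθ : θ ^ 3 = θ + 1) (v₀ : Fin 3 → F)
    (g x : Matrix (Fin 3) (Fin 3) F) (hg1 : g * θ = x * g) (hg2 : g * θ ^ 2 = x ^ 2 * g)
    (m₁ m₂ : ℕ) (hx1 : x = θ ^ m₁) (hx2 : x ^ 2 = θ ^ m₂) (κ : Fin 3 → F)
    (hκ : g *ᵥ v₀ = E θ κ *ᵥ v₀) :
    g * Pm θ v₀ = Pm θ v₀ * Mc κ (T^[m₁] κ) (T^[m₂] κ) := by
  apply Matrix.mulVec_injective
  funext u
  have hgE : g * E θ u = (u 0 • (1 : Matrix (Fin 3) (Fin 3) F) + u 1 • x + u 2 • x ^ 2) * g := by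
    simp only [E, mul_add, mul_smul_comm, add_mul, smul_mul_assoc, one_mul, mul_one, hg1, hg2]
  calc (g * Pm θ v₀) *ᵥ u = g *ᵥ (Pm θ v₀ *ᵥ u) := by rw [Matrix.mulVec_mulVec]
    _ = (g * E θ u) *ᵥ v₀ := by rw [Pm_mulVec, Matrix.mulVec_mulVec]
    _ = (u 0 • (1 : Matrix (Fin 3) (Fin 3) F) + u 1 • x + u 2 • x ^ 2) *ᵥ (g *ᵥ v₀) := by
        rw [hgE, Matrix.mulVec_mulVec]
    _ = ((u 0 • (1 : Matrix (Fin 3) (Fin 3) F) + u 1 • θ ^ m₁ + u 2 • θ ^ m₂) * E θ κ) *ᵥ v₀ := by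
        rw [hκ, Matrix.mulVec_mulVec, hx2, hx1]
    _ = Pm θ v₀ *ᵥ (Mc κ (T^[m₁] κ) (T^[m₂] κ) *ᵥ u) := by
        rw [← E_Mc θ hθ, Pm_mulVec]
    _ = (Pm θ v₀ * Mc κ (T^[m₁] κ) (T^[m₂] κ)) *ᵥ u := by rw [Matrix.mulVec_mulVec]

end main


section assembly
variable {F : Type*} [Field F] [Fintype F]

open scoped MatrixGroups

/-- membership in a subfield subgroup from a matrix relation -/
theorem mem_subfieldSubgroup_of_rel (F₀ : Subfield F) (P g : GL (Fin 3) F) (c : F) (hc : c ≠ 0)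
    (N : Matrix (Fin 3) (Fin 3) F) (hN : ∀ i j, N i j ∈ F₀)
    (h : c • (g.1 * P.1) = P.1 * N) : g ∈ subfieldSubgroup F₀ P := by
  classical
  have hPinv : (P⁻¹).1 * P.1 = 1 := by rw [← Units.val_mul, inv_mul_cancel, Units.val_one]
  have hNeq : N = c • ((P⁻¹ * g * P : GL (Fin 3) F)).1 := by
    calc N = (P⁻¹).1 * (P.1 * N) := by rw [← mul_assoc, hPinv, one_mul]
      _ = (P⁻¹).1 * (c • (g.1 * P.1)) := by rw [h]
      _ = c • ((P⁻¹ * g * P : GL (Fin 3) F)).1 := by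
          rw [Matrix.mul_smul, Units.val_mul, Units.val_mul, mul_assoc]
  let M : GL (Fin 3) F := P⁻¹ * g * P
  have hdetM : M.1.det ≠ 0 := IsUnit.ne_zero ((Matrix.isUnit_iff_isUnit_det _).mp M.isUnit)
  have hdetN : N.det ≠ 0 := by
    rw [hNeq, Matrix.det_smul]
    exact mul_ne_zero (pow_ne_zero _ hc) hdetM
  let N₀ : Matrix (Fin 3) (Fin 3) F₀ := fun i j => ⟨N i j, hN i j⟩
  have hmap : (F₀.subtype).mapMatrix N₀ = N := by ext i j; rfl
  have hdet0 : N₀.det ≠ 0 := by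
    intro h0
    apply hdetN
    rw [← hmap, ← RingHom.map_det, h0, map_zero]
  let g₀ : Matrix.GeneralLinearGroup (Fin 3) F₀ := Matrix.GeneralLinearGroup.mkOfDetNeZero N₀ hdet0
  let k₁ : GL (Fin 3) F := Matrix.GeneralLinearGroup.map F₀.subtype g₀
  have hk₁ : k₁.1 = N := by
    ext i j
    rw [Matrix.GeneralLinearGroup.map_apply]
    rfl
  let s : GL (Fin 3) F := Units.map (Matrix.scalar (Fin 3) : F →+* Matrix (Fin 3) (Fin 3) F).toMonoidHom
    (Units.mk0 c⁻¹ (inv_ne_zero hc))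
  have hs : s ∈ Cfsg.Geo.scalars (Fin 3) F := ⟨_, rfl⟩
  have hs1 : s.1 = c⁻¹ • (1 : Matrix (Fin 3) (Fin 3) F) := by
    simp [s, Matrix.smul_one_eq_diagonal]
  have hks : k₁ * s = M := by
    apply Units.ext
    rw [Units.val_mul, hk₁, hs1, hNeq]
    rw [Matrix.mul_smul, Matrix.mul_one, smul_smul, inv_mul_cancel₀ hc, one_smul]
  have hk : k₁ * s ∈ (Matrix.GeneralLinearGroup.map (F₀.subtype : F₀ →+* F)).range ⊔
      Cfsg.Geo.scalars (Fin 3) F :=
    mul_mem (Subgroup.mem_sup_left ⟨g₀, rfl⟩) (Subgroup.mem_sup_right hs)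
  refine ⟨k₁ * s, hk, ?_⟩
  rw [hks]
  show MulAut.conj P M = g
  rw [MulAut.conj_apply]
  simp only [M]
  group

theorem key_mem (hq : Fintype.card F = 4) (K : Subalgebra F (Matrix (Fin 3) (Fin 3) F))
    (hK : IsFieldSubalgebra 3 K) (θ : Matrix (Fin 3) (Fin 3) F) (hθK : θ ∈ K) (hθ : θ ^ 3 = θ + 1)
    (hθ7 : θ ^ 7 = 1)
    (hroots : ∀ x ∈ K, x ^ 3 = x + 1 → x = θ ∨ x = θ ^ 2 ∨ x = θ ^ 4)
    (v₀ : Fin 3 → F) (P : GL (Fin 3) F) (hP : P.1 = Pm θ v₀)
    (g : GL (Fin 3) F) (hgN : g ∈ subalgebraNormalizer K) (hdet : g.1.det = 1) :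
    g ∈ subfieldSubgroup (F2 (two_eq_zero_of_card_four hq)) P := by
  have h2 := two_eq_zero_of_card_four hq
  set x : Matrix (Fin 3) (Fin 3) F := g.1 * θ * (g⁻¹).1 with hx
  have hxK : x ∈ K := (hgN θ).mp hθK
  have hginv : (g⁻¹).1 * g.1 = 1 := by rw [← Units.val_mul, inv_mul_cancel, Units.val_one]
  have hginv' : g.1 * (g⁻¹).1 = 1 := by rw [← Units.val_mul, mul_inv_cancel, Units.val_one]
  have hpow : ∀ n : ℕ, x ^ n = g.1 * θ ^ n * (g⁻¹).1 := fun n => Units.conj_pow g θ n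
  have hx3 : x ^ 3 = x + 1 := by
    rw [hpow 3, hθ, mul_add, add_mul, mul_one, hginv']
  have hgn : ∀ n : ℕ, g.1 * θ ^ n = x ^ n * g.1 := by
    intro n
    rw [hpow n, mul_assoc, hginv, mul_one]
  have hg1 : g.1 * θ = x * g.1 := by simpa using hgn 1
  have hg2 : g.1 * θ ^ 2 = x ^ 2 * g.1 := hgn 2
  -- coordinates of `g v₀`
  have hPu : IsUnit (Pm θ v₀) := hP ▸ P.isUnit
  have hPdet : IsUnit (Pm θ v₀).det := (Matrix.isUnit_iff_isUnit_det _).mp hPu
  set κ : Fin 3 → F := (Pm θ v₀)⁻¹ *ᵥ (g.1 *ᵥ v₀) with hκdef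
  have hκ : g.1 *ᵥ v₀ = E θ κ *ᵥ v₀ := by
    rw [← Pm_mulVec, hκdef, Matrix.mulVec_mulVec, Matrix.mul_nonsing_inv _ hPdet, Matrix.one_mulVec]
  -- the general conclusion from the relation
  have hfin : ∀ m₁ m₂ : ℕ, x = θ ^ m₁ → x ^ 2 = θ ^ m₂ →
      ((Mc κ (T^[m₁] κ) (T^[m₂] κ)).det = κ 0 ^ 3 + κ 1 ^ 3 + κ 2 ^ 3 + κ 0 * κ 1 ^ 2
        + κ 0 * κ 2 ^ 2 + κ 1 * κ 2 ^ 2 + κ 0 * κ 1 * κ 2) →
      g ∈ subfieldSubgroup (F2 h2) P := by
    intro m₁ m₂ hx1 hx2 hdetM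
    have hrel := key_rel θ hθ v₀ g.1 x hg1 hg2 m₁ m₂ hx1 hx2 κ hκ
    have hd := congrArg Matrix.det hrel
    rw [Matrix.det_mul, Matrix.det_mul, hdet, one_mul] at hd
    have hd1 : (Mc κ (T^[m₁] κ) (T^[m₂] κ)).det = 1 := by
      have h0 : (Pm θ v₀).det ≠ 0 := hPdet.ne_zero
      have : (Pm θ v₀).det * 1 = (Pm θ v₀).det * (Mc κ (T^[m₁] κ) (T^[m₂] κ)).det := by
        rw [mul_one]; exact hd
      exact (mul_left_cancel₀ h0 this).symm
    rw [hdetM] at hd1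
    obtain ⟨c₀, hc₀, h0', h1', h2'⟩ := fc1 hq _ _ _ hd1
    have hcκ : ∀ i, (c₀ • κ) i ∈ F2 h2 := by
      intro i
      fin_cases i
      · exact h0'
      · exact h1'
      · exact h2'
    refine mem_subfieldSubgroup_of_rel (F2 h2) P g c₀ hc₀
      (Mc (c₀ • κ) (T^[m₁] (c₀ • κ)) (T^[m₂] (c₀ • κ)))
      (Mc_mem _ hcκ (T_iter_mem _ m₁ hcκ) (T_iter_mem _ m₂ hcκ)) ?_
    rw [hP, hrel, T_iter_smul, T_iter_smul, ← Mc_smul, Matrix.mul_smul]
  rcases hroots x hxK hx3 with h | h | h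
  · exact hfin 1 2 (by rw [h, pow_one]) (by rw [h]) (det_Mc12 hq κ)
  · exact hfin 2 4 h (by rw [h, ← pow_mul]) (det_Mc24 hq κ)
  · refine hfin 4 1 h ?_ (det_Mc41 hq κ)
    rw [h, ← pow_mul, pow_one]
    calc θ ^ (4 * 2) = θ ^ 7 * θ := by rw [← pow_succ]
      _ = θ := by rw [hθ7, one_mul]

/-- K-SLMax-X8 -/
theorem fieldNormalizer_inf_sl_le_subfieldSubgroup_of_card_four (hq : Fintype.card F = 4)
    (K : Subalgebra F (Matrix (Fin 3) (Fin 3) F)) (hK : IsFieldSubalgebra 3 K) :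
    ∃ (F₀ : Subfield F) (r : ℕ) (P : GL (Fin 3) F), r.Prime ∧ Fintype.card F = Nat.card F₀ ^ r ∧
      subalgebraNormalizer K ⊓ specialLinear (Fin 3) F ≤ subfieldSubgroup F₀ P := by
  obtain ⟨θ, hθK, hθ, hθ7, hroots⟩ := exists_theta hq K hK
  have h2 := two_eq_zero_of_card_four hq
  have hv₀ : (Pi.single 0 1 : Fin 3 → F) ≠ 0 := by
    intro h
    have := congrFun h 0
    simp at this
  have hPu := Pm_isUnit hq K hK θ hθK hθ _ hv₀
  refine ⟨F2 h2, 2, hPu.unit, Nat.prime_two, ?_, ?_⟩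
  · rw [hq, card_F2]; norm_num
  · intro g hg
    obtain ⟨hgN, hgS⟩ := Subgroup.mem_inf.mp hg
    have hdet : g.1.det = 1 := by
      have h1 : Matrix.GeneralLinearGroup.det g = 1 := hgS
      have := congrArg Units.val h1
      simpa using this
    exact key_mem hq K hK θ hθK hθ hθ7 hroots _ hPu.unit (IsUnit.unit_spec hPu) g hgN hdet

end assembly

end Cfsg.Agent.Lib.Helper66.SLMax

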