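import Mathlib
import Cfsg.Agent.S4117

/-!
# K-S4151-C (keystone 415103): subgroup form of S4117

`Q` acts on `H` by conjugation inside `G`, all Sylow subgroups of `H` cyclic, coprime orders.
-/

set_option autoImplicit false
set_option linter.style.haveILetI false

namespace Cfsg.Agent.Lib.Helper66.S4151K

open Cfsg.Agent.Lib.Helper01
open scoped Pointwise

/-- conjugation action of `Q ≤ N_G(H)` on `H`. -/
@[reducible] def conjAct {G : Type*} [Group G] (H Q : Subgroup G)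
    (hQH : Q ≤ Subgroup.normalizer (H : Set G)) : MulDistribMulAction Q H where
  smul q h := ⟨(q : G) * h * (q : G)⁻¹, (Subgroup.mem_normalizer_iff.mp (hQH q.2) h).mp h.2⟩
  one_smul h := Subtype.ext (by show ((1 : Q) : G) * h * ((1 : Q) : G)⁻¹ = h; simp)
  mul_smul q q' h := Subtype.ext (by
    show ((q * q' : Q) : G) * h * ((q * q' : Q) : G)⁻¹ = (q : G) * ((q' : G) * h * (q' : G)⁻¹) * (q : G)⁻¹
    simp [mul_assoc])
  smul_mul q h h' := Subtype.ext (by
    show (q : G) * ((h * h' : H) : G) * (q : G)⁻¹ = ((q : G) * h * (q : G)⁻¹) * ((q : G) * h' * (q : G)⁻¹)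
    simp [mul_assoc])
  smul_one q := Subtype.ext (by show (q : G) * ((1 : H) : G) * (q : G)⁻¹ = 1; simp)

theorem conjAct_coe {G : Type*} [Group G] (H Q : Subgroup G)
    (hQH : Q ≤ Subgroup.normalizer (H : Set G)) (q : Q) (h : H) :
    letI := conjAct H Q hQH
    ((q • h : H) : G) = (q : G) * h * (q : G)⁻¹ := rfl

theorem le_normalizer_of_conj_mem {G : Type*} [Group G] (H D : Subgroup G)
    (h : ∀ x ∈ H, ∀ d ∈ D, x * d * x⁻¹ ∈ D) : H ≤ Subgroup.normalizer (D : Set G) := by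
  intro x hx
  rw [Subgroup.mem_normalizer_iff]
  intro d
  constructor
  · exact h x hx d
  · intro hd
    have := h x⁻¹ (H.inv_mem hx) _ hd
    simpa [mul_assoc] using this

theorem zgroup_coprime_subgroup {G : Type*} [Group G] [Finite G] (H Q : Subgroup G)
    (hQH : Q ≤ Subgroup.normalizer (H : Set G)) (hcop : (Nat.card Q).Coprime (Nat.card H))
    (hcyc : ∀ (p : ℕ) [Fact p.Prime] (P : Sylow p H), IsCyclic (P : Subgroup H)) :
    ∃ D : Subgroup G, D ≤ H ∧ H ≤ Subgroup.normalizer (D : Set G) ∧ Q ≤ Subgroup.normalizer (D : Set G) ∧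
      (∀ h ∈ H, ∀ q ∈ Q, h⁻¹ * (q * h * q⁻¹) ∈ D) ∧
      D ⊓ (H ⊓ Subgroup.centralizer (Q : Set G)) = ⊥ ∧
      D ⊔ (H ⊓ Subgroup.centralizer (Q : Set G)) = H ∧
      (Nat.card ↥(H ⊓ Subgroup.centralizer (Q : Set G))).Coprime (Nat.card D) := by
  classical
  letI : MulDistribMulAction Q H := conjAct H Q hQH
  obtain ⟨h1, -, h3, h4, h5⟩ := Cfsg.Agent.S4117.result (G := H) (A := Q) hcop hcyc
  set D₀ : Subgroup H := Subgroup.closure {y : H | ∃ (a : Q) (g : H), y = g⁻¹ * a • g} with hD₀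
  haveI : D₀.Normal := h3
  have hFcl : Subgroup.closure (MulAction.fixedPoints Q H) = FixedPoints.subgroup Q H :=
    Subgroup.closure_eq (FixedPoints.subgroup Q H)
  rw [hFcl] at h5
  set F₀ : Subgroup H := FixedPoints.subgroup Q H with hF₀
  -- the fixed subgroup corresponds to `H ⊓ C_G(Q)`
  have hFmap : F₀.map H.subtype = H ⊓ Subgroup.centralizer (Q : Set G) := by
    ext x
    constructor
    · rintro ⟨f, hf, rfl⟩
      rw [Subgroup.mem_inf]
      refine ⟨f.2, ?_⟩
      rw [Subgroup.mem_centralizer_iff]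
      intro q hq
      have := congrArg (Subtype.val) (hf ⟨q, hq⟩)
      have h' : (q : G) * (f : G) * (q : G)⁻¹ = (f : G) := this
      show q * (f : G) = (f : G) * q
      calc q * (f : G) = (q * (f : G) * q⁻¹) * q := by group
        _ = (f : G) * q := by rw [h']
    · intro hx
      rw [Subgroup.mem_inf] at hx
      obtain ⟨hxH, hxC⟩ := hx
      refine ⟨⟨x, hxH⟩, ?_, rfl⟩
      intro q
      apply Subtype.ext
      show (q : G) * x * (q : G)⁻¹ = x
      rw [Subgroup.mem_centralizer_iff] at hxC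
      have := hxC q q.2
      rw [this]; group
  have hsmulD : ∀ (q : Q) (n : H), n ∈ D₀ → q • n ∈ D₀ := fun q n hn =>
    Cfsg.Agent.S4117.actComm_smul_mem q n hn
  refine ⟨D₀.map H.subtype, Subgroup.map_subtype_le _, ?_, ?_, ?_, ?_, ?_, ?_⟩
  · -- H normalizes D
    apply le_normalizer_of_conj_mem
    rintro x hx _ ⟨d, hd, rfl⟩
    refine ⟨⟨x, hx⟩ * d * ⟨x, hx⟩⁻¹, h3.conj_mem d hd ⟨x, hx⟩, ?_⟩
    simp
  · -- Q normalizes D
    apply le_normalizer_of_conj_mem
    rintro q hq _ ⟨d, hd, rfl⟩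
    exact ⟨(⟨q, hq⟩ : Q) • d, hsmulD ⟨q, hq⟩ d hd, rfl⟩
  · intro h hh q hq
    refine ⟨(⟨h, hh⟩ : H)⁻¹ * (⟨q, hq⟩ : Q) • (⟨h, hh⟩ : H), ?_, rfl⟩
    exact Subgroup.subset_closure ⟨⟨q, hq⟩, ⟨h, hh⟩, rfl⟩
  · -- trivial intersection
    rw [eq_bot_iff]
    rintro x ⟨⟨d, hd, rfl⟩, hxF⟩
    rw [← hFmap] at hxF
    obtain ⟨f, hf, hfd⟩ := hxF
    have hfd' : f = d := Subtype.ext hfd
    subst hfd'
    have : f ∈ ((D₀ : Set H) ∩ MulAction.fixedPoints Q H) := ⟨hd, hf⟩
    rw [h4] at this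
    have h1' : f = 1 := this
    rw [Subgroup.mem_bot, h1']; rfl
  · -- product
    rw [← hFmap, ← Subgroup.map_sup, h5]
    ext x
    constructor
    · rintro ⟨y, -, rfl⟩; exact y.2
    · intro hx; exact ⟨⟨x, hx⟩, Subgroup.mem_top _, rfl⟩
  · -- coprimality
    rw [← hFmap]
    have hcF : Nat.card (F₀.map H.subtype) = Nat.card F₀ :=
      Subgroup.card_map_of_injective H.subtype_injective
    have hcD : Nat.card (D₀.map H.subtype) = Nat.card D₀ :=
      Subgroup.card_map_of_injective H.subtype_injective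
    rw [hcF, hcD]
    have hdisj : Disjoint D₀ F₀ := by
      rw [disjoint_iff, eq_bot_iff]
      rintro x ⟨hxD, hxF⟩
      have : x ∈ ((D₀ : Set H) ∩ MulAction.fixedPoints Q H) := ⟨hxD, hxF⟩
      rw [h4] at this
      exact this
    have hmul : (D₀ : Set H) * (F₀ : Set H) = Set.univ := by
      rw [← Subgroup.normal_mul, h5]; rfl
    have hcompl : Subgroup.IsComplement' D₀ F₀ :=
      Subgroup.isComplement'_of_disjoint_and_mul_eq_univ hdisj hmul
    have hcard : Nat.card D₀ * Nat.card F₀ = Nat.card H := hcompl.card_mul_card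
    have hF0 : Nat.card (MulAction.fixedPoints Q H : Set H) = Nat.card F₀ := rfl
    rw [hF0] at h1
    have hpos : 0 < Nat.card F₀ := Nat.card_pos
    have hdiv : Nat.card H / Nat.card F₀ = Nat.card D₀ := by
      rw [← hcard]; exact Nat.mul_div_cancel _ hpos
    rw [hdiv] at h1
    exact h1

end Cfsg.Agent.Lib.Helper66.S4151K
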