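import Mathlib
import Cfsg.Prelude.Def_GeometricClasses
import Cfsg.Agent.Lib.Helper61.AschDefs
import Cfsg.Agent.Lib.Helper43.SpAschDefs
import Cfsg.Agent.Lib.Helper43.SpAschDefs2

/-!
# K-SpAsch-T0 (for helper43's S5662): transport of the hypotheses along a bijection of index types.
-/

set_option autoImplicit false
set_option linter.unusedSectionVars false

namespace Cfsg.Agent.Lib.Helper66.SpAsch

open Cfsg Cfsg.Geo Cfsg.Agent.Lib.Helper61.Asch Cfsg.Agent.Lib.Helper43.SpAsch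
open scoped Matrix Kronecker MatrixGroups

variable {ι κ : Type} [Fintype ι] [DecidableEq ι] [Fintype κ] [DecidableEq κ] {F : Type*} [Field F] [Fintype F]

theorem comp_symm_comp (e : ι ≃ κ) (v : ι → F) : (v ∘ e.symm) ∘ e = v := by
  funext i
  simp

theorem comp_comp_symm (e : ι ≃ κ) (v : κ → F) : (v ∘ e) ∘ e.symm = v := by
  funext i
  simp

theorem comp_ne_zero (e : ι ≃ κ) {v : κ → F} (hv : v ≠ 0) : v ∘ e ≠ 0 := by
  intro h
  apply hv
  rw [← comp_comp_symm e v, h]
  rfl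

theorem isBilinearForm_formMap (e : ι ≃ κ) {f : (ι → F) → (ι → F) → F} (hf : IsBilinearForm f) :
    IsBilinearForm (formMap e f) where
  add_left := fun x y v => by
    change f ((x + y) ∘ e) (v ∘ e) = f (x ∘ e) (v ∘ e) + f (y ∘ e) (v ∘ e)
    rw [← hf.add_left]
    rfl
  smul_left := fun c x v => by
    change f ((c • x) ∘ e) (v ∘ e) = c * f (x ∘ e) (v ∘ e)
    rw [← hf.smul_left]
    rfl
  add_right := fun v x y => by
    change f (v ∘ e) ((x + y) ∘ e) = f (v ∘ e) (x ∘ e) + f (v ∘ e) (y ∘ e)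
    rw [← hf.add_right]
    rfl
  smul_right := fun c v x => by
    change f (v ∘ e) ((c • x) ∘ e) = c * f (v ∘ e) (x ∘ e)
    rw [← hf.smul_right]
    rfl

theorem isNondegenerateForm_formMap (e : ι ≃ κ) {f : (ι → F) → (ι → F) → F} (hf : IsNondegenerateForm f) :
    IsNondegenerateForm (formMap e f) := by
  intro v hv
  obtain ⟨⟨x, hx⟩, ⟨y, hy⟩⟩ := hf (v ∘ e) (comp_ne_zero e hv)
  refine ⟨⟨x ∘ e.symm, ?_⟩, ⟨y ∘ e.symm, ?_⟩⟩
  · change f ((x ∘ e.symm) ∘ e) (v ∘ e) ≠ 0
    rw [comp_symm_comp]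
    exact hx
  · change f (v ∘ e) ((y ∘ e.symm) ∘ e) ≠ 0
    rw [comp_symm_comp]
    exact hy

/-- **K-SpAsch-T0** (first part). -/
theorem isSymplecticForm_formMap (e : ι ≃ κ) {f : (ι → F) → (ι → F) → F} (hf : IsSymplecticForm f) :
    IsSymplecticForm (formMap e f) where
  bilinear := isBilinearForm_formMap e hf.bilinear
  skew := fun v w => hf.skew (v ∘ e) (w ∘ e)
  alternating := fun v => hf.alternating (v ∘ e)
  nondegenerate := isNondegenerateForm_formMap e hf.nondegenerate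

theorem glMap_mulVec_comp (e : ι ≃ κ) (g : GL ι F) (v : κ → F) :
    (((glMap e g : GL κ F) : Matrix κ κ F) *ᵥ v) ∘ e = (g : Matrix ι ι F) *ᵥ (v ∘ e) := by
  rw [glMap_mulVec, comp_symm_comp]

theorem mem_isoGL_formMap_iff (e : ι ≃ κ) (f : (ι → F) → (ι → F) → F) (g : GL ι F) :
    glMap e g ∈ isoGL (formMap e f) ↔ g ∈ isoGL f := by
  rw [mem_isoGL_iff, mem_isoGL_iff]
  constructor
  · intro h u v
    have := h (u ∘ e.symm) (v ∘ e.symm)
    change f ((((glMap e g : GL κ F) : Matrix κ κ F) *ᵥ (u ∘ e.symm)) ∘ e)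
      ((((glMap e g : GL κ F) : Matrix κ κ F) *ᵥ (v ∘ e.symm)) ∘ e) = f ((u ∘ e.symm) ∘ e) ((v ∘ e.symm) ∘ e) at this
    rw [glMap_mulVec_comp, glMap_mulVec_comp, comp_symm_comp, comp_symm_comp] at this
    exact this
  · intro h u v
    change f ((((glMap e g : GL κ F) : Matrix κ κ F) *ᵥ u) ∘ e)
      ((((glMap e g : GL κ F) : Matrix κ κ F) *ᵥ v) ∘ e) = f (u ∘ e) (v ∘ e)
    rw [glMap_mulVec_comp, glMap_mulVec_comp]
    exact h _ _

/-- **K-SpAsch-T0** (second part). -/
theorem map_isoGL (e : ι ≃ κ) (f : (ι → F) → (ι → F) → F) :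
    (isoGL f).map (glMap e).toMonoidHom = isoGL (formMap e f) := by
  ext g
  constructor
  · rintro ⟨g0, hg0, rfl⟩
    exact (mem_isoGL_formMap_iff e f g0).mpr hg0
  · intro hg
    refine ⟨(glMap e).symm g, ?_, ?_⟩
    · have : glMap e ((glMap e).symm g) ∈ isoGL (formMap e f) := by
        rw [MulEquiv.apply_symm_apply]
        exact hg
      exact (mem_isoGL_formMap_iff e f _).mp this
    · exact MulEquiv.apply_symm_apply (glMap e) g

theorem glMap_mem_scalars_iff (e : ι ≃ κ) (g : GL ι F) : glMap e g ∈ scalars κ F ↔ g ∈ scalars ι F := by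
  rw [mem_scalars_iff, mem_scalars_iff]
  constructor
  · rintro ⟨c, hc⟩
    refine ⟨c, ?_⟩
    rw [glMap_val] at hc
    ext i j
    have := congrFun (congrFun hc (e i)) (e j)
    simp only [Matrix.reindex_apply, Matrix.submatrix_apply, Equiv.symm_apply_apply, Matrix.smul_apply,
      Matrix.one_apply, EmbeddingLike.apply_eq_iff_eq] at this
    simpa [Matrix.one_apply] using this
  · rintro ⟨c, hc⟩
    refine ⟨c, ?_⟩
    rw [glMap_val, hc]
    ext i j
    simp [Matrix.one_apply]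

/-- **K-SpAsch-T0** (third part). -/
theorem map_scalars (e : ι ≃ κ) : (scalars ι F).map (glMap e).toMonoidHom = scalars κ F := by
  ext g
  constructor
  · rintro ⟨g0, hg0, rfl⟩
    exact (glMap_mem_scalars_iff e g0).mpr hg0
  · intro hg
    refine ⟨(glMap e).symm g, ?_, ?_⟩
    · have : glMap e ((glMap e).symm g) ∈ scalars κ F := by
        rw [MulEquiv.apply_symm_apply]
        exact hg
      exact (glMap_mem_scalars_iff e _).mp this
    · exact MulEquiv.apply_symm_apply (glMap e) g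

end Cfsg.Agent.Lib.Helper66.SpAsch
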