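import Cfsg.Agent.Lib.Helper43.UFDefs

set_option autoImplicit false
set_option linter.unusedSimpArgs false
set_option linter.unusedVariables false
set_option linter.unusedSectionVars false

/-! K-UF-TV (570003, helper66): unitary transvections -/

namespace Cfsg.Agent.Lib.Helper66.UF

open Module Matrix Cfsg.Agent.Lib.Helper19 Cfsg.Agent.Lib.Helper43 Cfsg.Agent.Lib.Helper43.UF

variable {F : Type*} [Field F] [Fintype F] {ι : Type} [Fintype ι] [DecidableEq ι]
variable {Q : QuadraticForm F (ι → F)}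
variable (hQ : (QuadraticMap.polarBilin Q).Nondegenerate) (hn : 7 ≤ Fintype.card ι)

local notation "ℬ" => QuadraticMap.polarBilin Q

theorem lo_tv (U : UData Q) (u : ι → F) (hu : Q u = 0) (β : F) (v : ι → F) :
    lo Q (tv U hQ hn u β) v = v + (β * ℬ v (U.J u)) • u - (β * ℬ v u) • U.J u := by
  have h1 : ℬ u (β • U.J u) = 0 := by
    rw [map_smul, U.B_self_J u hu, smul_zero]
  have h2 : Q (β • U.J u) = 0 := by
    rw [Q_smul, U.Q_J u hu, mul_zero]
  unfold tv
  rw [lo_sOf Q hQ hn u (β • U.J u) hu h1, siegelLin_apply, h2, zero_mul, sub_zero, map_smul,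
    smul_eq_mul]
  module

theorem tv_comm (U : UData Q) (u : ι → F) (hu : Q u = 0) (β : F) (x : ι → F) :
    lo Q (tv U hQ hn u β) (U.J x) = U.J (lo Q (tv U hQ hn u β) x) := by
  rw [lo_tv hQ hn U u hu β, lo_tv hQ hn U u hu β, U.B_JJ, U.B_J_left x u, map_sub, map_add,
    map_smul, map_smul, U.sq u]
  module

end Cfsg.Agent.Lib.Helper66.UF
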