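import Mathlib
import Cfsg.Prelude.Def_GeometricClasses
import Cfsg.Agent.Lib.Helper61.AschDefs
import Cfsg.Agent.Lib.Helper61.AschUDefs
import Cfsg.Agent.Lib.Helper19.AschD2Core
import Cfsg.Agent.Lib.Helper42.AschC5

/-!
# K-S5663-D2 (keystone 279, architect helper61): the symplectic-type case of the unitary Aschbacher theorem

`|F| = p^f`, `z = |Z(R)|` (`= r` for `r` odd, `= 4` for `r = 2`); in both cases `z = r · gcd(2, r)` is the exponent.
If `z ∤ p^d - 1` for all `0 < d < f`, `F` is the minimal field and `K` lies in the class-6 member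
`subgroupNormalizer R ⊓ GU`.  Otherwise the fixed field `F₀` of `x ↦ x^(p^d)` is proper and contains the traces
of `R` and its multipliers; C5 (helper42) makes `R` realisable over `F₀` and the callback `hsub` finishes.
Arithmetic and field-theory lemmas are those of helper19's linear D2 (`Lib/Helper19/AschD2Core.lean`).
-/

set_option autoImplicit false
set_option linter.unusedVariables false
set_option linter.unusedSectionVars false

namespace Cfsg.Agent.Lib.Helper66.AschU

open Cfsg Cfsg.Geo Cfsg.Agent.Lib.Helper61.Asch Cfsg.Agent.Lib.Helper61.AschU Cfsg.Agent.Lib.Helper19.Asch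
open scoped Matrix Kronecker MatrixGroups

variable {F : Type*} [Field F] [Fintype F] {n q : ℕ}

local notation "V" => (Fin n → F)
local notation "Mat" => Matrix (Fin n) (Fin n) F
local notation "Z" => scalars (Fin n) F
local notation "𝔥" => hermForm n F q
local notation "Δ" => similarityGroup (hermForm n F q)

/-- the multiplier of a power -/
theorem isSim_pow (x : GL (Fin n) F) (c : F) (h : IsSim 𝔥 x c) (k : ℕ) : IsSim 𝔥 (x ^ k) (c ^ k) := by
  induction k with
  | zero =>
    intro u v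
    simp
  | succ k ih =>
    intro u v
    rw [pow_succ, Units.val_mul, ← Matrix.mulVec_mulVec, ← Matrix.mulVec_mulVec, ih, h, pow_succ]
    ring

/-- the multiplier of the identity is one -/
theorem eq_one_of_isSim_one (hn : 0 < n) (c : F) (h : IsSim 𝔥 (1 : GL (Fin n) F) c) : c = 1 := by
  have h1 := h (Pi.single ⟨0, hn⟩ 1) (Pi.single ⟨0, hn⟩ 1)
  have h2 : hermForm n F q (Pi.single ⟨0, hn⟩ 1) (Pi.single ⟨0, hn⟩ 1) = 1 := by
    unfold hermForm
    rw [Finset.sum_eq_single (⟨0, hn⟩ : Fin n)]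
    · simp
    · intro b _ hb
      simp [Pi.single_eq_of_ne hb]
    · intro h; exact absurd (Finset.mem_univ _) h
  rw [Units.val_one, Matrix.one_mulVec, h2, mul_one] at h1
  exact h1.symm

/-- `q² = p^f` forces `f` even -/
theorem even_of_sq_eq_pow (p f q : ℕ) (hp : p.Prime) (h : q ^ 2 = p ^ f) : Even f := by
  have hq : q ∣ p ^ f := ⟨q, by rw [← h, pow_two]⟩
  obtain ⟨a, -, rfl⟩ := (Nat.dvd_prime_pow hp).mp hq
  rw [← pow_mul] at h
  have := Nat.pow_right_injective hp.two_le h
  exact ⟨a, by omega⟩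

/-- K-S5663-D2. -/
theorem ugeom_of_symplecticType (hF : Fintype.card F = q ^ 2) (K R : Subgroup (GL (Fin n) F)) (hn : 3 ≤ n)
    (hRK : R ≤ K) (hKΔ : K ≤ Δ) (hKR : NormBy K R) (hspan : spanAlg R = ⊤) (r : ℕ)
    (hR : IsSymplecticTypeGroup r R) (hrq : ¬ (r ∣ Fintype.card F))
    (htr : ∀ x ∈ R, x ∈ Z ∨ Matrix.trace ((x : GL (Fin n) F) : Mat) = 0)
    (hexp : ∀ x ∈ R, x ^ (r * Nat.gcd 2 r) = 1) (m : ℕ) (hm : 1 ≤ m) (hnm : n = r ^ m)
    (hcen : Nat.card (Subgroup.center R) = Nat.gcd (r * Nat.gcd 2 r) (Fintype.card F - 1))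
    (hcard : Nat.card R = Nat.card (Subgroup.center R) * r ^ (2 * m))
    (hsub : ∀ F₀ : Subfield F, F₀ ≠ ⊤ → RealisableOver F₀ (matrixSet R) →
      (∀ x ∈ R, ∃ c : F, c ∈ F₀ ∧ IsSim 𝔥 x c) → UGeom n q K) : UGeom n q K := by
  classical
  have hn0 : 0 < n := by omega
  have hrp := hR.prime
  obtain ⟨p, hpc⟩ := CharP.exists F
  obtain ⟨f, hp, hqf⟩ := FiniteField.card F p
  have hf0 : 0 < (f : ℕ) := f.pos
  have hrne : r ≠ p := by
    rintro rfl
    apply hrq
    rw [hqf]
    exact dvd_pow_self _ hf0.ne'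
  obtain ⟨z, hz⟩ : ∃ z, z = Nat.card (Subgroup.center R) := ⟨_, rfl⟩
  rw [← hz] at hcen hcard
  have hq1 : 1 ≤ Fintype.card F := Fintype.card_pos
  have hzq : z ∣ p ^ (f : ℕ) - 1 := by
    rw [← hqf, hcen]
    exact Nat.gcd_dvd_right _ _
  have hz1 : z ≠ 1 := by
    intro h1
    have hfact : Fact r.Prime := ⟨hrp⟩
    have hnt : Nontrivial R := by
      rw [← Finite.one_lt_card_iff_nontrivial, hcard, h1, one_mul]
      exact Nat.one_lt_pow (by omega) hrp.one_lt
    have := hR.pGroup.center_nontrivial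
    rw [← Finite.one_lt_card_iff_nontrivial, ← hz] at this
    omega
  -- `z` is the exponent `r * gcd 2 r`
  have hze : z = r * Nat.gcd 2 r := by
    by_cases h2 : r = 2
    · have h4 : z = Nat.gcd 4 (Fintype.card F - 1) := by
        rw [hcen, h2, Nat.gcd_self]
      have hqodd : ¬ 2 ∣ q := by
        intro h
        apply hrq
        rw [h2, hF]
        exact Dvd.dvd.pow h (by norm_num)
      have h8 : 4 ∣ q ^ 2 - 1 := by
        have hq2 : q % 4 = 1 ∨ q % 4 = 3 := by omega
        have : q ^ 2 % 4 = 1 := by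
          rw [pow_two, Nat.mul_mod]
          rcases hq2 with h | h <;> rw [h]
        have hpos : 1 ≤ q ^ 2 := Nat.one_le_pow _ _ (by omega)
        omega
      rw [h4, hF, h2, Nat.gcd_self]
      exact Nat.gcd_eq_left h8
    · have hodd : Nat.gcd 2 r = 1 := (Nat.coprime_primes Nat.prime_two hrp).2 (Ne.symm h2)
      have h4 : z = Nat.gcd r (Fintype.card F - 1) := by
        rw [hcen, hodd, mul_one]
      have hdvd : z ∣ r := h4 ▸ Nat.gcd_dvd_left _ _
      rw [hodd, mul_one]
      rcases (Nat.dvd_prime hrp).1 hdvd with h | h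
      · exact absurd h hz1
      · exact h
  have htc := fun x hx => trace_cases hn0 R htr x hx
  rw [← hz] at htc
  by_cases hsubf : ∃ d, 0 < d ∧ d < (f : ℕ) ∧ z ∣ p ^ d - 1
  · -- subfield case
    obtain ⟨d, hd0, hdf, hzd⟩ := hsubf
    obtain ⟨F₀, hF₀⟩ := exists_fixedField (F := F) p hp d
    have hP1 : 1 ≤ p ^ d := Nat.one_le_pow _ _ hp.pos
    have htrF : ∀ x ∈ R, Matrix.trace ((x : GL (Fin n) F) : Mat) ∈ F₀ := by
      intro x hx
      rcases htc x hx with ⟨h1, -⟩ | ⟨c, hc, h1, -⟩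
      · rw [h1]; exact F₀.zero_mem
      · rw [h1]
        refine F₀.mul_mem ?_ (natCast_mem F₀ n)
        rw [hF₀]
        exact pow_eq_self_of_root c z (p ^ d) hc hP1 hzd
    have hne : F₀ ≠ ⊤ := by
      intro htop
      obtain ⟨x, hx⟩ := exists_not_fixed (F := F) p f d hp hqf hd0 hdf
      apply hx
      rw [← hF₀, htop]
      exact Subfield.mem_top x
    have hreal := Cfsg.Agent.Lib.Helper42.Asch.realisableOver_of_trace_mem R hspan F₀ htrF
    refine hsub F₀ hne hreal ?_
    intro x hx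
    obtain ⟨c, hc⟩ := hKΔ (hRK hx)
    refine ⟨(c : F), ?_, hc⟩
    have hpow := isSim_pow (q := q) x (c : F) hc (r * Nat.gcd 2 r)
    rw [hexp x hx] at hpow
    have hc1 : (c : F) ^ (r * Nat.gcd 2 r) = 1 := eq_one_of_isSim_one (q := q) hn0 _ hpow
    rw [hF₀]
    exact pow_eq_self_of_root (c : F) z (p ^ d) (by rw [hze]; exact hc1) hP1 hzd
  · -- class 6
    have hmin : ∀ d : ℕ, 0 < d → d < (f : ℕ) → ¬ z ∣ p ^ d - 1 := by
      intro d hd0 hdf hzd
      exact hsubf ⟨d, hd0, hdf, hzd⟩
    have hminF : IsMinimalFieldFor (Nat.card (Subgroup.center R)) p (f : ℕ) F := by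
      rw [← hz]
      exact ⟨hp, hpc, hqf, hzq, hmin⟩
    refine ⟨subgroupNormalizer R ⊓ GU n F q, Or.inl ?_,
      inf_le_inf_right _ (le_subgroupNormalizer_of_normBy K R hKR)⟩
    right; right; right; right; right; right; right
    refine ⟨r, R, p, (f : ℕ), m, hR, absIrred_of_spanAlg_eq_top R hspan, hRK.trans hKΔ, hrne, hminF, ?_, rfl⟩
    by_cases h2 : r = 2
    · right
      have hz4 : z = 4 := by rw [hze, h2, Nat.gcd_self]
      have hfeven : Even (f : ℕ) := even_of_sq_eq_pow p f q hp (by rw [← hF, hqf])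
      have hpodd : Odd p := by
        rcases hp.eq_two_or_odd' with h | h
        · exfalso
          apply hrq
          rw [h2, hqf, h]
          exact dvd_pow_self _ hf0.ne'
        · exact h
      have hf2 : (f : ℕ) = 2 := by
        by_contra hne2
        obtain ⟨a, ha⟩ := hfeven
        have h2f : 2 < (f : ℕ) := by omega
        apply hmin 2 (by norm_num) h2f
        rw [hz4]
        obtain ⟨j, rfl⟩ := hpodd
        have : (2 * j + 1) ^ 2 - 1 = 4 * (j * (j + 1)) := by
          have : (2 * j + 1) ^ 2 = 4 * (j * (j + 1)) + 1 := by ring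
          omega
        rw [this]
        exact Dvd.intro _ rfl
      refine ⟨h2, hf2, hz ▸ hz4, ?_⟩
      rw [hcard, hz4, h2, pow_add]
      norm_num
    · left
      have hodd : Nat.gcd 2 r = 1 := (Nat.coprime_primes Nat.prime_two hrp).2 (Ne.symm h2)
      have hzr : z = r := by rw [hze, hodd, mul_one]
      refine ⟨hrp.eq_two_or_odd'.resolve_left h2, hz ▸ hzr, hm, ?_⟩
      rw [hcard, hzr, pow_add, pow_one]

end Cfsg.Agent.Lib.Helper66.AschU
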