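import Mathlib
import Cfsg.Prelude.Def_GeometricClasses
import Cfsg.Agent.Lib.Helper11.SymF3
import Cfsg.Agent.Lib.Helper11.TensorPlumb
import Cfsg.Agent.Lib.Helper18.SympTrans

/-!
# K-SpMax-XC (keystone 579015, architect helper44)

`|F| = 3`: the tensor product subgroup `Sp_{n₁}(3) ⊗ O₃(3)` of `Sp_{2m}(3)` stabilises a decomposition into three
non-degenerate `n₁`-spaces.  Built on helper11's `Frame` (a uniform orthogonal frame `e₁, e₂, e₃` of the symmetric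
form `f₂`, `f₂ eᵢ eᵢ = δ`; vectors of norm `δ` are multiples of frame vectors; similarities are isometries) and the
tensor plumbing `tau`, `pt`.  `D i` is the image of `x ↦ tau (x ⊗ eᵢ)`.

NOTE: the extra hypothesis `hm : 1 ≤ m` is necessary (for `m = 0` one has `n₁ = 0`, all hypotheses hold and
`IsNondegenerateMDecomposition` fails by `decomp.pos`).
-/

set_option autoImplicit false
set_option linter.unusedSectionVars false
set_option linter.unusedVariables false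

namespace Cfsg.Agent.Lib.Helper66.SpMax

open Cfsg Cfsg.Geo Matrix
open Cfsg.Agent.Lib.Helper18 Cfsg.Agent.Lib.Helper11.SymF3 Cfsg.Agent.Lib.Helper11.TensorPlumb
open scoped Kronecker MatrixGroups

section
variable {F : Type*} [Field F] [Fintype F] {m : ℕ} {n₁ : ℕ}

local notation "V" => (Fin m ⊕ Fin m → F)
local notation "ff" => Cfsg.sympForm m F

/-- `x ↦ tau (x ⊗ y)` as a linear map -/
def Lmap (e : (Fin m ⊕ Fin m) ≃ Fin n₁ × Fin 3) (P : GL (Fin m ⊕ Fin m) F) (y : Fin 3 → F) :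
    (Fin n₁ → F) →ₗ[F] V where
  toFun x := tau e P (pt x y)
  map_add' x x' := by rw [pt_add_left, tau_add]
  map_smul' c x := by rw [pt_smul_left, tau_smul]; rfl

theorem Lmap_apply (e : (Fin m ⊕ Fin m) ≃ Fin n₁ × Fin 3) (P : GL (Fin m ⊕ Fin m) F) (y : Fin 3 → F)
    (x : Fin n₁ → F) : Lmap e P y x = tau e P (pt x y) := rfl

/-- the frame vectors as a family -/
def bb {f₂ : (Fin 3 → F) → (Fin 3 → F) → F} (R : Frame f₂) : Fin 3 → (Fin 3 → F) :=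
  ![R.e₁, R.e₂, R.e₃]

theorem bb_gram {f₂ : (Fin 3 → F) → (Fin 3 → F) → F} (h₂ : IsSymmetricForm f₂) (R : Frame f₂)
    (i j : Fin 3) : f₂ (bb R i) (bb R j) = if i = j then R.δ else 0 := by
  fin_cases i <;> fin_cases j <;>
    simp [bb, R.h11, R.h22, R.h33, R.h12, R.h13, R.h23, R.h21 h₂, R.h31 h₂, R.h32 h₂]

/-- the decomposition -/
def DD (e : (Fin m ⊕ Fin m) ≃ Fin n₁ × Fin 3) (P : GL (Fin m ⊕ Fin m) F)
    {f₂ : (Fin 3 → F) → (Fin 3 → F) → F} (R : Frame f₂) (i : Fin 3) : Submodule F V :=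
  LinearMap.range (Lmap e P (bb R i))

theorem eq_zero_of_tau_pt (e : (Fin m ⊕ Fin m) ≃ Fin n₁ × Fin 3) (P : GL (Fin m ⊕ Fin m) F)
    (f₁ : (Fin n₁ → F) → (Fin n₁ → F) → F) (f₂ : (Fin 3 → F) → (Fin 3 → F) → F)
    (h₁ : IsSymplecticForm f₁) (h₂ : IsSymmetricForm f₂) (c : F) (hc : c ≠ 0)
    (hΦ : ∀ (x x' : Fin n₁ → F) (y y' : Fin 3 → F),
      ff (tau e P (pt x y)) (tau e P (pt x' y')) = c * (f₁ x x' * f₂ y y'))
    (y : Fin 3 → F) (hy : f₂ y y ≠ 0) (x : Fin n₁ → F)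
    (h : tau e P (pt x y) = 0) : x = 0 := by
  by_contra hx
  obtain ⟨x', hx'⟩ := (h₁.nondegenerate x hx).2
  have := hΦ x x' y y
  rw [h, sf_zero_left] at this
  exact (mul_ne_zero hc (mul_ne_zero hx' hy)) this.symm

theorem finrank_DD (e : (Fin m ⊕ Fin m) ≃ Fin n₁ × Fin 3) (P : GL (Fin m ⊕ Fin m) F)
    (f₁ : (Fin n₁ → F) → (Fin n₁ → F) → F) (f₂ : (Fin 3 → F) → (Fin 3 → F) → F)
    (h₁ : IsSymplecticForm f₁) (h₂ : IsSymmetricForm f₂) (c : F) (hc : c ≠ 0)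
    (hΦ : ∀ (x x' : Fin n₁ → F) (y y' : Fin 3 → F),
      ff (tau e P (pt x y)) (tau e P (pt x' y')) = c * (f₁ x x' * f₂ y y'))
    (R : Frame f₂) (i : Fin 3) : Module.finrank F (DD e P R i) = n₁ := by
  have hinj : Function.Injective (Lmap e P (bb R i)) := by
    rw [injective_iff_map_eq_zero]
    intro x hx
    refine eq_zero_of_tau_pt e P f₁ f₂ h₁ h₂ c hc hΦ (bb R i) ?_ x hx
    rw [bb_gram h₂ R, if_pos rfl]
    exact R.hδ
  rw [DD, LinearMap.finrank_range_of_inj hinj, Module.finrank_fin_fun]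

theorem orth_DD (e : (Fin m ⊕ Fin m) ≃ Fin n₁ × Fin 3) (P : GL (Fin m ⊕ Fin m) F)
    (f₁ : (Fin n₁ → F) → (Fin n₁ → F) → F) (f₂ : (Fin 3 → F) → (Fin 3 → F) → F)
    (h₁ : IsSymplecticForm f₁) (h₂ : IsSymmetricForm f₂) (c : F) (hc : c ≠ 0)
    (hΦ : ∀ (x x' : Fin n₁ → F) (y y' : Fin 3 → F),
      ff (tau e P (pt x y)) (tau e P (pt x' y')) = c * (f₁ x x' * f₂ y y'))
    (R : Frame f₂) (i j : Fin 3) (hij : i ≠ j) :
    AreOrthogonalFor ff (DD e P R i) (DD e P R j) := by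
  rintro u ⟨x, rfl⟩ v ⟨x', rfl⟩
  rw [Lmap_apply, Lmap_apply, hΦ, bb_gram h₂ R, if_neg hij, mul_zero, mul_zero]

theorem nondeg_DD (e : (Fin m ⊕ Fin m) ≃ Fin n₁ × Fin 3) (P : GL (Fin m ⊕ Fin m) F)
    (f₁ : (Fin n₁ → F) → (Fin n₁ → F) → F) (f₂ : (Fin 3 → F) → (Fin 3 → F) → F)
    (h₁ : IsSymplecticForm f₁) (h₂ : IsSymmetricForm f₂) (c : F) (hc : c ≠ 0)
    (hΦ : ∀ (x x' : Fin n₁ → F) (y y' : Fin 3 → F),
      ff (tau e P (pt x y)) (tau e P (pt x' y')) = c * (f₁ x x' * f₂ y y'))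
    (R : Frame f₂) (i : Fin 3) : IsNondegenerateOn ff (DD e P R i) := by
  rintro w ⟨x, rfl⟩ hw
  have hx : x ≠ 0 := by
    rintro rfl
    exact hw (map_zero _)
  obtain ⟨⟨x', hx'⟩, ⟨x'', hx''⟩⟩ := h₁.nondegenerate x hx
  refine ⟨⟨Lmap e P (bb R i) x', ⟨x', rfl⟩, ?_⟩, ⟨Lmap e P (bb R i) x'', ⟨x'', rfl⟩, ?_⟩⟩
  · rw [Lmap_apply, Lmap_apply, hΦ, bb_gram h₂ R, if_pos rfl]
    exact mul_ne_zero hc (mul_ne_zero hx' R.hδ)
  · rw [Lmap_apply, Lmap_apply, hΦ, bb_gram h₂ R, if_pos rfl]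
    exact mul_ne_zero hc (mul_ne_zero hx'' R.hδ)

theorem indep_DD (e : (Fin m ⊕ Fin m) ≃ Fin n₁ × Fin 3) (P : GL (Fin m ⊕ Fin m) F)
    (f₁ : (Fin n₁ → F) → (Fin n₁ → F) → F) (f₂ : (Fin 3 → F) → (Fin 3 → F) → F)
    (h₁ : IsSymplecticForm f₁) (h₂ : IsSymmetricForm f₂) (c : F) (hc : c ≠ 0)
    (hΦ : ∀ (x x' : Fin n₁ → F) (y y' : Fin 3 → F),
      ff (tau e P (pt x y)) (tau e P (pt x' y')) = c * (f₁ x x' * f₂ y y'))
    (R : Frame f₂) : iSupIndep (DD e P R) := by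
  intro i
  rw [Submodule.disjoint_def]
  intro v hvi hvs
  by_contra hv0
  obtain ⟨⟨w, hwD, hw⟩, -⟩ := nondeg_DD e P f₁ f₂ h₁ h₂ c hc hΦ R i v hvi hv0
  apply hw
  let O : Submodule F V :=
    { carrier := {u | ff w u = 0}
      add_mem' := by
        intro a b ha hb
        simp only [Set.mem_ofPred_eq] at *
        rw [sf_add_right, ha, hb, add_zero]
      zero_mem' := by
        simp only [Set.mem_ofPred_eq]
        exact sf_zero_right m w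
      smul_mem' := by
        intro a b hb
        simp only [Set.mem_ofPred_eq] at *
        rw [sf_smul_right, hb, mul_zero] }
  have hle : (⨆ (j : Fin 3) (_ : j ≠ i), DD e P R j) ≤ O := by
    refine iSup_le fun j => iSup_le fun hj => ?_
    intro u hu
    exact orth_DD e P f₁ f₂ h₁ h₂ c hc hΦ R i j (Ne.symm hj) w hwD u hu
  exact hle hvs

theorem top_DD (e : (Fin m ⊕ Fin m) ≃ Fin n₁ × Fin 3) (P : GL (Fin m ⊕ Fin m) F)
    (f₁ : (Fin n₁ → F) → (Fin n₁ → F) → F) (f₂ : (Fin 3 → F) → (Fin 3 → F) → F)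
    (h₁ : IsSymplecticForm f₁) (h₂ : IsSymmetricForm f₂) (c : F) (hc : c ≠ 0)
    (hΦ : ∀ (x x' : Fin n₁ → F) (y y' : Fin 3 → F),
      ff (tau e P (pt x y)) (tau e P (pt x' y')) = c * (f₁ x x' * f₂ y y'))
    (hq : Fintype.card F = 3) (R : Frame f₂) : iSup (DD e P R) = ⊤ := by
  rw [eq_top_iff]
  intro v _
  obtain ⟨z, rfl⟩ := tau_surj e P v
  set x₁ : Fin n₁ → F := fun a => R.δ * f₂ (fun j => z (a, j)) R.e₁ with hx₁
  set x₂ : Fin n₁ → F := fun a => R.δ * f₂ (fun j => z (a, j)) R.e₂ with hx₂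
  set x₃ : Fin n₁ → F := fun a => R.δ * f₂ (fun j => z (a, j)) R.e₃ with hx₃
  have hz : z = pt x₁ R.e₁ + pt x₂ R.e₂ + pt x₃ R.e₃ := by
    funext p
    obtain ⟨a, j⟩ := p
    have := congrFun (R.span hq h₂ (by simp) (fun j => z (a, j))) j
    simp only [Pi.add_apply, Pi.smul_apply, smul_eq_mul] at this
    simp only [pt, Pi.add_apply, hx₁, hx₂, hx₃]
    exact this
  rw [hz, tau_add, tau_add]
  refine Submodule.add_mem _ (Submodule.add_mem _ ?_ ?_) ?_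
  · exact Submodule.mem_iSup_of_mem (0 : Fin 3) ⟨x₁, rfl⟩
  · exact Submodule.mem_iSup_of_mem (1 : Fin 3) ⟨x₂, rfl⟩
  · exact Submodule.mem_iSup_of_mem (2 : Fin 3) ⟨x₃, rfl⟩

theorem exists_hyp (f₁ : (Fin n₁ → F) → (Fin n₁ → F) → F)
    (hf₁ : IsSymplecticForm f₁) (hn₁ : 0 < n₁) :
    ∃ z w : Fin n₁ → F, f₁ z w = 1 := by
  have hw0 : (Pi.single (⟨0, hn₁⟩ : Fin n₁) (1 : F) : Fin n₁ → F) ≠ 0 := by
    intro h
    have := congrFun h ⟨0, hn₁⟩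
    simp at this
  obtain ⟨x, hx⟩ := (hf₁.nondegenerate _ hw0).1
  refine ⟨(f₁ x (Pi.single (⟨0, hn₁⟩ : Fin n₁) (1 : F)))⁻¹ • x, Pi.single ⟨0, hn₁⟩ 1, ?_⟩
  rw [hf₁.bilinear.smul_left, inv_mul_cancel₀ hx]

theorem stab_DD (e : (Fin m ⊕ Fin m) ≃ Fin n₁ × Fin 3) (P : GL (Fin m ⊕ Fin m) F)
    (f₁ : (Fin n₁ → F) → (Fin n₁ → F) → F) (f₂ : (Fin 3 → F) → (Fin 3 → F) → F)
    (h₁ : IsSymplecticForm f₁) (h₂ : IsSymmetricForm f₂) (c : F) (hc : c ≠ 0)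
    (hΦ : ∀ (x x' : Fin n₁ → F) (y y' : Fin 3 → F),
      ff (tau e P (pt x y)) (tau e P (pt x' y')) = c * (f₁ x x' * f₂ y y'))
    (hq : Fintype.card F = 3) (hn₁ : 0 < n₁) (R : Frame f₂) (g : GL (Fin m ⊕ Fin m) F)
    (hg : g ∈ tensorProductSubgroup n₁ 3 e P ⊓ spGL m F) :
    g ∈ decompositionStabilizer (DD e P R) := by
  obtain ⟨a, b, hab⟩ := mem_tensor e P g hg.1
  obtain ⟨z, w, hzw⟩ := exists_hyp f₁ h₁ hn₁
  have hsp : ∀ u v : V, ff (g.1 *ᵥ u) (g.1 *ᵥ v) = ff u v := hg.2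
  have hsim : ∀ y y', f₁ (a.1 *ᵥ z) (a.1 *ᵥ w) * f₂ (b.1 *ᵥ y) (b.1 *ᵥ y') = f₂ y y' := by
    intro y y'
    have h1 := hsp (tau e P (pt z y)) (tau e P (pt w y'))
    rw [hab, hab, kron_pt, kron_pt, hΦ, hΦ, hzw, one_mul] at h1
    exact mul_left_cancel₀ hc h1
  have hμ : f₁ (a.1 *ᵥ z) (a.1 *ᵥ w) ≠ 0 := by
    intro h0
    have := hsim R.e₁ R.e₁
    rw [h0, zero_mul, R.h11] at this
    exact R.hδ this.symm
  have hsim' : ∀ y y', f₂ (b.1 *ᵥ y) (b.1 *ᵥ y') = (f₁ (a.1 *ᵥ z) (a.1 *ᵥ w))⁻¹ * f₂ y y' := by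
    intro y y'
    rw [← hsim y y', ← mul_assoc, inv_mul_cancel₀ hμ, one_mul]
  have hone : (f₁ (a.1 *ᵥ z) (a.1 *ᵥ w))⁻¹ = 1 := by
    rcases R.sim_one hq h₂ (by simp) b.1 _ hsim' with h | h
    · exact absurd h (inv_ne_zero hμ)
    · exact h
  have hiso : ∀ y y', f₂ (b.1 *ᵥ y) (b.1 *ᵥ y') = f₂ y y' := by
    intro y y'
    rw [hsim', hone, one_mul]
  -- the action on the frame
  have hfr : ∀ i : Fin 3, ∃ k : Fin 3, ∃ s : F, b.1 *ᵥ bb R i = s • bb R k := by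
    intro i
    have hn : f₂ (b.1 *ᵥ bb R i) (b.1 *ᵥ bb R i) = R.δ := by
      rw [hiso, bb_gram h₂ R, if_pos rfl]
    rcases R.norm_cases hq h₂ (by simp) _ hn with ⟨s, hs⟩ | ⟨s, hs⟩ | ⟨s, hs⟩
    · exact ⟨0, s, hs⟩
    · exact ⟨1, s, hs⟩
    · exact ⟨2, s, hs⟩
  choose σ s hσ using hfr
  have hs0 : ∀ i, s i ≠ 0 := by
    intro i h0
    have hn : f₂ (b.1 *ᵥ bb R i) (b.1 *ᵥ bb R i) = R.δ := by
      rw [hiso, bb_gram h₂ R, if_pos rfl]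
    rw [hσ, h0, zero_smul, bf_zero_left f₂ h₂.bilinear] at hn
    exact R.hδ hn.symm
  have hinj : Function.Injective σ := by
    intro i j hij
    by_contra hne
    have h1 : f₂ (b.1 *ᵥ bb R i) (b.1 *ᵥ bb R j) = 0 := by
      rw [hiso, bb_gram h₂ R, if_neg hne]
    rw [hσ i, hσ j, hij, h₂.bilinear.smul_left, h₂.bilinear.smul_right, bb_gram h₂ R, if_pos rfl] at h1
    exact (mul_ne_zero (hs0 i) (mul_ne_zero (hs0 j) R.hδ)) h1
  refine ⟨Equiv.ofBijective σ (Finite.injective_iff_bijective.mp hinj), fun i => ?_⟩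
  rw [Equiv.ofBijective_apply]
  have hact : ∀ x : Fin n₁ → F, g.1 *ᵥ (Lmap e P (bb R i) x) =
      Lmap e P (bb R (σ i)) (s i • (a.1 *ᵥ x)) := by
    intro x
    rw [Lmap_apply, Lmap_apply, hab, kron_pt, hσ, pt_smul_right, pt_smul_left]
  ext v
  constructor
  · rintro ⟨_, ⟨x, rfl⟩, rfl⟩
    rw [Matrix.toLin'_apply, hact]
    exact ⟨_, rfl⟩
  · rintro ⟨x', rfl⟩
    refine ⟨Lmap e P (bb R i) ((s i)⁻¹ • ((a⁻¹ : GL (Fin n₁) F).1 *ᵥ x')), ⟨_, rfl⟩, ?_⟩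
    rw [Matrix.toLin'_apply, hact]
    congr 1
    rw [Matrix.mulVec_smul, Matrix.mulVec_mulVec, ← Units.val_mul, mul_inv_cancel, Units.val_one,
      Matrix.one_mulVec, smul_smul, mul_inv_cancel₀ (hs0 i), one_smul]

/-- K-SpMax-XC (with the necessary extra hypothesis `1 ≤ m`). -/
theorem tensor_three_le_decomposition_of_card_three (hq : Fintype.card F = 3) (hm : 1 ≤ m) {n₁ : ℕ}
    (e : (Fin m ⊕ Fin m) ≃ Fin n₁ × Fin 3) (P : GL (Fin m ⊕ Fin m) F)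
    (f₁ : (Fin n₁ → F) → (Fin n₁ → F) → F) (f₂ : (Fin 3 → F) → (Fin 3 → F) → F)
    (h₁ : IsSymplecticForm f₁) (h₂ : IsSymmetricForm f₂)
    (hT : IsTensorFormStructure id (sympForm m F) f₁ f₂ e P) :
    ∃ D : Fin 3 → Submodule F (Fin m ⊕ Fin m → F), IsNondegenerateMDecomposition (sympForm m F) n₁ D ∧
      tensorProductSubgroup n₁ 3 e P ⊓ spGL m F ≤ decompositionStabilizer D := by
  obtain ⟨c, hc, hTc⟩ := hT
  have hcard : m + m = n₁ * 3 := by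
    have := Fintype.card_congr e
    simpa using this
  have hn₁ : 0 < n₁ := by omega
  have hΦ : ∀ (x x' : Fin n₁ → F) (y y' : Fin 3 → F),
      ff (tau e P (pt x y)) (tau e P (pt x' y')) = c * (f₁ x x' * f₂ y y') := by
    intro x x' y y'
    have := hTc (pt x y) (pt x' y')
    rw [gram_pt _ (fun a b => rfl), ← bf_eq_gram f₁ h₁.bilinear, ← bf_eq_gram f₂ h₂.bilinear]
      at this
    exact this
  obtain ⟨R⟩ := exists_frame' hq f₂ h₂ (by simp)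
  refine ⟨DD e P R, ⟨⟨by norm_num, hn₁, finrank_DD e P f₁ f₂ h₁ h₂ c hc hΦ R,
    indep_DD e P f₁ f₂ h₁ h₂ c hc hΦ R, top_DD e P f₁ f₂ h₁ h₂ c hc hΦ hq R⟩,
    nondeg_DD e P f₁ f₂ h₁ h₂ c hc hΦ R, orth_DD e P f₁ f₂ h₁ h₂ c hc hΦ R⟩, ?_⟩
  intro g hg
  exact stab_DD e P f₁ f₂ h₁ h₂ c hc hΦ hq hn₁ R g hg

end

end Cfsg.Agent.Lib.Helper66.SpMax
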