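import Cfsg.Agent.Lib.Helper66.TWFitting
import Cfsg.Agent.Lib.Helper32.CoprimeDecomp

set_option autoImplicit false

/-!
# Thompson–Wielandt: auxiliary lemmas for the Wielandt half
-/

namespace Cfsg.Agent.Lib.Helper66.TW

open Subgroup
open scoped commutatorElement
open Cfsg.Agent.Lib.Helper67
open Cfsg.Agent.Lib.Helper02

variable {G : Type*} [Group G]

/-- Coprime action: `[P, Z] ≤ [P, Z, Z]`. -/
theorem comm_le_comm_comm [Finite G] {p : ℕ} [hp : Fact p.Prime] {P Z : Subgroup G}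
    (hP : IsPGroup p ↥P) (hZP : Z ≤ Subgroup.normalizer (P : Set G))
    (hcop : (Nat.card ↥Z).Coprime p) : ⁅P, Z⁆ ≤ ⁅⁅P, Z⁆, Z⁆ := by
  have hcop' : (Nat.card ↥P).Coprime (Nat.card ↥Z) := by
    obtain ⟨k, hk⟩ := IsPGroup.iff_card.1 hP
    rw [hk]
    exact Nat.Coprime.pow_left _ hcop.symm
  have hnil : Group.IsNilpotent ↥P := hP.isNilpotent
  have hsolv : Group.IsSolvable ↥P := inferInstance
  have h1 := Cfsg.Agent.Lib.Helper32.le_centralizer_sup_commutator hZP hcop' (Or.inl hsolv)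
  rw [Subgroup.commutator_le]
  intro y hy z hz
  have hy' := h1 hy
  have hn : P ⊓ Subgroup.centralizer (Z : Set G) ≤
      Subgroup.normalizer ((⁅P, Z⁆ : Subgroup G) : Set G) :=
    inf_le_left.trans (Subgroup.normalizer_commutator_ge_left P Z)
  obtain ⟨c, hc, w, hw, rfl⟩ := (Cfsg.Agent.Lib.Helper30.mem_sup_of_le_normalizer hn).mp hy'
  have hcz : z * c = c * z := (Subgroup.mem_centralizer_iff.mp hc.2) z hz
  have e : ⁅c * w, z⁆ = ⁅c * w * c⁻¹, z⁆ := by
    have e1 : c⁻¹ * z * c = z := by rw [mul_assoc, hcz, ← mul_assoc, inv_mul_cancel, one_mul]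
    have e2 : ⁅c * w * c⁻¹, z⁆ = c * w * (c⁻¹ * z * c) * w⁻¹ * c⁻¹ * z⁻¹ := by
      rw [commutatorElement_def]; group
    rw [e2, e1, commutatorElement_def]; group
  rw [e]
  exact Subgroup.commutator_mem_commutator (conj_mem_of_mem_normalizer (hn hc) hw) hz

/-- In a product `S Q` with `Q` a `p`-group normalizing `S`, the `p'`-elements lie in `S`. -/
theorem mem_of_coprime_of_mem_sup {p : ℕ} {S Q : Subgroup G} (hQ : IsPGroup p ↥Q)
    (hQS : Q ≤ Subgroup.normalizer (S : Set G)) {z : G} (hz : z ∈ S ⊔ Q)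
    (hcop : (orderOf z).Coprime p) : z ∈ S := by
  rw [sup_comm] at hz
  obtain ⟨a, ha, b, hb, rfl⟩ := (Cfsg.Agent.Lib.Helper30.mem_sup_of_le_normalizer hQS).mp hz
  have key : ∀ n : ℕ, ∃ c ∈ S, (a * b) ^ n = a ^ n * c := by
    intro n
    induction n with
    | zero => exact ⟨1, S.one_mem, by simp⟩
    | succ n ih =>
      obtain ⟨c, hc, hcn⟩ := ih
      refine ⟨a⁻¹ * c * a * b, S.mul_mem ?_ hb, ?_⟩
      · exact conj_inv_mem_of_mem_normalizer (hQS ha) hc
      · rw [pow_succ, hcn, pow_succ]; group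
  obtain ⟨j, hj⟩ := hQ ⟨a, ha⟩
  have hj' : a ^ p ^ j = 1 := by simpa using congrArg Subtype.val hj
  obtain ⟨c, hc, hcn⟩ := key (p ^ j)
  rw [hj', one_mul] at hcn
  have h1 : (p ^ j).Coprime (orderOf (a * b)) := (Nat.Coprime.pow_right j hcop).symm
  obtain ⟨m, hm⟩ := exists_pow_eq_self_of_coprime h1
  rw [← hm, hcn]
  exact S.pow_mem hc m

/-- One-sided conjugation stability suffices for membership in the normalizer (finite case). -/
theorem mem_normalizer_of_conj_mem [Finite G] {S : Subgroup G} {x : G}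
    (h : ∀ n ∈ S, x * n * x⁻¹ ∈ S) : x ∈ Subgroup.normalizer (S : Set G) :=
  Subgroup.mem_normalizer_fintype h

/-- Conjugation maps a closure into a subgroup as soon as it does so on generators. -/
theorem conj_closure_mem {T : Set G} {R : Subgroup G} {x : G}
    (h : ∀ t ∈ T, x * t * x⁻¹ ∈ R) : ∀ a ∈ Subgroup.closure T, x * a * x⁻¹ ∈ R := by
  intro a ha
  induction ha using Subgroup.closure_induction with
  | mem t ht => exact h t ht
  | one => simp
  | mul a b _ _ iha ihb =>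
    have e : x * (a * b) * x⁻¹ = (x * a * x⁻¹) * (x * b * x⁻¹) := by group
    rw [e]; exact R.mul_mem iha ihb
  | inv a _ iha =>
    have e : x * a⁻¹ * x⁻¹ = (x * a * x⁻¹)⁻¹ := by group
    rw [e]; exact R.inv_mem iha

theorem comm_mem_left {P : Subgroup G} {y z : G} (hy : y ∈ P)
    (hz : z ∈ Subgroup.normalizer (P : Set G)) : ⁅y, z⁆ ∈ P := by
  have e : ⁅y, z⁆ = y * (z * y⁻¹ * z⁻¹) := by rw [commutatorElement_def]; group
  rw [e]
  exact P.mul_mem hy (conj_mem_of_mem_normalizer hz (P.inv_mem hy))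

theorem comm_mem_right {P : Subgroup G} {y z : G}
    (hy : y ∈ Subgroup.normalizer (P : Set G)) (hz : z ∈ P) : ⁅y, z⁆ ∈ P := by
  rw [commutatorElement_def]
  exact P.mul_mem (conj_mem_of_mem_normalizer hy hz) (P.inv_mem hz)

/-- A finite group all of whose `p'`-elements are trivial is a `p`-group (subgroup form). -/
theorem isPGroup_of_coprime_eq_one [Finite G] {p : ℕ} [Fact p.Prime] (L : Subgroup G)
    (h : ∀ g ∈ L, (orderOf g).Coprime p → g = 1) : IsPGroup p ↥L := by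
  have hp : p.Prime := Fact.out
  intro g
  obtain ⟨e, m, hm, hn⟩ :=
    Nat.exists_eq_pow_mul_and_not_dvd (orderOf_pos (g : G)).ne' p hp.ne_one
  refine ⟨e, ?_⟩
  have h0 : orderOf ((g : G) ^ (p ^ e)) = m := by
    rw [orderOf_pow' _ (pow_ne_zero _ hp.ne_zero), hn]
    have h1 : (p ^ e * m).gcd (p ^ e) = p ^ e := Nat.gcd_eq_right (Dvd.intro _ rfl)
    rw [h1, Nat.mul_div_cancel_left _ (pow_pos hp.pos _)]
  have h2 : (g : G) ^ (p ^ e) = 1 := by
    apply h _ (Subgroup.pow_mem _ g.2 _)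
    rw [h0]
    exact ((Nat.Prime.coprime_iff_not_dvd hp).2 hm).symm
  exact Subtype.ext (by simpa using h2)

/-- An element that is both a `p`-element and a `p'`-element is trivial. -/
theorem eq_one_of_coprime_of_pow {p : ℕ} {x : G} (hx : (orderOf x).Coprime p)
    {k : ℕ} (hk : x ^ (p ^ k) = 1) : x = 1 := by
  have h4 : orderOf x ∣ p ^ k := orderOf_dvd_of_pow_eq_one hk
  have h5 : orderOf x = 1 := Nat.eq_one_of_dvd_coprimes (hx.pow_right k) dvd_rfl h4
  exact orderOf_eq_one_iff.1 h5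

/-- If a `p`-subgroup `Q` normalizes a `p`-subgroup `R` and every element of `R` normalizing `Q`
lies in `Q`, then `R ≤ Q` (normalizer condition in the `p`-group `Q R`). -/
theorem le_of_self_normalizing_sup [Finite G] {p : ℕ} [Fact p.Prime] {Q R : Subgroup G}
    (hQ : IsPGroup p ↥Q) (hR : IsPGroup p ↥R) (hQR : Q ≤ Subgroup.normalizer (R : Set G))
    (h : ∀ b ∈ R, b ∈ Subgroup.normalizer (Q : Set G) → b ∈ Q) : R ≤ Q := by
  have hT : IsPGroup p ↥(Q ⊔ R) := IsPGroup.to_sup_of_normal_right' hQ hR hQR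
  have hnil : Group.IsNilpotent ↥(Q ⊔ R) := hT.isNilpotent
  have hNC := Group.normalizerCondition_of_isNilpotent (G := ↥(Q ⊔ R))
  have htop : Q.subgroupOf (Q ⊔ R) = ⊤ := by
    by_contra hlt
    have hlt' : Q.subgroupOf (Q ⊔ R) < ⊤ := lt_top_iff_ne_top.mpr hlt
    have h4 := hNC _ hlt'
    obtain ⟨t, htN, htQ⟩ := SetLike.exists_of_lt h4
    apply htQ
    rw [Subgroup.mem_subgroupOf]
    have htn : (t : G) ∈ Subgroup.normalizer (Q : Set G) := by
      rw [Subgroup.mem_normalizer_iff] at htN ⊢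
      intro x
      constructor
      · intro hx
        have hx' : x ∈ Q ⊔ R := (le_sup_left : Q ≤ Q ⊔ R) hx
        have := (htN ⟨x, hx'⟩).mp (Subgroup.mem_subgroupOf.mpr hx)
        exact Subgroup.mem_subgroupOf.mp this
      · intro hx
        have hx' : x ∈ Q ⊔ R := by
          have h5 := (Q ⊔ R).mul_mem ((Q ⊔ R).mul_mem
            ((Q ⊔ R).inv_mem t.2) ((le_sup_left : Q ≤ Q ⊔ R) hx)) t.2
          have e : (t : G)⁻¹ * ((t : G) * x * (t : G)⁻¹) * (t : G) = x := by group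
          rwa [e] at h5
        have := (htN ⟨x, hx'⟩).mpr (Subgroup.mem_subgroupOf.mpr hx)
        exact Subgroup.mem_subgroupOf.mp this
    obtain ⟨a, ha, b, hb, hab⟩ :=
      (Cfsg.Agent.Lib.Helper30.mem_sup_of_le_normalizer hQR).mp t.2
    have hbn : b ∈ Subgroup.normalizer (Q : Set G) := by
      have : b = a⁻¹ * (t : G) := by rw [← hab]; group
      rw [this]
      exact (Subgroup.normalizer (Q : Set G)).mul_mem
        ((Subgroup.normalizer (Q : Set G)).inv_mem (Subgroup.le_normalizer ha)) htn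
    rw [← hab]
    exact Q.mul_mem ha (h b hb hbn)
  intro x hx
  have hx' : x ∈ Q ⊔ R := (le_sup_right : R ≤ Q ⊔ R) hx
  have : (⟨x, hx'⟩ : ↥(Q ⊔ R)) ∈ Q.subgroupOf (Q ⊔ R) := by
    rw [htop]; exact Subgroup.mem_top _
  exact Subgroup.mem_subgroupOf.mp this

theorem orderOf_conj_eq (g x : G) : orderOf (g * x * g⁻¹) = orderOf x := by
  have := (MulAut.conj g).orderOf_eq x
  rwa [MulAut.conj_apply] at this

end Cfsg.Agent.Lib.Helper66.TW
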