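import Mathlib
import Cfsg.Agent.Lib.Helper49.RSU3Defs
import Cfsg.Agent.Lib.Helper40.GUConj

set_option autoImplicit false
set_option linter.unusedSectionVars false
set_option linter.unusedVariables false

/-!
# K-RSU3 leaf L03 (S2283): `bz μ = -(μ - μ⁻¹)^3` is nonzero and has `bz^q = -bz`
-/

namespace Cfsg.Agent.Lib.Helper66.RSU3

open Matrix Cfsg.Agent.Lib.Helper49.StSU Cfsg.Agent.Lib.Helper49.RSU3

variable {F : Type*} [Field F] [Fintype F] {q : ℕ}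

/-- L03 -/
theorem val_bz (hq : 3 ≤ q) (hF : Fintype.card F = q ^ 2) (μ : F) (hμ : orderOf μ = q + 1) :
    Val q 0 (bz μ) ∧ bz μ ≠ 0 := by
  obtain ⟨φ, hφ, hφφ, -⟩ := Cfsg.Agent.Lib.Helper40.GUConj.exists_frob hF
  have hμ1 : μ ^ (q + 1) = 1 := by rw [← hμ]; exact pow_orderOf_eq_one μ
  have hμ0 : μ ≠ 0 := by
    intro h
    rw [h, zero_pow (by omega)] at hμ1
    exact zero_ne_one hμ1
  have hμq : μ ^ q = μ⁻¹ := by
    rw [pow_succ] at hμ1
    exact eq_inv_of_mul_eq_one_left hμ1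
  have hφμ : φ μ = μ⁻¹ := by rw [hφ, hμq]
  have hφμi : φ μ⁻¹ = μ := by rw [map_inv₀, hφμ, inv_inv]
  have hne : μ - μ⁻¹ ≠ 0 := by
    intro h
    have h2 : μ ^ 2 = 1 := by
      have : μ = μ⁻¹ := sub_eq_zero.mp h
      rw [pow_two]
      nth_rewrite 2 [this]
      exact mul_inv_cancel₀ hμ0
    have hd : orderOf μ ∣ 2 := orderOf_dvd_of_pow_eq_one h2
    rw [hμ] at hd
    have := Nat.le_of_dvd (by norm_num) hd
    omega
  refine ⟨?_, ?_⟩
  · unfold Val bz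
    rw [← hφ (-(μ - μ⁻¹) ^ 3), map_neg, map_pow, map_sub, hφμ, hφμi]
    ring
  · unfold bz
    exact neg_ne_zero.mpr (pow_ne_zero 3 hne)

end Cfsg.Agent.Lib.Helper66.RSU3
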