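import Mathlib
import Cfsg.Prelude.Def_GeometricClasses
import Cfsg.Agent.Lib.Helper43.SpCount
import Cfsg.Agent.Lib.Helper50.GeoBridge
import Cfsg.Agent.Lib.Helper50.SpTransvCent
import Cfsg.Agent.S0270

/-! Keystone 598305 K-SpO-5 (S5983 pack, helper49 architect): every involution of `Sp_{2d}(q)`,
`q` even, is conjugate into `O(Q)`, given unit and singular frames. -/

set_option autoImplicit false
set_option linter.unusedSimpArgs false
set_option linter.unusedVariables false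
set_option linter.unusedSectionVars false

namespace Cfsg.Agent.Lib.Helper66.SpO

open Matrix Cfsg Cfsg.Agent.Lib.Helper43

variable {F : Type*} [Field F] [Fintype F] [CharP F 2]

/-- K-SpO-5 (id 598305). -/
theorem invol_conj_mem (d : ℕ) (hd : 1 ≤ d) (Q : (Fin d ⊕ Fin d → F) → F)
    (hQ : Cfsg.Geo.IsNondegenerateQuadraticForm Q)
    (hQf : ∀ u v, QuadraticMap.polar Q u v = Cfsg.sympForm d F u v)
    (hunit : ∀ s, 1 ≤ s → s ≤ d → ∃ w : Fin s → (Fin d ⊕ Fin d → F), LinearIndependent F w ∧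
      (∀ a b, a ≠ b → QuadraticMap.polar Q (w a) (w b) = 0) ∧ ∀ a, Q (w a) = 1)
    (hsing : ∀ s, Even s → s ≤ d → ∃ w : Fin s → (Fin d ⊕ Fin d → F), LinearIndependent F w ∧
      (∀ a b, a ≠ b → QuadraticMap.polar Q (w a) (w b) = 0) ∧ ∀ a, Q (w a) = 0)
    (x : GL (Fin d ⊕ Fin d) F) (hx : x ∈ Cfsg.spGL d F)
    (hx2 : ∃ z : F, ((x ^ 2 : GL (Fin d ⊕ Fin d) F) : Matrix (Fin d ⊕ Fin d) (Fin d ⊕ Fin d) F) =
      z • (1 : Matrix (Fin d ⊕ Fin d) (Fin d ⊕ Fin d) F))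
    (hxns : ∀ z : F, (x : Matrix (Fin d ⊕ Fin d) (Fin d ⊕ Fin d) F) ≠
      z • (1 : Matrix (Fin d ⊕ Fin d) (Fin d ⊕ Fin d) F)) :
    ∃ g ∈ Cfsg.spGL d F, g⁻¹ * x * g ∈ Cfsg.Geo.quadSimilarityGroup Q := by
  classical
  obtain ⟨X, hX⟩ : ∃ X : Matrix (Fin d ⊕ Fin d) (Fin d ⊕ Fin d) F, X = x := ⟨_, rfl⟩
  have hxf : ∀ u v, sympForm d F (X *ᵥ u) (X *ᵥ v) = sympForm d F u v := by
    intro u v
    rw [hX]
    exact hx u v
  have hXsp : X ∈ symplecticGroup (Fin d) F :=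
    Cfsg.Agent.S2166.mem_symplectic_of_preserves X hxf
  obtain ⟨z, hz⟩ := hx2
  have hXX : X * X = z • (1 : Matrix (Fin d ⊕ Fin d) (Fin d ⊕ Fin d) F) := by
    rw [← hz, pow_two, Units.val_mul, hX]
  have hz1 : z = 1 := by
    obtain ⟨u, v, huv⟩ : ∃ u v, sympForm d F u v ≠ 0 :=
      Cfsg.Agent.Lib.Helper50.sf_ne_zero d (by omega)
    have h1 : sympForm d F (X *ᵥ (X *ᵥ u)) (X *ᵥ (X *ᵥ v)) = sympForm d F u v := by
      rw [hxf, hxf]
    rw [mulVec_mulVec, mulVec_mulVec, hXX, Matrix.smul_mulVec, Matrix.smul_mulVec,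
      Matrix.one_mulVec, Matrix.one_mulVec, Cfsg.Agent.Lib.Helper50.sf_smul_smul] at h1
    have h2 : (z * z - 1) * sympForm d F u v = 0 := by linear_combination h1
    have h3 : z * z - 1 = 0 := (mul_eq_zero.mp h2).resolve_right huv
    have h4 : (z - 1) * (z - 1) = 0 := by
      have h5 : (2 : F) = 0 := CharTwo.two_eq_zero
      linear_combination h3 + (1 - z) * h5
    have h6 := mul_self_eq_zero.mp h4
    linear_combination h6
  rw [hz1, one_smul] at hXX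
  set a : ↥(symplecticGroup (Fin d) F) := ⟨X, hXsp⟩ with ha
  have hA2 : (a : Matrix (Fin d ⊕ Fin d) (Fin d ⊕ Fin d) F) * a = 1 := hXX
  have ha1 : a ≠ 1 := by
    intro h
    have h' : X = 1 := congrArg Subtype.val h
    apply hxns 1
    rw [one_smul, ← hX, h']
  have hs_pos := sp_rank_pos a ha1
  have hs_le := sp_rank_le a hA2
  have haX : (a : Matrix (Fin d ⊕ Fin d) (Fin d ⊕ Fin d) F) = X := rfl
  rw [haX] at hs_pos hs_le
  set QF := Cfsg.Agent.Lib.Helper50.geoForm Q hQ with hQF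
  have hQnd : (QuadraticMap.polarBilin QF).Nondegenerate :=
    Cfsg.Agent.Lib.Helper50.geoForm_nondegenerate Q hQ
  have hpb : ∀ u v, QuadraticMap.polarBilin QF u v = QuadraticMap.polar Q u v := fun u v => rfl
  -- the comparison involution in `O(Q)`
  obtain ⟨g, hg2, hgrank, hgalt⟩ : ∃ g : ↥(Cfsg.isometryGroup F ⇑QF), g * g = 1 ∧
      (((g : GL (Fin d ⊕ Fin d) F) : Matrix (Fin d ⊕ Fin d) (Fin d ⊕ Fin d) F) - 1).rank =
        (X - 1).rank ∧
      ((∀ v, sympForm d F v (X *ᵥ v) = 0) ↔ (∀ v, QF (v + linOf QF g v) = 0)) := by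
    by_cases halt : ∀ v, sympForm d F v (X *ᵥ v) = 0
    · have heven : Even (X - 1).rank := sp_even_rank_of_alt a hA2 halt
      obtain ⟨w, hwli, hworth, hwsing⟩ := hsing _ heven hs_le
      obtain ⟨t, ht⟩ := heven
      obtain ⟨i, rfl⟩ : ∃ i, t = i + 1 := ⟨t - 1, by omega⟩
      let e : Fin (i + 1) ⊕ Fin (i + 1) ≃ Fin (X - 1).rank :=
        finSumFinEquiv.trans (finCongr ht.symm)
      obtain ⟨g, hg2, hgr, hga⟩ := exists_invol_a QF hQnd (w ∘ e)
        (hwli.comp e e.injective)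
        (fun p p' hpp => by
          rw [hpb]
          exact hworth _ _ (fun h => hpp (e.injective h)))
        (fun p => hwsing _)
      refine ⟨g, hg2, ?_, ?_⟩
      · rw [hgr, ht]; ring
      · exact ⟨fun _ => hga, fun _ => halt⟩
    · obtain ⟨w, hwli, hworth, hwnorm⟩ := hunit _ hs_pos hs_le
      obtain ⟨k, hk⟩ : ∃ k, (X - 1).rank = k + 1 := ⟨(X - 1).rank - 1, by omega⟩
      let e : Fin (k + 1) ≃ Fin (X - 1).rank := finCongr hk.symm
      obtain ⟨g, hg2, hgr, hga⟩ := exists_invol_bc QF hQnd (w ∘ e)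
        (hwli.comp e e.injective)
        (fun p p' hpp => by
          rw [hpb]
          exact hworth _ _ (fun h => hpp (e.injective h)))
        (fun p => hwnorm _)
      refine ⟨g, hg2, ?_, ?_⟩
      · rw [hgr, hk]
      · exact ⟨fun h => absurd h halt, fun h => absurd h hga⟩
  obtain ⟨G, hG⟩ : ∃ G : Matrix (Fin d ⊕ Fin d) (Fin d ⊕ Fin d) F,
      G = ((g : GL (Fin d ⊕ Fin d) F) : Matrix (Fin d ⊕ Fin d) (Fin d ⊕ Fin d) F) := ⟨_, rfl⟩
  have hGQ : ∀ v, Q (G *ᵥ v) = Q v := by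
    intro v
    rw [hG]
    exact g.2 v v
  have hGf : ∀ u v, sympForm d F (G *ᵥ u) (G *ᵥ v) = sympForm d F u v := by
    intro u v
    rw [← hQf, ← hQf]
    unfold QuadraticMap.polar
    rw [← Matrix.mulVec_add, hGQ, hGQ, hGQ]
  have hGsp : G ∈ symplecticGroup (Fin d) F :=
    Cfsg.Agent.S2166.mem_symplectic_of_preserves G hGf
  set b : ↥(symplecticGroup (Fin d) F) := ⟨G, hGsp⟩ with hb
  have hB2 : (b : Matrix (Fin d ⊕ Fin d) (Fin d ⊕ Fin d) F) * b = 1 := by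
    show G * G = 1
    have := congrArg (fun t : ↥(Cfsg.isometryGroup F ⇑QF) =>
      ((t : GL (Fin d ⊕ Fin d) F) : Matrix (Fin d ⊕ Fin d) (Fin d ⊕ Fin d) F)) hg2
    simp only [Subgroup.coe_mul, Units.val_mul, OneMemClass.coe_one, Units.val_one] at this
    rw [hG]
    exact this
  have hkey : ∀ v, sympForm d F v (G *ᵥ v) = QF (v + linOf QF g v) := by
    intro v
    rw [linOf_apply, ← hG, ← hQf]
    show QuadraticMap.polar Q v (G *ᵥ v) = Q (v + G *ᵥ v)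
    unfold QuadraticMap.polar
    rw [hGQ]
    have : Q v + Q v = 0 := CharTwo.add_self_eq_zero _
    linear_combination -this
  have hconj : IsConj a b := by
    rw [sp_isConj_iff a b hA2 hB2]
    refine ⟨?_, ?_⟩
    · show (X - 1).rank = (G - 1).rank
      rw [hG, hgrank]
    · show (∀ v, sympForm d F v (X *ᵥ v) = 0) ↔ (∀ v, sympForm d F v (G *ᵥ v) = 0)
      rw [hgalt]
      constructor
      · intro h v; rw [hkey]; exact h v
      · intro h v; rw [← hkey]; exact h v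
  obtain ⟨c, hc⟩ := isConj_iff.1 hconj
  refine ⟨((Cfsg.Agent.S0270.phi d c⁻¹ : ↥(Cfsg.spGL d F)) : GL (Fin d ⊕ Fin d) F),
    (Cfsg.Agent.S0270.phi d c⁻¹).2, ?_⟩
  have hinv : (((Cfsg.Agent.S0270.phi d c⁻¹ : ↥(Cfsg.spGL d F)) : GL (Fin d ⊕ Fin d) F))⁻¹ =
      ((Cfsg.Agent.S0270.phi d c : ↥(Cfsg.spGL d F)) : GL (Fin d ⊕ Fin d) F) := by
    rw [map_inv, Subgroup.coe_inv, inv_inv]
  rw [hinv]
  have hval : ((Cfsg.Agent.S0270.phi d c : ↥(Cfsg.spGL d F)) : GL (Fin d ⊕ Fin d) F) * x *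
      ((Cfsg.Agent.S0270.phi d c⁻¹ : ↥(Cfsg.spGL d F)) : GL (Fin d ⊕ Fin d) F) =
      (g : GL (Fin d ⊕ Fin d) F) := by
    apply Units.ext
    rw [Units.val_mul, Units.val_mul, ← hG, ← hX]
    have := congrArg Subtype.val hc
    exact this
  rw [hval]
  refine ⟨1, fun v => ?_⟩
  rw [Units.val_one, one_mul, ← hG]
  exact hGQ v

end Cfsg.Agent.Lib.Helper66.SpO
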