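import Mathlib
import Cfsg.Prelude.Def_GeometricClasses
import Cfsg.Agent.Lib.Helper50.GeoBridge
import Cfsg.Agent.Lib.Helper50.DecompAux
import Cfsg.Agent.Lib.Helper50.ElusiveCount
import Cfsg.Agent.Lib.Helper49.FixedCongr

/-! Keystone 598308 K-SpO-8b (S5983 pack, helper49 architect): an isometry of order dividing `r`
(`r` an odd prime dividing `q^d + 1`) of a plus-type quadratic form on `F^(2d)` fixes a nonzero
vector, by counting singular vectors modulo `r`. -/

set_option autoImplicit false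
set_option linter.unusedSimpArgs false
set_option linter.unusedVariables false
set_option linter.unusedSectionVars false

namespace Cfsg.Agent.Lib.Helper66.SpO

open Matrix

variable {F : Type*} [Field F] [Fintype F]

/-- the number of singular vectors of a plus-type form -/
theorem card_zeros_of_plus (d : ℕ)
    (Q : (Fin d ⊕ Fin d → F) → F) (hQ : Cfsg.Geo.IsNondegenerateQuadraticForm Q)
    (hplus : Cfsg.Geo.IsPlusTypeOn Q ⊤) :
    Nat.card {v : Fin d ⊕ Fin d → F // Q v = 0} =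
      Fintype.card F ^ d + (Fintype.card F ^ d - 1) * Fintype.card F ^ (d - 1) := by
  classical
  have hfr : Module.finrank F (⊤ : Submodule F (Fin d ⊕ Fin d → F)) = 2 * d := by
    rw [finrank_top, Module.finrank_pi, Fintype.card_sum, Fintype.card_fin]
    ring
  have hnd : Cfsg.Geo.IsNondegenerateOn (QuadraticMap.polar (⇑(Cfsg.Agent.Lib.Helper50.geoForm Q hQ)))
      (⊤ : Submodule F (Fin d ⊕ Fin d → F)) := by
    intro w _ hw
    obtain ⟨⟨x, hx⟩, ⟨x', hx'⟩⟩ := hQ.nondegenerate w hw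
    exact ⟨⟨x, Submodule.mem_top, hx⟩, ⟨x', Submodule.mem_top, hx'⟩⟩
  obtain ⟨φ, hφ⟩ := Cfsg.Agent.Lib.Helper50.exists_plus_coords
    (Cfsg.Agent.Lib.Helper50.geoForm Q hQ) ⊤ d hfr hnd hplus
  rw [← Cfsg.Agent.Lib.Helper50.card_zeros_plus (F := F) d]
  apply Nat.card_congr
  refine Equiv.subtypeEquiv ((Submodule.topEquiv (R := F) (M := Fin d ⊕ Fin d → F)).symm.trans φ).toEquiv ?_
  intro v
  have := hφ ((Submodule.topEquiv (R := F) (M := Fin d ⊕ Fin d → F)).symm v)
  simp only [LinearEquiv.coe_toEquiv, LinearEquiv.trans_apply]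
  rw [this]
  rfl

/-- K-SpO-8b (id 598308). -/
theorem exists_fixed_of_plus {q : ℕ} (hq : Fintype.card F = q) (d : ℕ) (hd : 1 ≤ d)
    (Q : (Fin d ⊕ Fin d → F) → F) (hQ : Cfsg.Geo.IsNondegenerateQuadraticForm Q)
    (hplus : Cfsg.Geo.IsPlusTypeOn Q ⊤) (r : ℕ) (hr : r.Prime) (hr2 : r ≠ 2)
    (hdiv : r ∣ q ^ d + 1) (y : GL (Fin d ⊕ Fin d) F)
    (hy : ∀ v, Q ((y : Matrix (Fin d ⊕ Fin d) (Fin d ⊕ Fin d) F) *ᵥ v) = Q v)
    (hyr : y ^ r = 1) :
    ∃ v : Fin d ⊕ Fin d → F, v ≠ 0 ∧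
      (y : Matrix (Fin d ⊕ Fin d) (Fin d ⊕ Fin d) F) *ᵥ v = v := by
  classical
  by_contra hcon
  push Not at hcon
  have : Fact r.Prime := ⟨hr⟩
  set QF := Cfsg.Agent.Lib.Helper50.geoForm Q hQ with hQF
  set g : (Fin d ⊕ Fin d → F) →ₗ[F] (Fin d ⊕ Fin d → F) :=
    Matrix.toLin' (y : Matrix (Fin d ⊕ Fin d) (Fin d ⊕ Fin d) F) with hgdef
  have hg : ∀ v, QF (g v) = QF v := by
    intro v
    show Q (g v) = Q v
    rw [hgdef, Matrix.toLin'_apply, hy]
  have hgr : g ^ r = 1 := by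
    rw [hgdef, ← Matrix.toLin'_pow, ← Units.val_pow_eq_pow_val, hyr, Units.val_one,
      Matrix.toLin'_one]
    rfl
  have h1 := Cfsg.Agent.Lib.Helper49.card_zeros_modEq_fixed QF g hg r hgr
  have h2 : Nat.card {v : Fin d ⊕ Fin d → F // QF v = 0} =
      q ^ d + (q ^ d - 1) * q ^ (d - 1) := by
    rw [← hq]
    exact card_zeros_of_plus d Q hQ hplus
  have h3 : Nat.card {v : Fin d ⊕ Fin d → F // QF v = 0 ∧ g v = v} = 1 := by
    rw [Nat.card_eq_one_iff_unique]
    have hQ0 : QF 0 = 0 := map_zero QF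
    refine ⟨⟨?_⟩, ⟨⟨0, hQ0, map_zero g⟩⟩⟩
    rintro ⟨a, ha1, ha2⟩ ⟨b, hb1, hb2⟩
    apply Subtype.ext
    show a = b
    have ha : a = 0 := by
      by_contra h
      apply hcon a h
      rw [← Matrix.toLin'_apply]
      exact ha2
    have hb : b = 0 := by
      by_contra h
      apply hcon b h
      rw [← Matrix.toLin'_apply]
      exact hb2
    rw [ha, hb]
  rw [h2, h3] at h1
  -- arithmetic in `ZMod r`
  have h4 := (ZMod.natCast_eq_natCast_iff _ _ r).mpr h1
  have hqpos : 1 ≤ q ^ d := by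
    have : 0 < q := by
      rw [← hq]; exact Fintype.card_pos
    exact Nat.one_le_pow _ _ this
  have h5 : ((q ^ d + 1 : ℕ) : ZMod r) = 0 := (ZMod.natCast_eq_zero_iff _ _).mpr hdiv
  push_cast [Nat.cast_sub hqpos] at h4 h5
  set a : ZMod r := (q : ZMod r) with ha
  have had : a ^ d = -1 := by linear_combination h5
  have h2ne : (2 : ZMod r) ≠ 0 := by
    intro h
    have h' : ((2 : ℕ) : ZMod r) = 0 := by exact_mod_cast h
    rw [ZMod.natCast_eq_zero_iff] at h'
    have := (Nat.prime_dvd_prime_iff_eq hr Nat.prime_two).mp h'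
    exact hr2 this
  have h6 : a ^ (d - 1) = -1 := by
    rw [had] at h4
    have h7 : (2 : ZMod r) * (a ^ (d - 1) + 1) = 0 := by linear_combination -h4
    have h8 := (mul_eq_zero.mp h7).resolve_left h2ne
    linear_combination h8
  have h9 : a ^ d = a * a ^ (d - 1) := by
    rw [← pow_succ']
    congr 1
    omega
  have h10 : a = 1 := by
    rw [h6, had] at h9
    linear_combination h9
  rw [h10, one_pow] at had
  apply h2ne
  linear_combination had
end Cfsg.Agent.Lib.Helper66.SpO
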