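import Mathlib
import Cfsg.Prelude
import Cfsg.Agent.Lib.Helper07.SL2Tori

/-!
# K-S4016-C : `PSL₂(2^f)`, `f ≥ 2`, has a non-abelian subgroup of order prime to `p` (`p` odd)

Dihedral construction: for every `g ∈ SL₂(F)` (characteristic 2) there is an involution `w`
with `g * w * g = w`; every element of `⟨g, w⟩` is `g ^ k` or `g ^ k * w`, so has order
dividing `orderOf g` or `2`.  We take `g` in the split torus (order dividing `q - 1`) or in the
non-split torus (order `q + 1`), whichever has order prime to `p`.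
-/

set_option autoImplicit false

namespace Cfsg.Agent.Lib.Helper66.CycSyl

section dihedral
variable {G : Type*} [Group G]

lemma w_mul_zpow {g w : G} (hgw : g * w * g = w) (k : ℤ) : w * g ^ k = g ^ (-k) * w := by
  have h1 : SemiconjBy w g g⁻¹ := by
    unfold SemiconjBy
    calc w * g = g⁻¹ * (g * w * g) := by group
      _ = g⁻¹ * w := by rw [hgw]
  have h2 := (h1.zpow_right k).eq
  rw [h2, inv_zpow, zpow_neg]

/-- the set of normal forms `g ^ k`, `g ^ k * w` is a subgroup. -/
def dihSub (g w : G) (hw : w * w = 1) (hgw : g * w * g = w) : Subgroup G where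
  carrier := {x | ∃ k : ℤ, x = g ^ k ∨ x = g ^ k * w}
  one_mem' := ⟨0, Or.inl (by simp)⟩
  mul_mem' := by
    rintro x y ⟨k, hx | hx⟩ ⟨l, hy | hy⟩
    · exact ⟨k + l, Or.inl (by rw [hx, hy, zpow_add])⟩
    · exact ⟨k + l, Or.inr (by rw [hx, hy, zpow_add, mul_assoc])⟩
    · refine ⟨k - l, Or.inr ?_⟩
      rw [hx, hy, mul_assoc, w_mul_zpow hgw, ← mul_assoc, ← zpow_add, sub_eq_add_neg]
    · refine ⟨k - l, Or.inl ?_⟩
      rw [hx, hy, mul_assoc, ← mul_assoc w, w_mul_zpow hgw, mul_assoc, hw, mul_one, ← zpow_add,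
        sub_eq_add_neg]
  inv_mem' := by
    rintro x ⟨k, hx | hx⟩
    · exact ⟨-k, Or.inl (by rw [hx, zpow_neg])⟩
    · refine ⟨k, Or.inr ?_⟩
      have hwinv : w⁻¹ = w := inv_eq_of_mul_eq_one_left hw
      rw [hx, mul_inv_rev, hwinv, ← zpow_neg, w_mul_zpow hgw, neg_neg]

lemma closure_normal_form {g w : G} (hw : w * w = 1) (hgw : g * w * g = w) {x : G}
    (hx : x ∈ Subgroup.closure ({g, w} : Set G)) : ∃ k : ℤ, x = g ^ k ∨ x = g ^ k * w := by
  have hle : Subgroup.closure ({g, w} : Set G) ≤ dihSub g w hw hgw := by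
    rw [Subgroup.closure_le]
    intro y hy
    simp only [Set.mem_insert_iff, Set.mem_singleton_iff] at hy
    rcases hy with rfl | rfl
    · exact ⟨1, Or.inl (by simp)⟩
    · exact ⟨0, Or.inr (by simp)⟩
  exact hle hx

lemma not_dvd_card_closure [Finite G] {g w : G} (hw : w * w = 1) (hgw : g * w * g = w)
    {p : ℕ} [Fact p.Prime] (hp : p ≠ 2) (hpg : ¬ p ∣ orderOf g) :
    ¬ p ∣ Nat.card (Subgroup.closure ({g, w} : Set G)) := by
  intro hdvd
  obtain ⟨x, hx⟩ := exists_prime_orderOf_dvd_card' p hdvd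
  have hxo : orderOf (x : G) = p := by rw [Subgroup.orderOf_coe]; exact hx
  obtain ⟨k, hk | hk⟩ := closure_normal_form hw hgw x.2
  · apply hpg
    rw [← hxo, hk]
    exact orderOf_dvd_of_mem_zpowers ⟨k, rfl⟩
  · have hsq : (x : G) ^ 2 = 1 := by
      rw [hk, pow_two, mul_assoc, ← mul_assoc w, w_mul_zpow hgw, mul_assoc, hw, mul_one,
        ← zpow_add]
      simp
    have h2 : p ∣ 2 := by rw [← hxo]; exact orderOf_dvd_of_pow_eq_one hsq
    exact hp ((Nat.prime_dvd_prime_iff_eq Fact.out Nat.prime_two).1 h2)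

lemma not_comm_closure {g w : G} (hgw : g * w * g = w) (hgg : g * g ≠ 1) :
    ¬ IsMulCommutative (Subgroup.closure ({g, w} : Set G)) := by
  intro h
  have hg : g ∈ Subgroup.closure ({g, w} : Set G) := Subgroup.subset_closure (by simp)
  have hwm : w ∈ Subgroup.closure ({g, w} : Set G) := Subgroup.subset_closure (by simp)
  have hc : (⟨g, hg⟩ : Subgroup.closure ({g, w} : Set G)) * ⟨w, hwm⟩ = ⟨w, hwm⟩ * ⟨g, hg⟩ :=
    (isMulCommutative_iff.1 h) _ _
  have hc' : g * w = w * g := congrArg Subtype.val hc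
  apply hgg
  have h1 : w * (g * g) = w * 1 := by rw [← mul_assoc, ← hc', hgw, mul_one]
  exact mul_left_cancel h1

end dihedral

section sl2
open Matrix
variable {F : Type*} [Field F]

/-- the antidiagonal involution in characteristic 2 -/
def antiSL (h2 : (2 : F) = 0) : SpecialLinearGroup (Fin 2) F :=
  ⟨!![0, 1; 1, 0], by
    rw [det_fin_two_of]
    linear_combination (-1 : F) * h2⟩

lemma antiSL_val (h2 : (2 : F) = 0) : (antiSL h2).val = !![0, 1; 1, 0] := rfl

/-- in characteristic 2 every element of `SL₂` is inverted by an involution. -/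
lemma exists_inverting_involution (h2 : (2 : F) = 0) (g : SpecialLinearGroup (Fin 2) F) :
    ∃ w : SpecialLinearGroup (Fin 2) F, w * w = 1 ∧ g * w * g = w := by
  have hdet : g.val 0 0 * g.val 1 1 - g.val 0 1 * g.val 1 0 = 1 := by
    have := g.2
    rwa [det_fin_two] at this
  by_cases hb : g.val 0 1 = 0
  · by_cases hc : g.val 1 0 = 0
    · refine ⟨antiSL h2, ?_, ?_⟩
      · ext i j
        change ((antiSL h2).val * (antiSL h2).val) i j = (1 : Matrix (Fin 2) (Fin 2) F) i j
        rw [antiSL_val]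
        fin_cases i <;> fin_cases j <;> simp [Matrix.mul_apply, Fin.sum_univ_two]
      · ext i j
        change (g.val * (antiSL h2).val * g.val) i j = (antiSL h2).val i j
        rw [antiSL_val]
        rw [hb, hc] at hdet
        fin_cases i <;> fin_cases j <;>
          simp [Matrix.mul_apply, Fin.sum_univ_two, hb, hc]
        · linear_combination hdet
        · linear_combination hdet
    · -- c ≠ 0, w = upSL z with c * z = a + d
      obtain ⟨z, hz⟩ : ∃ z : F, g.val 1 0 * z = g.val 0 0 + g.val 1 1 :=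
        ⟨(g.val 0 0 + g.val 1 1) / g.val 1 0, by field_simp⟩
      refine ⟨Helper07.upSL z, ?_, ?_⟩
      · ext i j
        change ((Helper07.upSL z).val * (Helper07.upSL z).val) i j
          = (1 : Matrix (Fin 2) (Fin 2) F) i j
        rw [Helper07.upSL_val]
        fin_cases i <;> fin_cases j <;>
          simp [Helper07.upT, Matrix.mul_apply, Fin.sum_univ_two]
        linear_combination z * h2
      · ext i j
        change (g.val * (Helper07.upSL z).val * g.val) i j = (Helper07.upSL z).val i j
        rw [Helper07.upSL_val]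
        fin_cases i <;> fin_cases j <;>
          simp [Helper07.upT, Matrix.mul_apply, Fin.sum_univ_two, hb]
        · linear_combination g.val 0 0 * hz + hdet + (g.val 0 0)^2 * h2 + g.val 1 0 * hb
        · linear_combination z * hdet + z * g.val 1 0 * hb
        · linear_combination g.val 1 0 * hz + g.val 1 0 * (g.val 0 0 + g.val 1 1) * h2
        · linear_combination g.val 1 1 * hz + hdet + (g.val 1 1)^2 * h2 + g.val 1 0 * hb
  · obtain ⟨z, hz⟩ : ∃ z : F, g.val 0 1 * z = g.val 0 0 + g.val 1 1 :=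
      ⟨(g.val 0 0 + g.val 1 1) / g.val 0 1, by field_simp⟩
    refine ⟨Helper07.loSL z, ?_, ?_⟩
    · ext i j
      change ((Helper07.loSL z).val * (Helper07.loSL z).val) i j
        = (1 : Matrix (Fin 2) (Fin 2) F) i j
      rw [Helper07.loSL_val]
      fin_cases i <;> fin_cases j <;>
        simp [Helper07.loT, Matrix.mul_apply, Fin.sum_univ_two]
      linear_combination z * h2
    · ext i j
      change (g.val * (Helper07.loSL z).val * g.val) i j = (Helper07.loSL z).val i j
      rw [Helper07.loSL_val]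
      fin_cases i <;> fin_cases j <;>
        simp [Helper07.loT, Matrix.mul_apply, Fin.sum_univ_two]
      · linear_combination g.val 0 0 * hz + hdet + ((g.val 0 0)^2 + g.val 0 1 * g.val 1 0) * h2
      · linear_combination g.val 0 1 * hz + g.val 0 1 * (g.val 0 0 + g.val 1 1) * h2
      · linear_combination g.val 1 0 * hz + z * hdet + g.val 1 0 * (g.val 0 0 + g.val 1 1) * h2
      · linear_combination g.val 1 1 * hz + hdet + (g.val 0 1 * g.val 1 0 + (g.val 1 1)^2) * h2

end sl2

section main
open Matrix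
variable {F : Type*} [Field F]

lemma center_sl2_eq_bot_of_two (h2 : (2 : F) = 0) :
    Subgroup.center (SpecialLinearGroup (Fin 2) F) = ⊥ := by
  rw [Subgroup.eq_bot_iff_forall]
  intro A hA
  obtain ⟨r, hr, hrA⟩ := Matrix.SpecialLinearGroup.mem_center_iff.1 hA
  have hr1 : r = 1 := by
    rw [Fintype.card_fin] at hr
    have h0 : (r - 1) * (r - 1) = 0 := by linear_combination hr - r * h2 + h2
    have h1 : r - 1 = 0 := by
      rcases mul_eq_zero.1 h0 with h | h <;> exact h
    linear_combination h1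
  ext i j
  rw [← hrA, hr1]
  simp

variable [Fintype F]

lemma charP_two_of_card_pow {f : ℕ} (hF : Fintype.card F = 2 ^ f) : CharP F 2 := by
  obtain ⟨p, hp⟩ := CharP.exists F
  obtain ⟨n, hpp, hn⟩ := FiniteField.card F p
  rw [hF] at hn
  have hdvd : p ∣ 2 ^ f := by
    rw [hn]; exact dvd_pow_self p n.ne_zero
  have h : p = 2 := (Nat.prime_dvd_prime_iff_eq hpp Nat.prime_two).1 (hpp.dvd_of_dvd_pow hdvd)
  rw [← h]; exact hp

/-- an element of `SL₂(2^f)`, `f ≥ 2`, of order prime to `p` that is not an involution. -/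
lemma exists_good_elt {f : ℕ} (hf : 2 ≤ f) (hF : Fintype.card F = 2 ^ f) [CharP F 2]
    {p : ℕ} [Fact p.Prime] (hp : p ≠ 2) :
    ∃ g : SpecialLinearGroup (Fin 2) F, ¬ p ∣ orderOf g ∧ g * g ≠ 1 := by
  classical
  have hq4 : 4 ≤ Fintype.card F := by
    rw [hF]
    calc 4 = 2 ^ 2 := rfl
      _ ≤ 2 ^ f := Nat.pow_le_pow_right (by norm_num) hf
  by_cases hpq : p ∣ Fintype.card F - 1
  · -- the non-split torus
    obtain ⟨C, hC, hcard⟩ := Helper07.exists_cyclic_subgroup_card_succ (F := F) 2
    obtain ⟨c, hc⟩ := hC.exists_generator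
    have hord : orderOf (c : SpecialLinearGroup (Fin 2) F) = Fintype.card F + 1 := by
      rw [Subgroup.orderOf_coe, orderOf_eq_card_of_forall_mem_zpowers hc, hcard]
    refine ⟨c, ?_, ?_⟩
    · rw [hord]
      intro h
      have h3 : p ∣ (Fintype.card F + 1) - (Fintype.card F - 1) := Nat.dvd_sub h hpq
      have h4 : (Fintype.card F + 1) - (Fintype.card F - 1) = 2 := by omega
      rw [h4] at h3
      exact hp ((Nat.prime_dvd_prime_iff_eq Fact.out Nat.prime_two).1 h3)
    · intro h
      have h3 : orderOf (c : SpecialLinearGroup (Fin 2) F) ∣ 2 :=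
        orderOf_dvd_of_pow_eq_one (by rw [pow_two]; exact h)
      rw [hord] at h3
      have := Nat.le_of_dvd (by norm_num) h3
      omega
  · -- the split torus
    have hcardu : Fintype.card Fˣ = Fintype.card F - 1 := Fintype.card_units F
    obtain ⟨a, ha⟩ : ∃ a : Fˣ, a ≠ 1 := by
      have h1 : 1 < Fintype.card Fˣ := by rw [hcardu]; omega
      exact Fintype.exists_ne_of_one_lt_card h1 1
    refine ⟨Helper07.splitTorusHom a, ?_, ?_⟩
    · intro h
      apply hpq
      refine h.trans ?_
      apply orderOf_dvd_of_pow_eq_one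
      rw [← map_pow, ← hcardu, pow_card_eq_one, map_one]
    · intro h
      rw [← map_mul] at h
      have h1 : a * a = 1 := Helper07.splitTorusHom_injective (by rw [h, map_one])
      apply ha
      have h3 : (a : F) * a = 1 := by rw [← Units.val_mul, h1, Units.val_one]
      have h4 : (2 : F) = 0 := CharTwo.two_eq_zero
      have h2 : ((a : F) - 1) * ((a : F) - 1) = 0 := by
        linear_combination h3 - (a : F) * h4 + h4
      have h5 : (a : F) - 1 = 0 := mul_self_eq_zero.1 h2
      exact Units.ext (by simpa using sub_eq_zero.1 h5)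

end main

/-- **K-S4016-C.** `PSL₂(2^f)`, `f ≥ 2`, has a non-abelian subgroup of order prime to the odd
prime `p`. -/
theorem psl2_exists_nonabelian_pprime {F : Type} [Field F] [Fintype F] {f : ℕ} (hf : 2 ≤ f)
    (hF : Fintype.card F = 2 ^ f) {p : ℕ} [Fact p.Prime] (hp : p ≠ 2) :
    ∃ H : Subgroup (Matrix.ProjectiveSpecialLinearGroup (Fin 2) F),
      ¬ p ∣ Nat.card H ∧ ¬ IsMulCommutative H := by
  classical
  have : CharP F 2 := charP_two_of_card_pow hF
  have h2 : (2 : F) = 0 := CharTwo.two_eq_zero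
  obtain ⟨g, hpg, hgg⟩ := exists_good_elt hf hF hp
  obtain ⟨w, hw, hgw⟩ := exists_inverting_involution h2 g
  let π : Matrix.SpecialLinearGroup (Fin 2) F →* Matrix.ProjectiveSpecialLinearGroup (Fin 2) F :=
    QuotientGroup.mk' _
  have hW : π w * π w = 1 := by rw [← map_mul, hw, map_one]
  have hGW : π g * π w * π g = π w := by rw [← map_mul, ← map_mul, hgw]
  have hPG : ¬ p ∣ orderOf (π g) := fun h => hpg (h.trans (orderOf_map_dvd π g))
  have hGG : π g * π g ≠ 1 := by
    intro h
    rw [← map_mul] at h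
    have h1 : g * g ∈ Subgroup.center (Matrix.SpecialLinearGroup (Fin 2) F) :=
      (QuotientGroup.eq_one_iff _).1 h
    rw [center_sl2_eq_bot_of_two h2, Subgroup.mem_bot] at h1
    exact hgg h1
  have : Finite (Matrix.ProjectiveSpecialLinearGroup (Fin 2) F) := by
    unfold Matrix.ProjectiveSpecialLinearGroup
    infer_instance
  exact ⟨Subgroup.closure {π g, π w}, not_dvd_card_closure hW hGW hp hPG,
    not_comm_closure hGW hGG⟩

end Cfsg.Agent.Lib.Helper66.CycSyl
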