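import Mathlib
import Cfsg.Agent.Lib.Helper56.NSE3Defs

/-!
# K-NSE3-L10 (keystone 399611, architect helper56, S3996): `solvable_two_odd`
-/

set_option autoImplicit false

namespace Cfsg.Agent.Lib.Helper66.NSE3

open Cfsg.Agent.S3995 (s)
open Cfsg.Agent.Lib.Helper56.NSE3 (Hyp)

variable {G : Type*} [Group G] [Finite G]

set_option linter.unusedVariables false in
/-- L10 -/
theorem solvable_two_odd {p q a b : ℕ} (hp : p.Prime) (hq : q.Prime)
    (hcard : Nat.card G = 2 * (p ^ a * q ^ b)) (hodd : ¬ 2 ∣ p ^ a * q ^ b)
    (h2 : s G 2 = 1) : Group.IsSolvable G := by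
  classical
  have : Fact (Nat.Prime 2) := ⟨Nat.prime_two⟩
  obtain ⟨P⟩ : Nonempty (Sylow 2 G) := inferInstance
  have hm0 : p ^ a * q ^ b ≠ 0 := by
    intro h0
    apply hodd
    rw [h0]
    exact dvd_zero 2
  have hPcard : Nat.card (P : Subgroup G) = 2 := by
    rw [Sylow.card_eq_multiplicity, hcard, Nat.factorization_mul (by norm_num) hm0,
      Finsupp.add_apply, Nat.factorization_eq_zero_of_not_dvd hodd,
      Nat.Prime.factorization_self Nat.prime_two]
    norm_num
  have huniq := (Nat.card_eq_two_iff' (1 : (P : Subgroup G))).mp hPcard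
  have hPc : Subgroup.normalizer ((P : Subgroup G) : Set G) ≤
      Subgroup.centralizer ((P : Subgroup G) : Set G) := by
    intro g hg
    rw [Subgroup.mem_centralizer_iff]
    intro x hx
    by_cases hx1 : x = 1
    · subst hx1
      simp
    · have hgx : g * x * g⁻¹ ∈ (P : Subgroup G) := (Subgroup.mem_normalizer_iff.mp hg x).mp hx
      have hne1 : (⟨x, hx⟩ : (P : Subgroup G)) ≠ 1 := by
        intro h
        exact hx1 (congrArg Subtype.val h)
      have hne2 : (⟨g * x * g⁻¹, hgx⟩ : (P : Subgroup G)) ≠ 1 := by
        intro h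
        have h' : g * x * g⁻¹ = 1 := congrArg Subtype.val h
        apply hx1
        have : x = g⁻¹ * (g * x * g⁻¹) * g := by group
        rw [this, h']
        group
      have heq := huniq.unique hne2 hne1
      have heq' : g * x * g⁻¹ = x := congrArg Subtype.val heq
      calc x * g = (g * x * g⁻¹) * g := by rw [heq']
        _ = g * x := by group
  have hcompl := MonoidHom.ker_transferSylow_isComplement' P hPc
  set H : Subgroup G := (MonoidHom.transferSylow P hPc).ker with hH
  have hHcard : Nat.card H = p ^ a * q ^ b := by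
    have h1 := hcompl.card_mul_card
    rw [hPcard, hcard] at h1
    omega
  have hHs : Group.IsSolvable H := Cfsg.Agent.S0144.result p q a b hp hq hHcard
  have hPs : Group.IsSolvable (P : Subgroup G) := by
    have hnil : Group.IsNilpotent (P : Subgroup G) := P.isPGroup'.isNilpotent
    infer_instance
  exact Group.isSolvable_of_ker_le_range H.subtype (MonoidHom.transferSylow P hPc) (by
    intro x hx
    exact ⟨⟨x, hx⟩, rfl⟩)

end Cfsg.Agent.Lib.Helper66.NSE3
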