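import Mathlib
import Cfsg.Agent.Lib.Helper95.Ru.Defs
import Cfsg.Agent.Lib.Helper62.SchreierSims

/-!
# S0459 keystone K-S0459-C3 (helper66): soundness of the Schreier-Sims level check
-/

set_option autoImplicit false

namespace Cfsg.Agent.Lib.Helper66.RuKey

open Cfsg.Agent.Lib.Helper95.Ru

/-! ### small tools (self-contained versions of what is needed from C1) -/

theorem allBelow_spec₃ {p : Nat → Bool} {n : Nat} (h : allBelow p n = true) :
    ∀ x, x < n → p x = true := by
  induction n with
  | zero => intro x hx; omega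
  | succ n ih =>
    intro x hx
    simp only [allBelow, Bool.and_eq_true] at h
    rcases Nat.lt_succ_iff_lt_or_eq.mp hx with h' | h'
    · exact ih h.2 x h'
    · rw [h']; exact h.1

theorem rep_tId₃ : Rep tId 1 := by
  have h : allBelow (fun x => Nat.beq (tb tId x) x) 4060 = true := by decide +kernel
  intro x
  have h1 := allBelow_spec₃ h x.val x.isLt
  have h2 : tb tId x.val = x.val := Nat.eq_of_beq_eq_true h1
  rw [h2]
  rfl

/-! ### the definitions of the spec -/

/-- The permutation of the letter `c`. -/
def letP (GP : List P) (c : Nat) : P :=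
  match GP[c / 2]? with
  | some g => if c % 2 = 0 then g else g⁻¹
  | none => 1

/-- The permutation of a word of letter codes (first letter applied first). -/
def wP (GP : List P) (w : List Nat) : P := (w.map (letP GP)).foldl (fun acc g => g * acc) 1

/-- The generator tables `LT` represent the forward generators `GP` and their inverses. -/
def RepL (LT : List (Nat × Nat)) (GP : List P) : Prop :=
  List.Forall₂ (fun pr g => Rep pr.1 g ∧ Rep pr.2 g⁻¹) LT GP

/-- The set of members of a list. -/
def genSet (GP : List P) : Set P := {g | g ∈ GP}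

/-! ### words -/

theorem foldl_mul_eq (gs : List P) (a : P) :
    gs.foldl (fun acc g => g * acc) a = gs.reverse.prod * a := by
  induction gs generalizing a with
  | nil => simp
  | cons g gs ih =>
    rw [List.foldl_cons, ih, List.reverse_cons, List.prod_append, List.prod_singleton, mul_assoc]

theorem wP_eq (GP : List P) (w : List Nat) : wP GP w = (w.map (letP GP)).reverse.prod := by
  unfold wP
  rw [foldl_mul_eq, mul_one]

theorem wP_nil (GP : List P) : wP GP [] = 1 := by
  rw [wP_eq]; simp

theorem wP_append (GP : List P) (w₁ w₂ : List Nat) :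
    wP GP (w₁ ++ w₂) = wP GP w₂ * wP GP w₁ := by
  rw [wP_eq, wP_eq, wP_eq, List.map_append, List.reverse_append, List.prod_append]

theorem wP_cons (GP : List P) (c : Nat) (w : List Nat) :
    wP GP (c :: w) = wP GP w * letP GP c := by
  rw [wP_eq, wP_eq, List.map_cons, List.reverse_cons, List.prod_append, List.prod_singleton]

theorem wP_singleton (GP : List P) (c : Nat) : wP GP [c] = letP GP c := by
  rw [wP_cons, wP_nil, one_mul]

theorem letP_mem (K : Subgroup P) (GP : List P) (hK : ∀ g ∈ GP, g ∈ K) (c : Nat) :
    letP GP c ∈ K := by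
  unfold letP
  cases h : GP[c / 2]? with
  | none => exact K.one_mem
  | some g =>
    have hg : g ∈ GP := List.mem_of_getElem? h
    by_cases hc : c % 2 = 0
    · simp only [hc, if_true]; exact hK g hg
    · simp only [hc, if_false]; exact K.inv_mem (hK g hg)

theorem wP_mem (K : Subgroup P) (GP : List P) (hK : ∀ g ∈ GP, g ∈ K) (w : List Nat) :
    wP GP w ∈ K := by
  induction w with
  | nil => rw [wP_nil]; exact K.one_mem
  | cons c w ih => rw [wP_cons]; exact K.mul_mem ih (letP_mem K GP hK c)

theorem flipL_even {c : Nat} (h : c % 2 = 0) : flipL c = c + 1 := by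
  unfold flipL
  have : Nat.beq (Nat.mod c 2) 0 = true := by
    show Nat.beq (c % 2) 0 = true
    rw [h]; rfl
  rw [this]; rfl

theorem flipL_odd {c : Nat} (h : c % 2 = 1) : flipL c = c - 1 := by
  unfold flipL
  have : Nat.beq (Nat.mod c 2) 0 = false := by
    show Nat.beq (c % 2) 0 = false
    rw [h]; rfl
  rw [this]; rfl

theorem letP_flipL (GP : List P) (c : Nat) : letP GP (flipL c) = (letP GP c)⁻¹ := by
  rcases Nat.mod_two_eq_zero_or_one c with h | h
  · rw [flipL_even h]
    have h1 : (c + 1) / 2 = c / 2 := by omega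
    have h2 : (c + 1) % 2 = 1 := by omega
    unfold letP
    rw [h1]
    cases GP[c / 2]? with
    | none => simp
    | some g => simp [h, h2]
  · rw [flipL_odd h]
    have h1 : (c - 1) / 2 = c / 2 := by omega
    have h2 : (c - 1) % 2 = 0 := by omega
    unfold letP
    rw [h1]
    cases GP[c / 2]? with
    | none => simp
    | some g => simp [h, h2]

theorem invw_cons (c : Nat) (w : List Nat) : invw (c :: w) = invw w ++ [flipL c] := by
  unfold invw
  rw [List.reverse_cons, List.map_append]
  rfl

theorem wP_invw (GP : List P) (w : List Nat) : wP GP (invw w) = (wP GP w)⁻¹ := by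
  induction w with
  | nil =>
    have : invw [] = [] := rfl
    rw [this, wP_nil, inv_one]
  | cons c w ih =>
    rw [invw_cons, wP_append, wP_singleton, letP_flipL, ih, wP_cons, mul_inv_rev]

/-! ### tables and permutations -/

theorem forall₂_getElem? {α β : Type*} {R : α → β → Prop} {l₁ : List α} {l₂ : List β}
    (h : List.Forall₂ R l₁ l₂) (k : Nat) :
    (l₁[k]? = none ∧ l₂[k]? = none) ∨ ∃ a b, l₁[k]? = some a ∧ l₂[k]? = some b ∧ R a b := by
  induction h generalizing k with
  | nil => left; simp
  | cons hab _ ih =>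
    cases k with
    | zero => right; exact ⟨_, _, by simp, by simp, hab⟩
    | succ k => simpa using ih k

theorem rep_letP {LT : List (Nat × Nat)} {GP : List P} (h : RepL LT GP) (c : Nat) :
    Rep (letT LT c) (letP GP c) := by
  have e : Nat.div c 2 = c / 2 := rfl
  rcases forall₂_getElem? h (c / 2) with ⟨h1, h2⟩ | ⟨pr, g, h1, h2, hR⟩
  · have hT : letT LT c = tId := by
      unfold letT
      rw [e, h1]
    have hP : letP GP c = 1 := by
      unfold letP
      rw [h2]
    rw [hT, hP]
    exact rep_tId₃
  · rcases Nat.mod_two_eq_zero_or_one c with hc | hc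
    · have hT : letT LT c = pr.1 := by
        unfold letT
        rw [e, h1]
        have : Nat.beq (Nat.mod c 2) 0 = true := by
          show Nat.beq (c % 2) 0 = true
          rw [hc]; rfl
        simp only [this, cond_true]
      have hP : letP GP c = g := by
        unfold letP
        rw [h2]
        simp [hc]
      rw [hT, hP]
      exact hR.1
    · have hT : letT LT c = pr.2 := by
        unfold letT
        rw [e, h1]
        have : Nat.beq (Nat.mod c 2) 0 = false := by
          show Nat.beq (c % 2) 0 = false
          rw [hc]; rfl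
        simp only [this, cond_false]
      have hP : letP GP c = g⁻¹ := by
        unfold letP
        rw [h2]
        simp [hc]
      rw [hT, hP]
      exact hR.2

theorem evalT_cons (T : Nat) (w : List Nat) (p : Nat) : evalT (T :: w) p = evalT w (tb T p) := rfl

theorem evalT_append (w₁ w₂ : List Nat) (p : Nat) :
    evalT (w₁ ++ w₂) p = evalT w₂ (evalT w₁ p) := by
  unfold evalT
  rw [List.foldl_append]

theorem wP_apply {LT : List (Nat × Nat)} {GP : List P} (h : RepL LT GP) (w : List Nat)
    (x : Fin 4060) : ((wP GP w) x).val = evalT (wT LT w) x.val := by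
  induction w generalizing x with
  | nil =>
    rw [wP_nil]
    rfl
  | cons c w ih =>
    rw [wP_cons, Equiv.Perm.mul_apply, ih, rep_letP h c x]
    rfl

/-! ### sifting -/

theorem sift_spec (K : Subgroup P) : ∀ (Ls : List Lvl) (GPs : List (List P)),
    List.Forall₂ (fun L' GP' => RepL L'.LT GP') Ls GPs →
    (∀ GP' ∈ GPs, ∀ g ∈ GP', g ∈ K) →
    ∀ (rw tw : List Nat), sift Ls rw = some tw →
      ∃ t ∈ K, ∀ x : Fin 4060, (t x).val = evalT tw x.val := by
  intro Ls GPs h
  induction h with
  | nil =>
    intro _ rw tw hs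
    have : tw = [] := by
      simp only [sift] at hs
      exact (Option.some.inj hs).symm
    subst this
    exact ⟨1, K.one_mem, fun x => rfl⟩
  | @cons L' GP' Ls' GPs' hL _ ih =>
    intro hK rw tw hs
    simp only [sift] at hs
    cases hin : inOrb L'.W (evalT rw L'.β) with
    | false =>
      rw [hin] at hs
      simp at hs
    | true =>
      rw [hin] at hs
      simp only [cond_true] at hs
      cases hrest : sift Ls' (rw ++ wT L'.LT (invw (uw L' (evalT rw L'.β)))) with
      | none =>
        rw [hrest] at hs
        simp at hs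
      | some rest =>
        rw [hrest] at hs
        have htw : tw = rest ++ wT L'.LT (uw L' (evalT rw L'.β)) := (Option.some.inj hs).symm
        obtain ⟨t, htK, ht⟩ := ih (fun GP'' hG g hg => hK GP'' (List.mem_cons_of_mem _ hG) g hg)
          _ rest hrest
        refine ⟨wP GP' (uw L' (evalT rw L'.β)) * t,
          K.mul_mem (wP_mem K GP' (hK GP' List.mem_cons_self) _) htK, ?_⟩
        intro x
        rw [Equiv.Perm.mul_apply, wP_apply hL, ht, htw, evalT_append]

/-! ### the level check -/

theorem levelCheckRange_spec (D0 : List Nat) (L : Lvl) (Ls : List Lvl) (lo : Nat) :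
    ∀ k, levelCheckRange D0 L Ls lo k = true → ∀ x, lo ≤ x → x < lo + k → inOrb L.W x = true →
      (evalT (wT L.LT (uw L x)) L.β = x ∧
        ∀ j, j < L.LT.length → pairCheck D0 L Ls x (Nat.mul 2 j) = true) := by
  intro k
  induction k with
  | zero => intro _ x h1 h2; omega
  | succ k ih =>
    intro h x hlo hx hin
    simp only [levelCheckRange, Bool.and_eq_true, Bool.or_eq_true, Bool.not_eq_true'] at h
    obtain ⟨h1, h2⟩ := h
    by_cases hxk : x = lo + k
    · subst hxk
      rcases h1 with h1 | ⟨h1a, h1b⟩
      · rw [hin] at h1; exact absurd h1 (by simp)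
      · exact ⟨Nat.eq_of_beq_eq_true h1a, fun j hj => allBelow_spec₃ h1b j hj⟩
    · exact ih h2 x hlo (by omega) hin

theorem orbCount_eq (W : Nat) : ∀ n, orbCount W n = ((List.range n).filter (inOrb W)).length := by
  intro n
  induction n with
  | zero => rfl
  | succ n ih =>
    rw [List.range_succ, List.filter_append, List.length_append]
    cases h : inOrb W n
    · simp [orbCount, h, ih]
    · simp [orbCount, h, ih]

/-! ### the main statement -/

theorem level_sound (A : Subgroup P) (D0 : List Nat)
    (hrigid : ∀ g ∈ A, (∀ d ∈ D0, ∀ hd : d < 4060, (g ⟨d, hd⟩).val = d) → g = 1)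
    (L : Lvl) (GP : List P) (hL : RepL L.LT GP) (hA : ∀ g ∈ GP, g ∈ A)
    (Ls : List Lvl) (GPs : List (List P)) (hLs : List.Forall₂ (fun L' GP' => RepL L'.LT GP') Ls GPs)
    (hAs : ∀ GP' ∈ GPs, ∀ g ∈ GP', g ∈ A)
    (K' : Subgroup P) (hK' : ∀ GP' ∈ GPs, ∀ g ∈ GP', g ∈ K')
    (h1 : K' ≤ Subgroup.closure (genSet GP))
    (hβ : L.β < 4060) (h3 : ∀ h ∈ K', h ⟨L.β, hβ⟩ = ⟨L.β, hβ⟩)
    (hroot : inOrb L.W L.β = true ∧ uw L L.β = [])
    (hcheck : levelCheckRange D0 L Ls 0 4060 = true) :
    Nat.card (Subgroup.closure (genSet GP)) = orbCount L.W 4060 * Nat.card K' ∧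
    (∀ g ∈ Subgroup.closure (genSet GP), g ⟨L.β, hβ⟩ = ⟨L.β, hβ⟩ → g ∈ K') ∧
    (∀ x (hx : x < 4060), inOrb L.W x = true →
      ∃ g ∈ Subgroup.closure (genSet GP), g ⟨L.β, hβ⟩ = ⟨x, hx⟩) := by
  classical
  set S : Set P := genSet GP with hS
  set β : Fin 4060 := ⟨L.β, hβ⟩ with hβdef
  -- facts from the check
  have hspec : ∀ x, x < 4060 → inOrb L.W x = true →
      (evalT (wT L.LT (uw L x)) L.β = x ∧
        ∀ j, j < L.LT.length → pairCheck D0 L Ls x (Nat.mul 2 j) = true) := by
    intro x hx hin
    exact levelCheckRange_spec D0 L Ls 0 4060 hcheck x (Nat.zero_le _) (by omega) hin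
  have hGPS : ∀ g ∈ GP, g ∈ Subgroup.closure S := fun g hg => Subgroup.subset_closure hg
  -- the transversal
  set filt : List Nat := (List.range 4060).filter (inOrb L.W) with hfilt
  have hfiltmem : ∀ x, x ∈ filt ↔ x < 4060 ∧ inOrb L.W x = true := by
    intro x
    rw [hfilt, List.mem_filter, List.mem_range]
  set U : List P := filt.map (fun x => wP GP (uw L x)) with hU
  have hUβ : ∀ x (hx : x < 4060), inOrb L.W x = true → (wP GP (uw L x)) β = ⟨x, hx⟩ := by
    intro x hx hin
    apply Fin.ext
    rw [wP_apply hL]
    exact (hspec x hx hin).1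
  have hlen : L.LT.length = GP.length := hL.length_eq
  have hstep := Cfsg.Agent.Lib.Helper62.level_step (G := P) (Ω := Fin 4060) S K' U β h1
    (by
      intro u hu
      rw [hU, List.mem_map] at hu
      obtain ⟨x, _, rfl⟩ := hu
      exact wP_mem _ GP hGPS _)
    (by
      intro h hh
      rw [Equiv.Perm.smul_def]
      exact h3 h hh)
    (by
      rw [hU, List.map_map]
      apply List.Nodup.map_on
      · intro x hx y hy hxy
        obtain ⟨hx1, hx2⟩ := (hfiltmem x).mp hx
        obtain ⟨hy1, hy2⟩ := (hfiltmem y).mp hy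
        simp only [Function.comp_apply, Equiv.Perm.smul_def] at hxy
        rw [hUβ x hx1 hx2, hUβ y hy1 hy2] at hxy
        exact Fin.mk.inj_iff.mp hxy
      · exact (List.nodup_range).filter _)
    (by
      rw [hU, List.mem_map]
      refine ⟨L.β, (hfiltmem _).mpr ⟨hβ, hroot.1⟩, ?_⟩
      show wP GP (uw L L.β) = 1
      rw [hroot.2, wP_nil])
    (by
      intro s hs v hv
      rw [hU, List.mem_map] at hv
      obtain ⟨x, hxf, rfl⟩ := hv
      obtain ⟨hx, hin⟩ := (hfiltmem x).mp hxf
      have hsGP : s ∈ GP := hs
      obtain ⟨j, hj, hjs⟩ := List.getElem_of_mem hsGP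
      have hjL : j < L.LT.length := by rw [hlen]; exact hj
      -- the letter of `s`
      have hlet : letP GP (Nat.mul 2 j) = s := by
        have e1 : Nat.mul 2 j / 2 = j := by
          show 2 * j / 2 = j
          omega
        have e2 : Nat.mul 2 j % 2 = 0 := by
          show 2 * j % 2 = 0
          omega
        unfold letP
        rw [e1, List.getElem?_eq_getElem hj, hjs]
        simp
      have hpc := (hspec x hx hin).2 j hjL
      simp only [pairCheck, Bool.and_eq_true] at hpc
      obtain ⟨hyin, hmatch⟩ := hpc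
      -- the image point
      have hy : tb (letT L.LT (Nat.mul 2 j)) x = (s ⟨x, hx⟩).val := by
        rw [← hlet]
        exact (rep_letP hL (Nat.mul 2 j) ⟨x, hx⟩).symm
      set y := tb (letT L.LT (Nat.mul 2 j)) x with hydef
      have hy4 : y < 4060 := by rw [hy]; exact (s ⟨x, hx⟩).isLt
      set u := wP GP (uw L y) with hu
      have huU : u ∈ U := by
        rw [hU, List.mem_map]
        exact ⟨y, (hfiltmem y).mpr ⟨hy4, hyin⟩, rfl⟩
      refine ⟨u, huU, ?_⟩
      -- the table word of `r`
      set rw' := wT L.LT (uw L x) ++ letT L.LT (Nat.mul 2 j) :: wT L.LT (invw (uw L y)) with hrw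
      have hrwT : rw' = wT L.LT (uw L x ++ Nat.mul 2 j :: invw (uw L y)) := by
        rw [hrw]
        unfold wT
        rw [List.map_append, List.map_cons]
      have hrP : wP GP (uw L x ++ Nat.mul 2 j :: invw (uw L y)) =
          u⁻¹ * (s * wP GP (uw L x)) := by
        rw [wP_append, wP_cons, wP_invw, hlet, mul_assoc]
      set r := u⁻¹ * (s * wP GP (uw L x)) with hr
      have hrrep : ∀ z : Fin 4060, (r z).val = evalT rw' z.val := by
        intro z
        rw [← hrP, hrwT]
        exact wP_apply hL _ z
      -- sifting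
      cases hsift : sift Ls rw' with
      | none =>
        rw [hsift] at hmatch
        simp at hmatch
      | some tw =>
        rw [hsift] at hmatch
        simp only [List.all_eq_true] at hmatch
        obtain ⟨t, htK, ht⟩ := sift_spec (K' ⊓ A) Ls GPs hLs
          (fun GP' hG g hg => ⟨hK' GP' hG g hg, hAs GP' hG g hg⟩) rw' tw hsift
        have hrA : r ∈ A := by
          rw [hr]
          exact A.mul_mem (A.inv_mem (wP_mem A GP hA _))
            (A.mul_mem (hA s hsGP) (wP_mem A GP hA _))
        have hone : t⁻¹ * r = 1 := by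
          apply hrigid _ (A.mul_mem (A.inv_mem htK.2) hrA)
          intro d hd hd4
          have hrt : r ⟨d, hd4⟩ = t ⟨d, hd4⟩ := by
            apply Fin.ext
            rw [hrrep, ht]
            exact Nat.eq_of_beq_eq_true (hmatch d hd)
          rw [Equiv.Perm.mul_apply, hrt]
          show (t.symm (t ⟨d, hd4⟩)).val = d
          rw [Equiv.symm_apply_apply]
        have hrt : r = t := by
          have := congrArg (fun g => t * g) hone
          simpa using this
        rw [hrt]
        exact htK.1)
  obtain ⟨_, hcard, hstab⟩ := hstep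
  refine ⟨?_, ?_, ?_⟩
  · rw [hcard, orbCount_eq, hU, List.length_map]
  · intro g hg hgβ
    exact hstab g hg (by rw [Equiv.Perm.smul_def]; exact hgβ)
  · intro x hx hin
    exact ⟨wP GP (uw L x), wP_mem _ GP hGPS _, hUβ x hx hin⟩

end Cfsg.Agent.Lib.Helper66.RuKey
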