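import Mathlib
import Cfsg.Agent.Lib.Helper05.A10Defs

set_option autoImplicit false

/-!
# K-A10 leaf B3 (348905): `Φ_m(elt i) = 0` for all 240 elements (table check)
-/

namespace Cfsg.Agent.Lib.Helper66.A10Iso

open Matrix Cfsg.Agent.Lib.Helper05.A10Iso

set_option maxRecDepth 100000 in
/-- LEAF B3 (348905) (table check). -/
theorem cyc_elt : ∀ i : Fin 240, ordTab i ∈ orders ∧ cyc (ordTab i) (elt i) = 0 := by
  decide +kernel

end Cfsg.Agent.Lib.Helper66.A10Iso
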