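import Mathlib

/-!
Baer's trick: on a group `H` of nilpotency class at most 2 in which every element satisfies
`x ^ (2 * m + 1) = 1`, the operation `x ⊕ y = x * y * ⁅x, y⁆ ^ m` makes `H` into an abelian
group `BaerT H` with the same automorphisms.
-/

set_option autoImplicit false

namespace Cfsg.Agent.Lib.Helper66

open scoped commutatorElement

/-- all commutators are central -/
def IsClassTwo (H : Type*) [Group H] : Prop := ∀ x y z : H, ⁅x, y⁆ * z = z * ⁅x, y⁆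

section
variable {H : Type*} [Group H]

theorem IsClassTwo.pow_comm (hc : IsClassTwo H) (x y z : H) (n : ℕ) :
    ⁅x, y⁆ ^ n * z = z * ⁅x, y⁆ ^ n :=
  ((show Commute ⁅x, y⁆ z from hc x y z).pow_left n).eq

theorem IsClassTwo.comm_mul_left (hc : IsClassTwo H) (x y z : H) :
    ⁅x * y, z⁆ = ⁅x, z⁆ * ⁅y, z⁆ := by
  have h1 : ⁅x * y, z⁆ = x * ⁅y, z⁆ * x⁻¹ * ⁅x, z⁆ := by
    simp only [commutatorElement_def]; group
  rw [h1, ← hc y z x, mul_inv_cancel_right, hc y z]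

theorem IsClassTwo.comm_mul_right (hc : IsClassTwo H) (x y z : H) :
    ⁅x, y * z⁆ = ⁅x, y⁆ * ⁅x, z⁆ := by
  have h1 : ⁅x, y * z⁆ = ⁅x, y⁆ * (y * ⁅x, z⁆ * y⁻¹) := by
    simp only [commutatorElement_def]; group
  rw [h1, ← hc x z y, mul_inv_cancel_right]

theorem IsClassTwo.comm_central_left (hc : IsClassTwo H) (a b z : H) (n : ℕ) :
    ⁅⁅a, b⁆ ^ n, z⁆ = 1 := by
  rw [commutatorElement_eq_one_iff_mul_comm]
  exact hc.pow_comm a b z n

theorem IsClassTwo.comm_central_right (hc : IsClassTwo H) (a b z : H) (n : ℕ) :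
    ⁅z, ⁅a, b⁆ ^ n⁆ = 1 := by
  rw [commutatorElement_eq_one_iff_mul_comm]
  exact (hc.pow_comm a b z n).symm

end

/-- the carrier of the Baer group -/
def BaerT (H : Type*) := H

/-- identity map into the Baer group -/
def toBaer {H : Type*} (x : H) : BaerT H := x

/-- identity map out of the Baer group -/
def ofBaer {H : Type*} (x : BaerT H) : H := x

section
variable {H : Type*} [Group H]

/-- The Baer group structure. -/
@[reducible] def baerCommGroup (m : ℕ) (hc : IsClassTwo H) (he : ∀ x : H, x ^ (2 * m + 1) = 1) :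
    CommGroup (BaerT H) :=
  let op : H → H → H := fun x y => x * y * ⁅x, y⁆ ^ m
  have hassoc : ∀ x y z : H, op (op x y) z = op x (op y z) := by
    intro x y z
    show (x * y * ⁅x, y⁆ ^ m) * z * ⁅x * y * ⁅x, y⁆ ^ m, z⁆ ^ m
      = x * (y * z * ⁅y, z⁆ ^ m) * ⁅x, y * z * ⁅y, z⁆ ^ m⁆ ^ m
    have e1 : ⁅x * y * ⁅x, y⁆ ^ m, z⁆ = ⁅x, z⁆ * ⁅y, z⁆ := by
      rw [hc.comm_mul_left, hc.comm_mul_left, hc.comm_central_left, mul_one]
    have e2 : ⁅x, y * z * ⁅y, z⁆ ^ m⁆ = ⁅x, y⁆ * ⁅x, z⁆ := by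
      rw [hc.comm_mul_right, hc.comm_mul_right, hc.comm_central_right, mul_one]
    have c1 : Commute ⁅x, z⁆ ⁅y, z⁆ := hc x z _
    have c2 : Commute ⁅x, y⁆ ⁅x, z⁆ := hc x y _
    rw [e1, e2, c1.mul_pow, c2.mul_pow]
    have hA : ∀ w : H, ⁅x, y⁆ ^ m * w = w * ⁅x, y⁆ ^ m := fun w => hc.pow_comm x y w m
    have hC : ∀ w : H, ⁅y, z⁆ ^ m * w = w * ⁅y, z⁆ ^ m := fun w => hc.pow_comm y z w m
    calc x * y * ⁅x, y⁆ ^ m * z * (⁅x, z⁆ ^ m * ⁅y, z⁆ ^ m)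
        = x * y * (⁅x, y⁆ ^ m * z) * (⁅x, z⁆ ^ m * ⁅y, z⁆ ^ m) := by group
      _ = x * y * (z * ⁅x, y⁆ ^ m) * (⁅x, z⁆ ^ m * ⁅y, z⁆ ^ m) := by rw [hA z]
      _ = x * y * z * ((⁅x, y⁆ ^ m * ⁅x, z⁆ ^ m) * ⁅y, z⁆ ^ m) := by group
      _ = x * y * z * (⁅y, z⁆ ^ m * (⁅x, y⁆ ^ m * ⁅x, z⁆ ^ m)) := by rw [hC]
      _ = x * (y * z * ⁅y, z⁆ ^ m) * (⁅x, y⁆ ^ m * ⁅x, z⁆ ^ m) := by group
  have hcomm : ∀ x y : H, op x y = op y x := by
    intro x y
    show x * y * ⁅x, y⁆ ^ m = y * x * ⁅y, x⁆ ^ m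
    have h1 : y * x = ⁅y, x⁆ * (x * y) := by simp only [commutatorElement_def]; group
    have h2 : ⁅x, y⁆ = ⁅y, x⁆⁻¹ := (commutatorElement_inv y x).symm
    rw [h1, h2, hc y x (x * y), mul_assoc (x * y), ← pow_succ']
    congr 1
    rw [inv_pow, inv_eq_iff_eq_inv, ← mul_eq_one_iff_eq_inv, ← pow_add]
    have : m + (m + 1) = 2 * m + 1 := by ring
    rw [this]
    exact he _
  have hone : ∀ x : H, op 1 x = x := by
    intro x
    show 1 * x * ⁅1, x⁆ ^ m = x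
    simp
  have hinv : ∀ x : H, op x⁻¹ x = 1 := by
    intro x
    show x⁻¹ * x * ⁅x⁻¹, x⁆ ^ m = 1
    have : ⁅x⁻¹, x⁆ = 1 := by
      rw [commutatorElement_eq_one_iff_mul_comm]; simp
    rw [this]; simp
  { mul := op
    mul_assoc := hassoc
    one := (1 : H)
    one_mul := hone
    mul_one := (fun x : H => (hcomm x 1).trans (hone x) : ∀ x : H, op x 1 = x)
    inv := fun x => (x⁻¹ : H)
    inv_mul_cancel := hinv
    mul_comm := hcomm }

end

end Cfsg.Agent.Lib.Helper66
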