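import Mathlib
import Cfsg.Agent.Lib.Helper66.Baer

/-!
Thompson's strengthened `P × Q` lemma, abelian case and (via Baer's trick) the case of class two
and odd exponent `p`.
-/

set_option autoImplicit false

namespace Cfsg.Agent.Lib.Helper66

open Finset

/-- Abelian case: `P₁` a `p`-group normalizing the `p'`-group `Q₁`, both acting on the finite
abelian `p`-group `V`; if every fixed point of `P₁` is fixed by `Q₁` then `Q₁` acts trivially. -/
theorem abelian_PQ {Γ V : Type*} [Group Γ] [CommGroup V] [Finite V] (p : ℕ) [Fact p.Prime]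
    (hV : IsPGroup p V) (ρ : Γ →* MulAut V) (P₁ Q₁ : Subgroup Γ) [Finite Q₁]
    (hP₁ : IsPGroup p P₁) (hQ₁ : (Nat.card Q₁).Coprime p)
    (hPQ : P₁ ≤ Subgroup.normalizer (Q₁ : Set Γ))
    (hfix : ∀ v : V, (∀ x ∈ P₁, ρ x v = v) → ∀ q ∈ Q₁, ρ q v = v) :
    ∀ q ∈ Q₁, ∀ v : V, ρ q v = v := by
  classical
  have : Fintype Q₁ := Fintype.ofFinite Q₁
  let τ : V →* V :=
    { toFun := fun w => ∏ q : Q₁, ρ (q : Γ) w
      map_one' := by simp
      map_mul' := fun x y => by simp [Finset.prod_mul_distrib] }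
  have hτ : ∀ w : V, τ w = ∏ q : Q₁, ρ (q : Γ) w := fun _ => rfl
  -- τ commutes with P₁
  have hτP : ∀ x ∈ P₁, ∀ v : V, τ (ρ x v) = ρ x (τ v) := by
    intro x hx v
    rw [hτ, hτ, map_prod]
    let φ : Q₁ → Q₁ := fun q => ⟨x * (q : Γ) * x⁻¹, (Subgroup.mem_normalizer_iff.mp (hPQ hx) _).mp q.2⟩
    have hφinj : Function.Injective φ := by
      intro a b hab
      have h1 : x * (a : Γ) * x⁻¹ = x * (b : Γ) * x⁻¹ := congrArg Subtype.val hab
      exact Subtype.ext (mul_left_cancel (mul_right_cancel h1))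
    have hφbij : Function.Bijective φ := Finite.injective_iff_bijective.mp hφinj
    have h2 : ∀ q : Q₁, ρ x (ρ (q : Γ) v) = ρ ((φ q : Q₁) : Γ) (ρ x v) := by
      intro q
      show ρ x (ρ (q : Γ) v) = ρ (x * (q : Γ) * x⁻¹) (ρ x v)
      rw [← MulAut.mul_apply, ← MulAut.mul_apply, ← map_mul, ← map_mul]
      congr 2
      group
    simp_rw [h2]
    exact (hφbij.prod_comp (fun q : Q₁ => ρ (q : Γ) (ρ x v))).symm
  -- τ is Q₁-invariant
  have hτQ : ∀ q ∈ Q₁, ∀ v : V, τ (ρ q v) = τ v := by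
    intro q hq v
    rw [hτ, hτ]
    have h1 : ∀ a : Q₁, ρ (a : Γ) (ρ q v) = ρ ((a * ⟨q, hq⟩ : Q₁) : Γ) v := by
      intro a
      rw [Subgroup.coe_mul, map_mul]
      rfl
    simp_rw [h1]
    exact (Group.mulRight_bijective (⟨q, hq⟩ : Q₁)).prod_comp (fun a : Q₁ => ρ (a : Γ) v)
  -- kernel of τ is trivial
  have hker : τ.ker = ⊥ := by
    by_contra hne
    let W : Subgroup V := τ.ker
    let act : MulAction ↥P₁ ↥W :=
      { smul := fun x w => ⟨ρ (x : Γ) (w : V), by
          have hw : τ (w : V) = 1 := w.2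
          show τ (ρ (x : Γ) (w : V)) = 1
          rw [hτP x x.2, hw, map_one]⟩
        one_smul := fun w => Subtype.ext (by
          show ρ ((1 : ↥P₁) : Γ) (w : V) = w
          simp)
        mul_smul := fun x y w => Subtype.ext (by
          show ρ ((x * y : ↥P₁) : Γ) (w : V) = ρ (x : Γ) (ρ (y : Γ) (w : V))
          rw [Subgroup.coe_mul, map_mul]
          rfl) }
    have hWp : IsPGroup p ↥W := hV.to_subgroup W
    have hWnt : Nontrivial ↥W := (Subgroup.nontrivial_iff_ne_bot W).mpr hne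
    obtain ⟨n, hn0, hn⟩ := (hWp.nontrivial_iff_card).mp hWnt
    have hdvd : p ∣ Nat.card ↥W := by
      rw [hn]
      exact dvd_pow_self p hn0.ne'
    have h1fix : (1 : ↥W) ∈ MulAction.fixedPoints ↥P₁ ↥W := by
      intro x
      apply Subtype.ext
      show ρ (x : Γ) ((1 : ↥W) : V) = ((1 : ↥W) : V)
      simp
    obtain ⟨b, hb, hb1⟩ := hP₁.exists_fixed_point_of_prime_dvd_card_of_fixed_point ↥W hdvd h1fix
    have hbP : ∀ x ∈ P₁, ρ x (b : V) = (b : V) := by
      intro x hx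
      have := hb ⟨x, hx⟩
      exact congrArg Subtype.val this
    have hbQ := hfix (b : V) hbP
    have hτb : τ (b : V) = 1 := b.2
    rw [hτ] at hτb
    have h3 : ∏ q : Q₁, ρ (q : Γ) (b : V) = (b : V) ^ Nat.card Q₁ := by
      rw [Finset.prod_congr rfl (fun (q : ↥Q₁) _ => hbQ (q : Γ) q.2), Finset.prod_const, Finset.card_univ,
        Nat.card_eq_fintype_card]
    rw [h3] at hτb
    obtain ⟨k, hk⟩ := hV (b : V)
    have h4 := pow_gcd_eq_one.mpr ⟨hτb, hk⟩
    have hcop : (Nat.card Q₁).Coprime (p ^ k) := Nat.Coprime.pow_right _ hQ₁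
    rw [hcop, pow_one] at h4
    exact hb1 (Subtype.ext h4.symm)
  intro q hq v
  have h1 : τ ((ρ q v) * v⁻¹) = 1 := by
    rw [map_mul, map_inv, hτQ q hq, mul_inv_cancel]
  have h2 : (ρ q v) * v⁻¹ ∈ τ.ker := h1
  rw [hker, Subgroup.mem_bot] at h2
  exact mul_inv_eq_one.mp h2

end Cfsg.Agent.Lib.Helper66

namespace Cfsg.Agent.Lib.Helper66

open scoped commutatorElement

/-- Class two and odd exponent `p`: same conclusion as `abelian_PQ`, by Baer's trick. -/
theorem classTwo_PQ {Γ H : Type*} [Group Γ] [Group H] [Finite H] (p m : ℕ) [Fact p.Prime]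
    (hpm : p = 2 * m + 1) (hc : IsClassTwo H) (he : ∀ x : H, x ^ p = 1)
    (ρ : Γ →* MulAut H) (P₁ Q₁ : Subgroup Γ) [Finite Q₁]
    (hP₁ : IsPGroup p P₁) (hQ₁ : (Nat.card Q₁).Coprime p)
    (hPQ : P₁ ≤ Subgroup.normalizer (Q₁ : Set Γ))
    (hfix : ∀ v : H, (∀ x ∈ P₁, ρ x v = v) → ∀ q ∈ Q₁, ρ q v = v) :
    ∀ q ∈ Q₁, ∀ v : H, ρ q v = v := by
  have he' : ∀ x : H, x ^ (2 * m + 1) = 1 := hpm ▸ he
  have hHp : IsPGroup p H := fun x => ⟨1, by rw [pow_one]; exact he x⟩
  obtain ⟨n, hn⟩ := IsPGroup.iff_card.mp hHp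
  let inst : CommGroup (BaerT H) := baerCommGroup m hc he'
  have hfin : Finite (BaerT H) := (inferInstance : Finite H)
  have hcard : Nat.card (BaerT H) = p ^ n := hn
  have hVp : IsPGroup p (BaerT H) := IsPGroup.of_card hcard
  have hmulB : ∀ x y : BaerT H, x * y = toBaer (ofBaer x * ofBaer y * ⁅ofBaer x, ofBaer y⁆ ^ m) :=
    fun _ _ => rfl
  let ρ' : Γ →* MulAut (BaerT H) :=
    { toFun := fun γ =>
        { toFun := fun v => toBaer (ρ γ (ofBaer v))
          invFun := fun v => toBaer ((ρ γ).symm (ofBaer v))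
          left_inv := fun v => (ρ γ).symm_apply_apply v
          right_inv := fun v => (ρ γ).apply_symm_apply v
          map_mul' := fun x y => by
            rw [hmulB, hmulB]
            show ρ γ (ofBaer x * ofBaer y * ⁅ofBaer x, ofBaer y⁆ ^ m) = _
            rw [map_mul, map_mul, map_pow, map_commutatorElement]
            rfl }
      map_one' := by
        ext v
        show ρ 1 (ofBaer v) = v
        rw [map_one]
        rfl
      map_mul' := fun a b => by
        ext v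
        show ρ (a * b) (ofBaer v) = ρ a (ρ b (ofBaer v))
        rw [map_mul]
        rfl }
  exact abelian_PQ p hVp ρ' P₁ Q₁ hP₁ hQ₁ hPQ hfix

end Cfsg.Agent.Lib.Helper66
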