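import Mathlib

/-! Keystone 138302 K-1383-B (S1383 pack, helper78 architect): `commutator_eq_of_parts`. -/

set_option autoImplicit false

namespace Cfsg.Agent.Lib.Helper66.BG1383

open scoped commutatorElement

/-- elements of a join of two elementwise commuting subgroups are products. -/
theorem exists_mul_of_mem_sup_of_commute {G : Type*} [Group G] (A B : Subgroup G)
    (hc : ∀ a ∈ A, ∀ b ∈ B, a * b = b * a) {x : G} (hx : x ∈ A ⊔ B) :
    ∃ a ∈ A, ∃ b ∈ B, x = a * b := by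
  rw [Subgroup.sup_eq_closure] at hx
  induction hx using Subgroup.closure_induction with
  | mem y hy =>
    rcases hy with hy | hy
    · exact ⟨y, hy, 1, B.one_mem, by simp⟩
    · exact ⟨1, A.one_mem, y, hy, by simp⟩
  | one => exact ⟨1, A.one_mem, 1, B.one_mem, by simp⟩
  | mul y z _ _ ihy ihz =>
    obtain ⟨a, ha, b, hb, rfl⟩ := ihy
    obtain ⟨a', ha', b', hb', rfl⟩ := ihz
    refine ⟨a * a', A.mul_mem ha ha', b * b', B.mul_mem hb hb', ?_⟩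
    have h := hc a' ha' b hb
    calc a * b * (a' * b') = a * (b * a') * b' := by group
      _ = a * (a' * b) * b' := by rw [h]
      _ = a * a' * (b * b') := by group
  | inv y _ ihy =>
    obtain ⟨a, ha, b, hb, rfl⟩ := ihy
    refine ⟨a⁻¹, A.inv_mem ha, b⁻¹, B.inv_mem hb, ?_⟩
    have h := hc a ha b hb
    rw [mul_inv_rev]
    have h2 : b⁻¹ * a⁻¹ = a⁻¹ * b⁻¹ := by
      rw [← mul_inv_rev, ← mul_inv_rev, h]
    exact h2

theorem commutator_eq_of_parts {G : Type*} [Group G] (H P T K : Subgroup G)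
    (hP : P ≤ H) (hT : T ≤ H) (hPT : P ⊓ T = ⊥)
    (hcomm : ∀ a ∈ P, ∀ b ∈ T, a * b = b * a)
    (hH : ∀ h ∈ H, ∃ a ∈ P, ∃ b ∈ T, h = a * b)
    (hKP : K ≤ Subgroup.normalizer (P : Set G)) (hKT : K ≤ Subgroup.normalizer (T : Set G))
    (hHK : ⁅H, K⁆ = H) : ⁅P, K⁆ = P := by
  -- `[P,K] ≤ P`
  have h1 : ⁅P, K⁆ ≤ P := by
    rw [Subgroup.commutator_le]
    intro a ha k hk
    have hk' := (Subgroup.mem_normalizer_iff.mp (hKP hk)) a⁻¹
    have : k * a⁻¹ * k⁻¹ ∈ P := hk'.mp (P.inv_mem ha)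
    have h2 : ⁅a, k⁆ = a * (k * a⁻¹ * k⁻¹) := by
      rw [commutatorElement_def]; group
    rw [h2]
    exact P.mul_mem ha this
  -- `[T,K] ≤ T`
  have h1T : ∀ b ∈ T, ∀ k ∈ K, ⁅b, k⁆ ∈ T := by
    intro b hb k hk
    have hk' := (Subgroup.mem_normalizer_iff.mp (hKT hk)) b⁻¹
    have : k * b⁻¹ * k⁻¹ ∈ T := hk'.mp (T.inv_mem hb)
    have h2 : ⁅b, k⁆ = b * (k * b⁻¹ * k⁻¹) := by
      rw [commutatorElement_def]; group
    rw [h2]
    exact T.mul_mem hb this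
  -- `H ≤ [P,K] ⊔ T`
  have h2 : H ≤ ⁅P, K⁆ ⊔ T := by
    conv_lhs => rw [← hHK]
    rw [Subgroup.commutator_le]
    intro h hh k hk
    obtain ⟨a, ha, b, hb, rfl⟩ := hH h hh
    have hbk : ⁅b, k⁆ ∈ T := h1T b hb k hk
    have hak : ⁅a, k⁆ ∈ ⁅P, K⁆ := Subgroup.commutator_mem_commutator ha hk
    have hcm : a * ⁅b, k⁆ = ⁅b, k⁆ * a := hcomm a ha _ hbk
    have h3 : ⁅a * b, k⁆ = ⁅b, k⁆ * ⁅a, k⁆ := by
      have e1 : ⁅a * b, k⁆ = a * ⁅b, k⁆ * a⁻¹ * ⁅a, k⁆ := by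
        simp only [commutatorElement_def]; group
      rw [e1, hcm]; group
    rw [h3]
    exact Subgroup.mul_mem _ (Subgroup.mem_sup_right hbk) (Subgroup.mem_sup_left hak)
  apply le_antisymm h1
  intro x hx
  have hx' : x ∈ ⁅P, K⁆ ⊔ T := h2 (hP hx)
  obtain ⟨q, hq, t, ht, rfl⟩ := exists_mul_of_mem_sup_of_commute ⁅P, K⁆ T
    (fun a ha b hb => hcomm a (h1 ha) b hb) hx'
  have htP : t ∈ P := by
    have : t = q⁻¹ * (q * t) := by group
    rw [this]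
    exact P.mul_mem (P.inv_mem (h1 hq)) hx
  have : t ∈ P ⊓ T := ⟨htP, ht⟩
  rw [hPT, Subgroup.mem_bot] at this
  rw [this, mul_one]
  exact hq

end Cfsg.Agent.Lib.Helper66.BG1383
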