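import Mathlib
import Cfsg.Agent.Lib.Helper73.CT4Basic
import Cfsg.Agent.Lib.Helper73.Ito

set_option autoImplicit false

/-!
K-S4146-C: in a group with class sizes `1, n, m, n * m` (`n`, `m` coprime), if there is no good
element for `n` then there is no good element for `m`.

The proof is uniform: inside `K = C(y0)` (`y0` good for `m`, an `s`-element) every `s'`-element has
`K`-class size `1` or `n`; two applications of `S4127.thmT` show that every `t`-element of `K`
(`t` a prime not dividing `n`) has `K`-class size a power of `t`, so its `G`-class size divides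
`t ^ c * m` and cannot be `n`.
-/

namespace Cfsg.Agent.Lib.Helper66.CT4

open Cfsg.Agent.Lib.Helper73 Cfsg.Agent.Lib.Helper73.CT4

universe u

/-- if `p` divides no class size of a `p'`-element then every `p`-element has class size a power
of `p` -/
theorem index_pow_of_thmT {L : Type u} [Group L] [Finite L] {p : ℕ} (hp : p.Prime)
    (h : ∀ y : L, (orderOf y).Coprime p → ¬ p ∣ (Subgroup.centralizer ({y} : Set L)).index)
    {x : L} {k : ℕ} (hx : orderOf x = p ^ k) :
    ∃ c : ℕ, (Subgroup.centralizer ({x} : Set L)).index = p ^ c := by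
  have : Fact p.Prime := ⟨hp⟩
  obtain ⟨D, _, hD2, hD3⟩ := Cfsg.Agent.S4127.thmT (L := L) p h
  have hDle : D ≤ Subgroup.centralizer ({x} : Set L) := fun d hd => mem_Cz.2 (hD3 d hd x ⟨k, hx⟩)
  have h1 : (Subgroup.centralizer ({x} : Set L)).index ∣ D.index := Subgroup.index_dvd_of_le hDle
  have h2 : D.index = p ^ (Nat.card L).factorization p := by
    have := Subgroup.card_mul_index D
    rw [← hD2] at this
    exact Nat.eq_of_mul_eq_mul_left Nat.card_pos this
  rw [h2] at h1
  obtain ⟨c, _, hc⟩ := (Nat.dvd_prime_pow hp).1 h1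
  exact ⟨c, hc⟩

/-- if every `s'`-element has class size `1` or `n` (`s ∤ n`) and `t ∤ n`, every `t`-element has
class size a power of `t` -/
theorem index_centralizer_prime_pow {L : Type u} [Group L] [Finite L] {s t n : ℕ} (hs : s.Prime)
    (ht : t.Prime) (hsn : ¬ s ∣ n) (htn : ¬ t ∣ n)
    (h : ∀ v : L, (orderOf v).Coprime s → (Subgroup.centralizer ({v} : Set L)).index = 1 ∨
      (Subgroup.centralizer ({v} : Set L)).index = n)
    {x : L} {k : ℕ} (hx : orderOf x = t ^ k) :
    ∃ c : ℕ, (Subgroup.centralizer ({x} : Set L)).index = t ^ c := by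
  have hS : ∀ y : L, (orderOf y).Coprime s →
      ¬ s ∣ (Subgroup.centralizer ({y} : Set L)).index := by
    intro y hy hd
    rcases h y hy with h1 | h1
    · rw [h1] at hd; exact hs.one_lt.ne' (Nat.dvd_one.1 hd)
    · rw [h1] at hd; exact hsn hd
  by_cases hts : t = s
  · subst hts
    exact index_pow_of_thmT ht hS hx
  · have hall : ∀ y : L, ¬ t ∣ (Subgroup.centralizer ({y} : Set L)).index := by
      intro y hd
      obtain ⟨u, v, huv, -, -, ⟨a, hua⟩, hvs⟩ := dec' y s hs
      obtain ⟨c, hc⟩ := index_pow_of_thmT hs hS hua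
      have hle : Subgroup.centralizer ({u} : Set L) ⊓ Subgroup.centralizer ({v} : Set L) ≤
          Subgroup.centralizer ({y} : Set L) := by
        intro g hg
        obtain ⟨h1, h2⟩ := Subgroup.mem_inf.1 hg
        rw [mem_Cz] at h1 h2 ⊢
        rw [← huv, ← mul_assoc, h1, mul_assoc, h2, mul_assoc]
      have hdvd := Subgroup.index_dvd_of_le hle
      have hcop : (Subgroup.centralizer ({u} : Set L)).index.Coprime
          (Subgroup.centralizer ({v} : Set L)).index := by
        rw [hc]
        apply Nat.Coprime.pow_left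
        rcases h v hvs with h1 | h1
        · rw [h1]; exact Nat.coprime_one_right _
        · rw [h1]; exact (Nat.Prime.coprime_iff_not_dvd hs).2 hsn
      rw [index_inf_of_coprime _ _ hcop, hc] at hdvd
      have h3 := hd.trans hdvd
      rcases (Nat.Prime.dvd_mul ht).1 h3 with h1 | h1
      · exact hts ((Nat.prime_dvd_prime_iff_eq ht hs).1 (ht.dvd_of_dvd_pow h1))
      · rcases h v hvs with h2 | h2
        · rw [h2] at h1; exact ht.one_lt.ne' (Nat.dvd_one.1 h1)
        · rw [h2] at h1; exact htn h1
    exact index_pow_of_thmT ht (fun y _ => hall y) hx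

/-- class sizes inside a subgroup are relative indices -/
theorem index_centralizer_subtype {G : Type*} [Group G] (K : Subgroup G) (z : K) :
    (Subgroup.centralizer ({z} : Set K)).index =
      (Subgroup.centralizer ({(z : G)} : Set G)).relIndex K := by
  have : Subgroup.centralizer ({z} : Set K) =
      (Subgroup.centralizer ({(z : G)} : Set G)).subgroupOf K := by
    ext g
    rw [Subgroup.mem_subgroupOf, Subgroup.mem_centralizer_singleton_iff,
      Subgroup.mem_centralizer_singleton_iff, Subtype.ext_iff]
    rfl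
  rw [this]
  rfl

variable {G : Type*} [Group G] {n m : ℕ}

/-- KC: no good element for `n` => no good element for `m` -/
theorem not_good_of_not_good [Finite G] (H : Hyp G n m) (hN : ¬ Good G n) : ¬ Good G m := by
  rintro ⟨y0, s, k, hs, hsm, hy0o, hy0⟩
  obtain ⟨x1, hx1⟩ := H.exists_n
  obtain ⟨x, -, t, j, ht, hxo, hx, -⟩ := H.exists_primary hx1
  have htn : ¬ t ∣ n := fun hd => hN ⟨x, t, j, ht, hd, hxo, hx⟩
  have hsn : ¬ s ∣ n := by
    intro hd
    exact hs.one_lt.ne' ((Nat.Coprime.coprime_dvd_left hd H.cop).eq_one_of_dvd hsm)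
  have hcomm : Commute y0 x := H.symm.good_commute hs hsm hy0o hy0 hx
  obtain ⟨K, hK⟩ : ∃ K : Subgroup G, K = Subgroup.centralizer ({y0} : Set G) := ⟨_, rfl⟩
  have hKi : K.index = m := by rw [hK]; exact hy0
  have hxK : x ∈ K := by rw [hK]; exact mem_Cz.2 hcomm.eq.symm
  have hA : ∀ v : K, (orderOf v).Coprime s →
      (Subgroup.centralizer ({v} : Set K)).index = 1 ∨
        (Subgroup.centralizer ({v} : Set K)).index = n := by
    intro v hv
    rw [index_centralizer_subtype]
    have hvK : Commute y0 (v : G) := by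
      exact (mem_Cz.1 (hK.le v.2)).symm
    have hcop : (orderOf y0).Coprime (orderOf (v : G)) := by
      rw [hy0o, Subgroup.orderOf_coe]
      exact Nat.Coprime.pow_left k hv.symm
    have hCz := Cz_mul_of_coprime hvK hcop
    have h1 : (Subgroup.centralizer ({(v : G)} : Set G) ⊓ K).relIndex K * K.index =
        (Subgroup.centralizer ({(v : G)} : Set G) ⊓ K).index :=
      Subgroup.relIndex_mul_index inf_le_right
    rw [Subgroup.inf_relIndex_right] at h1
    have h2 : Subgroup.centralizer ({(v : G)} : Set G) ⊓ K =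
        Subgroup.centralizer ({y0 * (v : G)} : Set G) := by
      rw [hCz, inf_comm]
      exact congrArg (fun A => A ⊓ Subgroup.centralizer ({(v : G)} : Set G)) hK
    rw [h2, hKi] at h1
    have hmpos := H.m_pos
    rcases H.idx_cases (y0 * (v : G)) with h3 | h3 | h3 | h3
    · rw [h3] at h1
      exact absurd (Nat.eq_one_of_mul_eq_one_left h1) H.hm.ne'
    · rw [h3] at h1
      exact absurd (Dvd.intro_left _ h1) H.not_m_dvd_n
    · rw [h3] at h1
      left
      exact Nat.eq_of_mul_eq_mul_right hmpos (h1.trans (one_mul m).symm)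
    · rw [h3] at h1
      right
      exact Nat.eq_of_mul_eq_mul_right hmpos h1
  have hxo' : orderOf (⟨x, hxK⟩ : K) = t ^ j := by rw [Subgroup.orderOf_mk]; exact hxo
  obtain ⟨c, hc⟩ := index_centralizer_prime_pow hs ht hsn htn hA hxo'
  rw [index_centralizer_subtype] at hc
  change (Subgroup.centralizer ({x} : Set G)).relIndex K = t ^ c at hc
  have h1 : (Subgroup.centralizer ({x} : Set G) ⊓ K).relIndex K * K.index =
      (Subgroup.centralizer ({x} : Set G) ⊓ K).index :=
    Subgroup.relIndex_mul_index inf_le_right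
  rw [Subgroup.inf_relIndex_right, hc, hKi] at h1
  have h2 : (Subgroup.centralizer ({x} : Set G)).index ∣
      (Subgroup.centralizer ({x} : Set G) ⊓ K).index := Subgroup.index_dvd_of_le inf_le_left
  rw [hx, ← h1] at h2
  have hcop : n.Coprime (t ^ c * m) := by
    apply Nat.Coprime.mul_right _ H.cop
    exact Nat.Coprime.pow_right c ((Nat.Prime.coprime_iff_not_dvd ht).2 htn).symm
  exact H.hn.ne' (hcop.eq_one_of_dvd h2)

end Cfsg.Agent.Lib.Helper66.CT4
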