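import Mathlib

/-!
# A Chevalley–Warning type argument inside a class-two `2`-group

`DegLT r F` says that all `r`-fold iterated right differences of `F : X → ZMod 2` vanish.
The sum of such an `F` over a "cube" `{u₁^{ε₁} ⋯ u_r^{ε_r}}` vanishes.  Applied to the
indicator of `x ^ 2 = 1` this yields involutions outside a central elementary abelian
subgroup `Z` of order `4` whenever `X / Z` is elementary abelian of order at least `2 ^ 5`.
-/

namespace Cfsg.Agent.Lib.Helper66

section DegLT

variable {X : Type*} [Group X]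

/-- All `r`-fold iterated right differences of `F` vanish. -/
def DegLT : ℕ → (X → ZMod 2) → Prop
  | 0, F => ∀ x, F x = 0
  | (r + 1), F => ∀ u, DegLT r (fun x => F (x * u) - F x)

theorem DegLT.zero_fun : ∀ r : ℕ, DegLT r (fun _ : X => (0 : ZMod 2))
  | 0 => fun _ => rfl
  | (r + 1) => fun _ => by
      have h := DegLT.zero_fun r
      show DegLT r (fun _ : X => (0 : ZMod 2) - 0)
      simpa using h

theorem DegLT.of_forall_eq_zero {F : X → ZMod 2} (h : ∀ x, F x = 0) (r : ℕ) : DegLT r F := by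
  have : F = fun _ => 0 := funext h
  rw [this]; exact DegLT.zero_fun r

theorem DegLT.succ : ∀ (r : ℕ) (F : X → ZMod 2), DegLT r F → DegLT (r + 1) F
  | 0, F, h => fun u x => by
      show F (x * u) - F x = 0
      rw [h (x * u), h x, sub_zero]
  | (r + 1), F, h => fun u => DegLT.succ r _ (h u)

theorem DegLT.mono {r s : ℕ} (hrs : r ≤ s) {F : X → ZMod 2} (h : DegLT r F) : DegLT s F := by
  induction hrs with
  | refl => exact h
  | step _ ih => exact DegLT.succ _ _ ih

theorem DegLT.add : ∀ (r : ℕ) (F G : X → ZMod 2), DegLT r F → DegLT r G →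
    DegLT r (fun x => F x + G x)
  | 0, F, G, hF, hG => fun x => by simp [hF x, hG x]
  | (r + 1), F, G, hF, hG => fun u => by
      have := DegLT.add r _ _ (hF u) (hG u)
      have e : (fun x => (F (x * u) + G (x * u)) - (F x + G x)) =
          fun x => (F (x * u) - F x) + (G (x * u) - G x) := by
        funext x; ring
      show DegLT r (fun x => (F (x * u) + G (x * u)) - (F x + G x))
      rw [e]; exact this

theorem DegLT.const (c : ZMod 2) : DegLT 1 (fun _ : X => c) := fun _ _ => by simp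

theorem DegLT.translate : ∀ (r : ℕ) (F : X → ZMod 2) (u : X), DegLT r F →
    DegLT r (fun x => F (x * u))
  | 0, F, u, h => fun x => h _
  | (r + 1), F, u, h => fun w => by
      have := DegLT.translate r _ u (h (u⁻¹ * w * u))
      have e : (fun x => F (x * w * u) - F (x * u)) =
          fun x => F (x * u * (u⁻¹ * w * u)) - F (x * u) := by
        funext x
        have : x * u * (u⁻¹ * w * u) = x * w * u := by group
        rw [this]
      show DegLT r (fun x => F (x * w * u) - F (x * u))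
      rw [e]; exact this

theorem DegLT.mul_aux : ∀ (n a b : ℕ), a + b = n → ∀ F G : X → ZMod 2,
    DegLT (a + 1) F → DegLT (b + 1) G → DegLT (n + 1) (fun x => F x * G x)
  | 0, a, b, hab, F, G, hF, hG => by
      obtain rfl : a = 0 := by omega
      obtain rfl : b = 0 := by omega
      intro u x
      have h1 : F (x * u) - F x = 0 := hF u x
      have h2 : G (x * u) - G x = 0 := hG u x
      have h1' : F (x * u) = F x := sub_eq_zero.mp h1
      have h2' : G (x * u) = G x := sub_eq_zero.mp h2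
      show F (x * u) * G (x * u) - F x * G x = 0
      rw [h1', h2']; ring
  | (n + 1), a, b, hab, F, G, hF, hG => by
      intro u
      have e : (fun x => F (x * u) * G (x * u) - F x * G x) =
          fun x => (F (x * u) - F x) * G (x * u) + F x * (G (x * u) - G x) := by
        funext x; ring
      show DegLT (n + 1) (fun x => F (x * u) * G (x * u) - F x * G x)
      rw [e]
      apply DegLT.add
      · -- ΔF * τG
        rcases a with _ | a
        · apply DegLT.of_forall_eq_zero
          intro x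
          have : F (x * u) - F x = 0 := hF u x
          simp [this]
        · exact DegLT.mul_aux n a b (by omega) _ _ (hF u) (DegLT.translate _ _ u hG)
      · -- F * ΔG
        rcases b with _ | b
        · apply DegLT.of_forall_eq_zero
          intro x
          have : G (x * u) - G x = 0 := hG u x
          simp [this]
        · exact DegLT.mul_aux n a b (by omega) _ _ hF (hG u)

theorem DegLT.mul {a b : ℕ} {F G : X → ZMod 2} (hF : DegLT (a + 1) F) (hG : DegLT (b + 1) G) :
    DegLT (a + b + 1) (fun x => F x * G x) :=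
  DegLT.mul_aux (a + b) a b rfl F G hF hG

/-- The cube spanned by a list of elements. -/
def cube : List X → List X
  | [] => [1]
  | u :: l => cube l ++ (cube l).map (· * u)

theorem cube_sum : ∀ (l : List X) (F : X → ZMod 2), DegLT l.length F →
    ((cube l).map F).sum = 0
  | [], F, h => by simp [cube, h 1]
  | u :: l, F, h => by
      have ih := cube_sum l _ (h u)
      have e : ((cube l).map (fun t => F (t * u))).sum =
          ((cube l).map (fun x => F (x * u) - F x)).sum + ((cube l).map F).sum := by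
        rw [← List.sum_map_add]
        congr 1
        apply List.map_congr_left
        intro t _
        ring
      simp only [cube, List.map_append, List.sum_append, List.map_map, Function.comp_def]
      rw [e, ih, zero_add]
      exact CharTwo.add_self_eq_zero _

theorem cube_subset_closure : ∀ (l : List X) (t : X), t ∈ cube l →
    t ∈ Subgroup.closure {x | x ∈ l}
  | [], t, ht => by
      simp only [cube, List.mem_singleton] at ht
      subst ht; exact one_mem _
  | u :: l, t, ht => by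
      have hmono : Subgroup.closure {x | x ∈ l} ≤ Subgroup.closure {x | x ∈ u :: l} :=
        Subgroup.closure_mono (fun x hx => List.mem_cons_of_mem _ hx)
      simp only [cube, List.mem_append, List.mem_map] at ht
      rcases ht with ht | ⟨s, hs, rfl⟩
      · exact hmono (cube_subset_closure l t ht)
      · refine mul_mem (hmono (cube_subset_closure l s hs)) ?_
        exact Subgroup.subset_closure (List.mem_cons_self)

/-- Independence of a list modulo a subgroup. -/
def Indep (Z : Subgroup X) : List X → Prop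
  | [] => True
  | u :: l => u ∉ Z ⊔ Subgroup.closure {x | x ∈ l} ∧ Indep Z l

open Classical in
theorem indicator_cube_sum (Z : Subgroup X) : ∀ (l : List X), Indep Z l →
    ((cube l).map (fun t => if t ∈ Z then (1 : ZMod 2) else 0)).sum = 1
  | [], _ => by simp [cube]
  | u :: l, h => by
      have ih := indicator_cube_sum Z l h.2
      have hz : ((cube l).map (fun t => if t * u ∈ Z then (1 : ZMod 2) else 0)).sum = 0 := by
        apply List.sum_eq_zero
        intro y hy
        simp only [List.mem_map] at hy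
        obtain ⟨t, ht, rfl⟩ := hy
        rw [if_neg]
        intro htu
        apply h.1
        have h1 : t ∈ Z ⊔ Subgroup.closure {x | x ∈ l} :=
          (le_sup_right : _ ≤ Z ⊔ Subgroup.closure {x | x ∈ l}) (cube_subset_closure l t ht)
        have h2 : t * u ∈ Z ⊔ Subgroup.closure {x | x ∈ l} :=
          (le_sup_left : Z ≤ Z ⊔ Subgroup.closure {x | x ∈ l}) htu
        have : u = t⁻¹ * (t * u) := by group
        rw [this]
        exact mul_mem (inv_mem h1) h2
      simp only [cube, List.map_append, List.sum_append, List.map_map, Function.comp_def]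
      rw [ih, hz, add_zero]

theorem exists_indep [Finite X] (Z : Subgroup X) (k m : ℕ) (hZ : Nat.card Z = 2 ^ k)
    (hX : 2 ^ (k + m) ∣ Nat.card X) : ∃ l : List X, l.length = m ∧ Indep Z l := by
  have : Fact (Nat.Prime 2) := ⟨Nat.prime_two⟩
  have key : ∀ j : ℕ, j ≤ m → ∃ (H : Subgroup X) (l : List X), Z ≤ H ∧ Nat.card H = 2 ^ (k + j) ∧
      l.length = j ∧ (∀ x ∈ l, x ∈ H) ∧ Indep Z l := by
    intro j
    induction j with
    | zero =>
      intro _
      exact ⟨Z, [], le_rfl, by simpa using hZ, rfl, by simp, trivial⟩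
    | succ j ih =>
      intro hj
      obtain ⟨H, l, hZH, hH, hl, hlH, hind⟩ := ih (by omega)
      have hdvd : 2 ^ (k + j + 1) ∣ Nat.card X :=
        dvd_trans (pow_dvd_pow 2 (by omega)) hX
      obtain ⟨K, hK, hHK⟩ := Sylow.exists_subgroup_card_pow_succ hdvd hH
      have hne : ∃ u ∈ K, u ∉ H := by
        by_contra hcon
        push Not at hcon
        have hKH : K ≤ H := fun x hx => hcon x hx
        have : K = H := le_antisymm hKH hHK
        rw [this, hH] at hK
        have : (2 : ℕ) ^ (k + j) < 2 ^ (k + j + 1) := Nat.pow_lt_pow_right (by norm_num) (by omega)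
        omega
      obtain ⟨u, huK, huH⟩ := hne
      refine ⟨K, u :: l, hZH.trans hHK, by rw [hK]; ring_nf, by simp [hl], ?_, ?_, hind⟩
      · intro x hx
        rcases List.mem_cons.mp hx with rfl | hx
        · exact huK
        · exact hHK (hlH x hx)
      · intro hu
        apply huH
        have : Z ⊔ Subgroup.closure {x | x ∈ l} ≤ H :=
          sup_le hZH ((Subgroup.closure_le H).mpr (fun x hx => hlH x hx))
        exact this hu
  obtain ⟨H, l, _, _, hl, _, hind⟩ := key m le_rfl
  exact ⟨l, hl, hind⟩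

end DegLT

section Square

variable {X : Type*} [Group X]

/-- The `ZMod 2`-valued indicator of the complement of a subgroup. -/
noncomputable def chi (Z₁ : Subgroup X) (g : X) : ZMod 2 := by
  classical exact if g ∈ Z₁ then 0 else 1

theorem chi_of_mem {Z₁ : Subgroup X} {g : X} (h : g ∈ Z₁) : chi Z₁ g = 0 := by
  classical
  unfold chi; rw [if_pos h]

theorem chi_of_not_mem {Z₁ : Subgroup X} {g : X} (h : g ∉ Z₁) : chi Z₁ g = 1 := by
  classical
  unfold chi; rw [if_neg h]

theorem chi_eq_zero_iff {Z₁ : Subgroup X} {g : X} : chi Z₁ g = 0 ↔ g ∈ Z₁ := by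
  constructor
  · intro h
    by_contra hg
    rw [chi_of_not_mem hg] at h
    exact one_ne_zero h
  · exact chi_of_mem

/-- `chi Z₁` is additive on `Z` when `Z₁` has "index at most two" in `Z`. -/
theorem chi_mul {Z Z₁ : Subgroup X}
    (hidx : ∀ a ∈ Z, ∀ b ∈ Z, a ∉ Z₁ → b ∉ Z₁ → a * b ∈ Z₁) {a b : X} (ha : a ∈ Z) (hb : b ∈ Z) :
    chi Z₁ (a * b) = chi Z₁ a + chi Z₁ b := by
  by_cases h1 : a ∈ Z₁
  · by_cases h2 : b ∈ Z₁
    · rw [chi_of_mem h1, chi_of_mem h2, chi_of_mem (mul_mem h1 h2)]; rfl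
    · have : a * b ∉ Z₁ := fun h => h2 ((Subgroup.mul_mem_cancel_left Z₁ h1).mp h)
      rw [chi_of_mem h1, chi_of_not_mem h2, chi_of_not_mem this]; rfl
  · by_cases h2 : b ∈ Z₁
    · have : a * b ∉ Z₁ := fun h => h1 ((Subgroup.mul_mem_cancel_right Z₁ h2).mp h)
      rw [chi_of_not_mem h1, chi_of_mem h2, chi_of_not_mem this]; rfl
    · rw [chi_of_not_mem h1, chi_of_not_mem h2, chi_of_mem (hidx a ha b hb h1 h2)]; rfl

variable {Z : Subgroup X} (hZc : Z ≤ Subgroup.center X) (hsq : ∀ x : X, x ^ 2 ∈ Z)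

include hsq in
theorem kappa_mem (x u : X) : x⁻¹ * u * x * u⁻¹ ∈ Z := by
  have h1 : x⁻¹ * u * x * u⁻¹ = (x⁻¹) ^ 2 * (x * u) ^ 2 * (u ^ 2)⁻¹ := by
    simp only [pow_two]; group
  rw [h1]
  exact mul_mem (mul_mem (hsq _) (hsq _)) (inv_mem (hsq _))

omit hZc hsq in
theorem sq_mul (x u : X) : (x * u) ^ 2 = x ^ 2 * (x⁻¹ * u * x * u⁻¹) * u ^ 2 := by
  simp only [pow_two]; group

include hZc hsq in
theorem kappa_mul (x w u : X) :
    (x * w)⁻¹ * u * (x * w) * u⁻¹ = (x⁻¹ * u * x * u⁻¹) * (w⁻¹ * u * w * u⁻¹) := by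
  have hk : x⁻¹ * u * x * u⁻¹ ∈ Subgroup.center X := hZc (kappa_mem hsq x u)
  have hcomm := Subgroup.mem_center_iff.mp hk
  calc (x * w)⁻¹ * u * (x * w) * u⁻¹ = w⁻¹ * (x⁻¹ * u * x * u⁻¹) * (u * w * u⁻¹) := by group
    _ = (x⁻¹ * u * x * u⁻¹) * w⁻¹ * (u * w * u⁻¹) := by rw [hcomm w⁻¹]
    _ = (x⁻¹ * u * x * u⁻¹) * (w⁻¹ * u * w * u⁻¹) := by group

include hZc hsq in
theorem degLT_three_chi_sq {Z₁ : Subgroup X}
    (hidx : ∀ a ∈ Z, ∀ b ∈ Z, a ∉ Z₁ → b ∉ Z₁ → a * b ∈ Z₁) :
    DegLT 3 (fun x => chi Z₁ (x ^ 2)) := by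
  -- first difference
  have hd : ∀ y u : X, chi Z₁ ((y * u) ^ 2) - chi Z₁ (y ^ 2) =
      chi Z₁ (y⁻¹ * u * y * u⁻¹) + chi Z₁ (u ^ 2) := by
    intro y u
    rw [sq_mul y u, chi_mul hidx (mul_mem (hsq y) (kappa_mem hsq y u)) (hsq u),
      chi_mul hidx (hsq y) (kappa_mem hsq y u)]
    ring
  have hL : ∀ y w u : X, chi Z₁ ((y * w)⁻¹ * u * (y * w) * u⁻¹) =
      chi Z₁ (y⁻¹ * u * y * u⁻¹) + chi Z₁ (w⁻¹ * u * w * u⁻¹) := by
    intro y w u
    rw [kappa_mul hZc hsq y w u, chi_mul hidx (kappa_mem hsq y u) (kappa_mem hsq w u)]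
  intro u w t x
  show ((chi Z₁ ((x * t * w * u) ^ 2) - chi Z₁ ((x * t * w) ^ 2)) -
      (chi Z₁ ((x * t * u) ^ 2) - chi Z₁ ((x * t) ^ 2))) -
      ((chi Z₁ ((x * w * u) ^ 2) - chi Z₁ ((x * w) ^ 2)) -
      (chi Z₁ ((x * u) ^ 2) - chi Z₁ (x ^ 2))) = 0
  rw [hd (x * t * w) u, hd (x * t) u, hd (x * w) u, hd x u, hL (x * t) w u, hL x w u]
  ring

include hZc hsq in
/-- If `Z` is central of order `4` and exponent `2`, all squares lie in `Z`, and `2 ^ 7` divides
the order of `X`, then there is an involution outside `Z`. -/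
theorem exists_sq_eq_one_not_mem [Finite X] (hZe : ∀ z ∈ Z, z ^ 2 = 1) (hZ4 : Nat.card Z = 4)
    (hX : 2 ^ 7 ∣ Nat.card X) : ∃ x : X, x ∉ Z ∧ x ^ 2 = 1 := by
  classical
  -- two subgroups of order two in `Z`
  have hcomm : ∀ a ∈ Z, ∀ b : X, a * b = b * a := fun a ha b =>
    ((Subgroup.mem_center_iff.mp (hZc ha)) b).symm
  have h1 : ∃ a ∈ Z, a ≠ 1 := by
    by_contra hcon
    push Not at hcon
    have : Z = ⊥ := (Subgroup.eq_bot_iff_forall Z).mpr hcon
    rw [this] at hZ4
    simp at hZ4
  obtain ⟨a, haZ, ha1⟩ := h1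
  have hord : ∀ c ∈ Z, c ≠ 1 → Nat.card (Subgroup.zpowers c) = 2 := by
    intro c hc hc1
    rw [Nat.card_zpowers]
    exact orderOf_eq_prime (hZe c hc) hc1
  have hle : ∀ c ∈ Z, Subgroup.zpowers c ≤ Z := fun c hc =>
    (Subgroup.zpowers_le).mpr hc
  have hidx2 : ∀ c ∈ Z, c ≠ 1 → ∀ x ∈ Z, ∀ y ∈ Z, x ∉ Subgroup.zpowers c →
      y ∉ Subgroup.zpowers c → x * y ∈ Subgroup.zpowers c := by
    intro c hc hc1 x hx y hy hxc hyc
    have hrel : ((Subgroup.zpowers c).subgroupOf Z).index = 2 := by
      have h1 := Subgroup.relIndex_mul_relIndex (⊥ : Subgroup X) (Subgroup.zpowers c) Z bot_le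
        (hle c hc)
      rw [Subgroup.relIndex_bot_left, Subgroup.relIndex_bot_left, hord c hc hc1, hZ4] at h1
      show (Subgroup.zpowers c).relIndex Z = 2
      omega
    have := (Subgroup.mul_mem_iff_of_index_two hrel (a := (⟨x, hx⟩ : Z)) (b := ⟨y, hy⟩))
    have hx' : (⟨x, hx⟩ : Z) ∉ (Subgroup.zpowers c).subgroupOf Z := by
      rw [Subgroup.mem_subgroupOf]; exact hxc
    have hy' : (⟨y, hy⟩ : Z) ∉ (Subgroup.zpowers c).subgroupOf Z := by
      rw [Subgroup.mem_subgroupOf]; exact hyc
    have h3 := this.mpr (by simp [hx', hy'])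
    rw [Subgroup.mem_subgroupOf] at h3
    exact h3
  have h2 : ∃ b ∈ Z, b ∉ Subgroup.zpowers a := by
    by_contra hcon
    push Not at hcon
    have : Z ≤ Subgroup.zpowers a := fun x hx => hcon x hx
    have := Subgroup.card_le_of_le this
    rw [hZ4, hord a haZ ha1] at this
    omega
  obtain ⟨b, hbZ, hba⟩ := h2
  have hb1 : b ≠ 1 := fun h => hba (h ▸ one_mem _)
  have hmemz : ∀ c : X, c ^ 2 = 1 → ∀ x ∈ Subgroup.zpowers c, x = 1 ∨ x = c := by
    intro c hc x hx
    obtain ⟨n, rfl⟩ := Subgroup.mem_zpowers_iff.mp hx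
    rcases Int.even_or_odd' n with ⟨m, rfl | rfl⟩
    · left
      rw [zpow_mul, zpow_two, ← pow_two, hc, one_zpow]
    · right
      rw [zpow_add, zpow_mul, zpow_two, ← pow_two, hc, one_zpow, one_mul, zpow_one]
  have hinf : ∀ x, x ∈ Subgroup.zpowers a → x ∈ Subgroup.zpowers b → x = 1 := by
    intro x hxa hxb
    rcases hmemz a (hZe a haZ) x hxa with h | h
    · exact h
    · rcases hmemz b (hZe b hbZ) x hxb with h' | h'
      · exact h'
      · exfalso
        apply hba
        rw [← h', h]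
        exact Subgroup.mem_zpowers a
  set Q₁ : X → ZMod 2 := fun x => chi (Subgroup.zpowers a) (x ^ 2) with hQ₁
  set Q₂ : X → ZMod 2 := fun x => chi (Subgroup.zpowers b) (x ^ 2) with hQ₂
  have hdQ₁ : DegLT 3 Q₁ := degLT_three_chi_sq hZc hsq (hidx2 a haZ ha1)
  have hdQ₂ : DegLT 3 Q₂ := degLT_three_chi_sq hZc hsq (hidx2 b hbZ hb1)
  have hone : DegLT 3 (fun _ : X => (1 : ZMod 2)) := DegLT.mono (by norm_num) (DegLT.const 1)
  have hF : DegLT 5 (fun x => (1 + Q₁ x) * (1 + Q₂ x)) :=
    DegLT.mul (a := 2) (b := 2) (DegLT.add 3 _ _ hone hdQ₁) (DegLT.add 3 _ _ hone hdQ₂)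
  by_contra hcon
  push Not at hcon
  -- the function is the indicator of `Z`
  have hFZ : ∀ x : X, (1 + Q₁ x) * (1 + Q₂ x) = if x ∈ Z then (1 : ZMod 2) else 0 := by
    intro x
    by_cases hx : x ∈ Z
    · rw [if_pos hx]
      have hx2 : x ^ 2 = 1 := hZe x hx
      have e1 : Q₁ x = 0 := by
        show chi _ (x ^ 2) = 0
        rw [hx2]; exact chi_of_mem (one_mem _)
      have e2 : Q₂ x = 0 := by
        show chi _ (x ^ 2) = 0
        rw [hx2]; exact chi_of_mem (one_mem _)
      rw [e1, e2]; rfl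
    · rw [if_neg hx]
      have hx2 : x ^ 2 ≠ 1 := hcon x hx
      by_cases h1 : x ^ 2 ∈ Subgroup.zpowers a
      · have h2 : x ^ 2 ∉ Subgroup.zpowers b := fun h2 => hx2 (hinf _ h1 h2)
        have e2 : Q₂ x = 1 := chi_of_not_mem h2
        rw [e2]
        have : (1 : ZMod 2) + 1 = 0 := by decide
        rw [this, mul_zero]
      · have e1 : Q₁ x = 1 := chi_of_not_mem h1
        rw [e1]
        have : (1 : ZMod 2) + 1 = 0 := by decide
        rw [this, zero_mul]
  obtain ⟨l, hl, hind⟩ := exists_indep Z 2 5 (by rw [hZ4]; norm_num) (by simpa using hX)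
  have hs := cube_sum l _ (hl ▸ hF)
  have hs' := indicator_cube_sum Z l hind
  have : (List.map (fun x => (1 + Q₁ x) * (1 + Q₂ x)) (cube l)) =
      (List.map (fun t => if t ∈ Z then (1 : ZMod 2) else 0) (cube l)) :=
    List.map_congr_left (fun t _ => hFZ t)
  rw [this, hs'] at hs
  exact one_ne_zero hs

end Square

end Cfsg.Agent.Lib.Helper66
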