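import Mathlib

namespace Cfsg.Agent.Lib.Helper66

/-- If `D` normalizes `Φ ≤ P₀` and acts freely by conjugation on the elements of `P₀ \ Φ`,
then `|D|` divides `|P₀| - |Φ|`. -/
theorem card_dvd_sub_of_free_conj {X : Type*} [Group X] [Finite X] (D P₀ Φ : Subgroup X)
    (hDP : D ≤ Subgroup.normalizer (P₀ : Set X)) (hDΦ : D ≤ Subgroup.normalizer (Φ : Set X))
    (hΦP : Φ ≤ P₀)
    (hfree : ∀ g ∈ D, g ≠ 1 → ∀ x ∈ P₀, x ∉ Φ → g * x * g⁻¹ ≠ x) :
    Nat.card D ∣ Nat.card P₀ - Nat.card Φ := by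
  classical
  let Ω := {x : X // x ∈ P₀ ∧ x ∉ Φ}
  let act : MulAction D Ω :=
    { smul := fun g x => ⟨(g : X) * x.1 * (g : X)⁻¹,
        (Subgroup.mem_normalizer_iff.mp (hDP g.2) x.1).mp x.2.1,
        fun h => x.2.2 ((Subgroup.mem_normalizer_iff.mp (hDΦ g.2) x.1).mpr h)⟩
      one_smul := fun x => Subtype.ext (by show ((1 : D) : X) * x.1 * ((1 : D) : X)⁻¹ = x.1; simp)
      mul_smul := fun g h x => Subtype.ext (by
        show ((g * h : D) : X) * x.1 * ((g * h : D) : X)⁻¹ = (g : X) * ((h : X) * x.1 * (h : X)⁻¹) * (g : X)⁻¹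
        simp [mul_assoc]) }
  have hstab : ∀ b : Ω, MulAction.stabilizer D b = ⊥ := by
    intro b
    rw [Subgroup.eq_bot_iff_forall]
    intro g hg
    by_contra hg1
    have hg' : g • b = b := hg
    have h1 : (g : X) * b.1 * (g : X)⁻¹ = b.1 := congrArg Subtype.val hg'
    have hgne : (g : X) ≠ 1 := fun h => hg1 (Subtype.ext h)
    exact hfree g g.2 hgne b.1 b.2.1 b.2.2 h1
  have e := MulAction.selfEquivOrbitsQuotientProd hstab
  have hcard : Nat.card Ω = Nat.card (Quotient (MulAction.orbitRel D Ω)) * Nat.card D := by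
    rw [Nat.card_congr e, Nat.card_prod]
  have hΩ : Nat.card Ω = Nat.card P₀ - Nat.card Φ := by
    have h1 : Nat.card Ω = ((P₀ : Set X) \ (Φ : Set X)).ncard := by
      rw [← Nat.card_coe_set_eq]
      rfl
    rw [h1, Set.ncard_sdiff (by exact_mod_cast hΦP) (Set.toFinite _)]
    rfl
  rw [← hΩ, hcard]
  exact dvd_mul_left _ _

end Cfsg.Agent.Lib.Helper66
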