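import Mathlib
import Cfsg.Prelude.Def_HallClasses
import Cfsg.Agent.Lib.Helper06.HallSym.Defs

/-!
# K-S2536-X1 (keystone 253611): `n` prime, `π ∩ primes ≤ n` = primes `< n`:
a point stabilizer is a Hall `π`-subgroup of `Sym(n)`.
-/

set_option autoImplicit false
open Cfsg

namespace Cfsg.Agent.Lib.Helper66.HallSym
open Cfsg.Agent.Lib.Helper06.HallSym

theorem hall_of_typeA (π : Set ℕ) (n : ℕ) (h : TypeA π n) : IsEPiGroup π (Equiv.Perm (Fin n)) := by
  obtain ⟨hn, hπ⟩ := h
  have : NeZero n := ⟨hn.ne_zero⟩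
  have hn1 : 1 ≤ n := hn.one_lt.le
  set H : Subgroup (Equiv.Perm (Fin n)) := MulAction.stabilizer (Equiv.Perm (Fin n)) (0 : Fin n) with hH
  have hidx : H.index = n := by
    rw [hH, MulAction.index_stabilizer_of_transitive (Equiv.Perm (Fin n)) (0 : Fin n)]
    simp
  have hcardG : Nat.card (Equiv.Perm (Fin n)) = n.factorial := by
    rw [Nat.card_eq_fintype_card, Fintype.card_perm, Fintype.card_fin]
  have hmul : Nat.card H * H.index = Nat.card (Equiv.Perm (Fin n)) := H.card_mul_index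
  have hcardH : Nat.card H = (n - 1).factorial := by
    rw [hidx, hcardG] at hmul
    have h2 : n.factorial = (n - 1).factorial * n := by
      obtain ⟨k, rfl⟩ : ∃ k, n = k + 1 := ⟨n - 1, by omega⟩
      simp [Nat.factorial_succ, mul_comm]
    rw [h2] at hmul
    exact Nat.eq_of_mul_eq_mul_right hn.pos hmul
  refine ⟨H, ?_, ?_⟩
  · intro p hp hdvd
    rw [hcardH, hp.dvd_factorial] at hdvd
    exact (hπ p hp (by omega)).mpr (by omega)
  · intro p hp hpπ hdvd
    rw [hidx] at hdvd
    have hpn : p = n := (Nat.prime_dvd_prime_iff_eq hp hn).mp hdvd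
    subst hpn
    have := (hπ p hp le_rfl).mp hpπ
    omega

end Cfsg.Agent.Lib.Helper66.HallSym
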