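import Mathlib
import Cfsg.Prelude.Def_Blocks
import Cfsg.Agent.Lib.Helper70.IPDefs

/-!
# K-IP-NOAB (keystone 446305, architect helper70): `no_abelian_normal`
-/

set_option autoImplicit false

namespace Cfsg.Agent.Lib.Helper66.IP

open Cfsg Cfsg.Agent.Lib.Helper70.IP

universe u

/-- a group with abelian commutator subgroup is solvable -/
theorem ipnoab_solvable {Q : Type u} [Group Q]
    (h : ∀ x ∈ commutator Q, ∀ y ∈ commutator Q, x * y = y * x) : Group.IsSolvable Q := by
  rw [Group.isSolvable_def]
  refine ⟨2, ?_⟩
  have h1 : derivedSeries Q 1 = commutator Q := by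
    rw [derivedSeries_succ, derivedSeries_zero, commutator_def]
  rw [derivedSeries_succ, h1, Subgroup.commutator_eq_bot_iff_le_centralizer]
  intro x hx
  rw [Subgroup.mem_centralizer_iff]
  intro y hy
  exact h y hy x hx

theorem no_abelian_normal {Q : Type u} [Group Q] [Finite Q] (hQ : MonoQ Q)
    (hns : ¬ Group.IsSolvable Q) :
    (∀ N : Subgroup Q, N.Normal → (∀ x ∈ N, ∀ y ∈ N, x * y = y * x) → N = ⊥) ∧
    (∀ x : Q, x ≠ 1 → ¬ commutator Q ≤ Subgroup.centralizer ({x} : Set Q)) := by
  refine ⟨?_, ?_⟩
  · intro N hN hab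
    by_contra hne
    have hle := hQ N hN hne
    exact hns (ipnoab_solvable (fun x hx y hy => hab x (hle hx) y (hle hy)))
  · intro x hx hle
    have hCn : (Subgroup.centralizer ((commutator Q : Subgroup Q) : Set Q)).Normal :=
      Subgroup.normal_centralizer
    have hxC : x ∈ Subgroup.centralizer ((commutator Q : Subgroup Q) : Set Q) := by
      rw [Subgroup.mem_centralizer_iff]
      intro g hg
      have := hle hg
      rw [Subgroup.mem_centralizer_iff] at this
      exact (this x rfl).symm
    have hCne : Subgroup.centralizer ((commutator Q : Subgroup Q) : Set Q) ≠ ⊥ := by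
      intro hbot
      rw [hbot, Subgroup.mem_bot] at hxC
      exact hx hxC
    have hle2 := hQ _ hCn hCne
    apply hns
    apply ipnoab_solvable
    intro a ha b hb
    have := hle2 ha
    rw [Subgroup.mem_centralizer_iff] at this
    exact (this b hb).symm

end Cfsg.Agent.Lib.Helper66.IP
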