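import Cfsg.Agent.Lib.Helper98.Sy8
import Cfsg.Agent.Lib.Helper98.Ti9

/-! Keystone 595607 K-Nd-G (S5956 pack, helper98 architect): characteristic 2, a model involution
on `W0 × W0` (dimension `4 d'`) all of whose invariant nondegenerate subspaces have dimension
divisible by `4`. -/

set_option autoImplicit false
set_option linter.unusedSimpArgs false
set_option linter.unusedSectionVars false
set_option linter.unusedVariables false
set_option linter.style.haveILetI false

namespace Cfsg.Agent.Lib.Helper66.Nd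

open Module Cfsg.Agent.Lib.Helper98.Elus Cfsg.Agent.Lib.Helper98.Sy

universe u
variable {F : Type u} [Field F] {V : Type u} [AddCommGroup V] [Module F V]

theorem finrank_le_two_mul [FiniteDimensional F V] (N : V →ₗ[F] V) (hNN : ∀ v, N (N v) = 0)
    (X : Submodule F V) (hX : ∀ v ∈ X, N v ∈ X) :
    finrank F X ≤ 2 * finrank F ↥(X ⊓ LinearMap.ker N) := by
  have h1 := LinearMap.finrank_range_add_finrank_ker (N.domRestrict X)
  have h2 : LinearMap.range (N.domRestrict X) ≤ X ⊓ LinearMap.ker N := by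
    rintro _ ⟨x, rfl⟩
    refine Submodule.mem_inf.mpr ⟨hX _ x.2, ?_⟩
    rw [LinearMap.mem_ker]
    exact hNN _
  have h3 := Submodule.finrank_mono h2
  have h4 : (LinearMap.ker (N.domRestrict X)).map X.subtype ≤ X ⊓ LinearMap.ker N := by
    rintro _ ⟨x, hx, rfl⟩
    refine Submodule.mem_inf.mpr ⟨x.2, ?_⟩
    have hx' := LinearMap.mem_ker.mp hx
    rw [LinearMap.mem_ker]
    exact hx'
  have h5 := Submodule.finrank_mono h4
  rw [Submodule.finrank_map_subtype_eq] at h5
  omega

theorem four_dvd_of_model [FiniteDimensional F V] {B : LinearMap.BilinForm F V} (hA : B.IsAlt)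
    (hV : NonDeg B ⊤) (N : V →ₗ[F] V) (hNN : ∀ v, N (N v) = 0)
    (hker : ∀ v, N v = 0 → ∃ w, N w = v)
    (hself : ∀ v w, B v (N w) = B (N v) w) (hNalt : ∀ v, B v (N v) = 0)
    (u : V →ₗ[F] V) (hu : ∀ v, u v = v + N v) (hu2 : u ^ 2 = 1) (hiso : Iso B u)
    (W : Submodule F V) (hWi : Inv u W) (hW : NonDeg B W) : 4 ∣ finrank F W := by
  have hrk : LinearMap.range N = LinearMap.ker N := by
    apply le_antisymm
    · rintro _ ⟨w, rfl⟩
      exact LinearMap.mem_ker.mpr (hNN w)
    · intro v hv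
      obtain ⟨w, hw⟩ := hker v (LinearMap.mem_ker.mp hv)
      exact ⟨w, hw⟩
  have hdimK : 2 * finrank F ↥(LinearMap.ker N) = finrank F V := by
    have := LinearMap.finrank_range_add_finrank_ker N
    rw [hrk] at this
    omega
  have hNinv : ∀ X : Submodule F V, Inv u X → ∀ v ∈ X, N v ∈ X := by
    intro X hX v hv
    have h1 := hX v hv
    rw [hu] at h1
    have : N v = (v + N v) - v := by abel
    rw [this]
    exact X.sub_mem h1 hv
  obtain ⟨c1, c2, c3, c4⟩ := compl_props hA W ⊤ hW le_top hV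
  rw [inf_top_eq] at c1 c2 c3 c4
  have hW'i : Inv u (B.orthogonal W) := inv_orth 2 (by norm_num) u hu2 hiso W hWi
  have a1 := finrank_le_two_mul N hNN W (hNinv W hWi)
  have a2 := finrank_le_two_mul N hNN (B.orthogonal W) (hNinv _ hW'i)
  have a3 : finrank F ↥(W ⊓ LinearMap.ker N) + finrank F ↥(B.orthogonal W ⊓ LinearMap.ker N) ≤ finrank F ↥(LinearMap.ker N) := by
    have h := Submodule.finrank_sup_add_finrank_inf_eq (W ⊓ LinearMap.ker N) (B.orthogonal W ⊓ LinearMap.ker N)
    have hbot : (W ⊓ LinearMap.ker N) ⊓ (B.orthogonal W ⊓ LinearMap.ker N) = ⊥ := by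
      rw [eq_bot_iff, ← c2]
      exact inf_le_inf inf_le_left inf_le_left
    rw [hbot, finrank_bot, add_zero] at h
    rw [← h]
    exact Submodule.finrank_mono (sup_le inf_le_right inf_le_right)
  rw [finrank_top] at c4
  have a4 : finrank F W = 2 * finrank F ↥(W ⊓ LinearMap.ker N) := by omega
  -- a complement of `W ⊓ LinearMap.ker N` in `W`
  obtain ⟨q, hq⟩ := Submodule.exists_isCompl (W ⊓ LinearMap.ker N)
  set C := q ⊓ W with hC
  have hC1 : (W ⊓ LinearMap.ker N) ⊔ C = W := by
    rw [hC, ← sup_inf_assoc_of_le _ (inf_le_left : W ⊓ LinearMap.ker N ≤ W), hq.sup_eq_top, top_inf_eq]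
  have hC2 : (W ⊓ LinearMap.ker N) ⊓ C = ⊥ := by
    rw [eq_bot_iff, ← hq.inf_eq_bot]
    exact inf_le_inf le_rfl inf_le_left
  have hC3 : finrank F ↥(W ⊓ LinearMap.ker N) + finrank F C = finrank F W := by
    have h := Submodule.finrank_sup_add_finrank_inf_eq (W ⊓ LinearMap.ker N) C
    rw [hC1, hC2, finrank_bot] at h
    omega
  -- the alternating form `g v w = B v (N w)`
  set g : LinearMap.BilinForm F V := B.compl₂ N with hg
  have hgA : g.IsAlt := by
    intro v
    rw [hg, LinearMap.compl₂_apply]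
    exact hNalt v
  have hgC : NonDeg g C := by
    intro c hc hc'
    have hcW : c ∈ W := (Submodule.mem_inf.mp hc).2
    have hNc : N c = 0 := by
      apply hW (N c) (hNinv W hWi c hcW)
      intro w hw
      rw [← hC1] at hw
      obtain ⟨k, hk, c', hc'C, rfl⟩ := Submodule.mem_sup.mp hw
      rw [← hself, map_add, map_add]
      have hk0 : N k = 0 := LinearMap.mem_ker.mp (Submodule.mem_inf.mp hk).2
      rw [hk0, map_zero, zero_add]
      have := hc' c' hc'C
      rw [hg, LinearMap.compl₂_apply] at this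
      exact this
    have : c ∈ (W ⊓ LinearMap.ker N) ⊓ C :=
      Submodule.mem_inf.mpr ⟨Submodule.mem_inf.mpr ⟨hcW, LinearMap.mem_ker.mpr hNc⟩, hc⟩
    rw [hC2] at this
    exact (Submodule.mem_bot F).mp this
  have hev := even_finrank hgA _ C hgC rfl
  obtain ⟨t, ht⟩ := hev
  exact ⟨t, by omega⟩

section model

variable (F) (d' : ℕ)

/-- the form on `W0 × W0` -/
noncomputable def BM :
    LinearMap.BilinForm F ((Fin d' ⊕ Fin d' → F) × (Fin d' ⊕ Fin d' → F)) :=
  (stdForm (F := F) d').compl₁₂ (LinearMap.fst F _ _) (LinearMap.snd F _ _) -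
    ((stdForm (F := F) d').compl₁₂ (LinearMap.fst F _ _) (LinearMap.snd F _ _)).flip

theorem BM_apply (p q : (Fin d' ⊕ Fin d' → F) × (Fin d' ⊕ Fin d' → F)) :
    BM F d' p q = stdForm d' p.1 q.2 - stdForm d' q.1 p.2 := by
  simp [BM, LinearMap.compl₁₂_apply, LinearMap.flip_apply]

/-- the nilpotent map `(a, b) ↦ (b, 0)` -/
noncomputable def NM : ((Fin d' ⊕ Fin d' → F) × (Fin d' ⊕ Fin d' → F)) →ₗ[F]
    ((Fin d' ⊕ Fin d' → F) × (Fin d' ⊕ Fin d' → F)) :=
  (LinearMap.inl F _ _).comp (LinearMap.snd F _ _)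

theorem NM_apply (p : (Fin d' ⊕ Fin d' → F) × (Fin d' ⊕ Fin d' → F)) :
    NM F d' p = (p.2, 0) := by
  simp [NM]

end model

/-- LEAF G (id 595607). -/
theorem exists_bad_invol_model (h2 : (2 : F) = 0) (d' : ℕ) (hd' : 1 ≤ d') :
    ∃ (V : Type u) (_ : AddCommGroup V) (_ : Module F V) (_ : FiniteDimensional F V)
      (B : LinearMap.BilinForm F V) (u : V →ₗ[F] V),
      B.IsAlt ∧ NonDeg B ⊤ ∧ finrank F V = 4 * d' ∧ Iso B u ∧ u ^ 2 = 1 ∧ (∀ z : F, u ≠ z • 1) ∧
      ∀ W : Submodule F V, Inv u W → NonDeg B W → 4 ∣ finrank F W := by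
  classical
  have hsA := stdForm_alt (F := F) d'
  have hsN := stdForm_nonDeg (F := F) d'
  have hBA : (BM F d').IsAlt := by
    intro p
    rw [BM_apply, sub_self]
  have hBN : NonDeg (BM F d') ⊤ := by
    intro p _ hp
    have h1 : p.1 = 0 := by
      apply hsN p.1 Submodule.mem_top
      intro b' _
      have := hp (0, b') Submodule.mem_top
      rw [BM_apply] at this
      simpa using this
    have h2' : p.2 = 0 := by
      apply hsN p.2 Submodule.mem_top
      intro a' _
      have := hp (a', 0) Submodule.mem_top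
      rw [BM_apply] at this
      simp only [map_zero, zero_sub, neg_eq_zero] at this
      exact alt_eq_zero hsA this
    exact Prod.ext h1 h2'
  have hNN : ∀ v, NM F d' (NM F d' v) = 0 := by
    intro v
    rw [NM_apply, NM_apply]
    rfl
  have hdouble : ∀ x : F, x + x = 0 := by
    intro x
    have : x + x = 2 * x := by ring
    rw [this, h2, zero_mul]
  have hNdouble : ∀ v : (Fin d' ⊕ Fin d' → F) × (Fin d' ⊕ Fin d' → F), v + v = 0 := by
    intro v
    have : v + v = (2 : F) • v := by rw [two_smul]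
    rw [this, h2, zero_smul]
  set uM : ((Fin d' ⊕ Fin d' → F) × (Fin d' ⊕ Fin d' → F)) →ₗ[F]
      ((Fin d' ⊕ Fin d' → F) × (Fin d' ⊕ Fin d' → F)) := 1 + NM F d' with huM
  have hu : ∀ v, uM v = v + NM F d' v := by
    intro v
    rw [huM, LinearMap.add_apply, Module.End.one_apply]
  have hu2 : uM ^ 2 = 1 := by
    apply LinearMap.ext
    intro v
    rw [pow_two, Module.End.mul_apply, hu, hu, map_add, hNN, add_zero, Module.End.one_apply,
      add_assoc, hNdouble, add_zero]
  have hself : ∀ v w, BM F d' v (NM F d' w) = BM F d' (NM F d' v) w := by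
    intro v w
    rw [NM_apply, NM_apply, BM_apply, BM_apply]
    simp only [map_zero, LinearMap.zero_apply, zero_sub, sub_zero]
    rw [alt_swap hsA w.2 v.2, neg_neg]
  have hNalt : ∀ v, BM F d' v (NM F d' v) = 0 := by
    intro v
    rw [NM_apply, BM_apply]
    simp only [map_zero, zero_sub, neg_eq_zero]
    exact hsA v.2
  have hiso : Iso (BM F d') uM := by
    intro v w
    rw [hu, hu, map_add, map_add, LinearMap.add_apply, LinearMap.add_apply]
    have e1 : BM F d' (NM F d' v) (NM F d' w) = 0 := by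
      rw [hself, hNN, map_zero, LinearMap.zero_apply]
    rw [e1, add_zero, hself v w, add_assoc, hdouble, add_zero]
  refine ⟨(Fin d' ⊕ Fin d' → F) × (Fin d' ⊕ Fin d' → F), inferInstance, inferInstance,
    inferInstance, BM F d', uM, hBA, hBN, ?_, hiso, hu2, ?_, ?_⟩
  · rw [Module.finrank_prod, Module.finrank_fintype_fun_eq_card, Fintype.card_sum, Fintype.card_fin]
    ring
  · intro z hz
    have h1 := congrArg (fun f => f ((0 : Fin d' ⊕ Fin d' → F), Pi.single (Sum.inl ⟨0, hd'⟩) (1 : F))) hz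
    simp only [hu, NM_apply, LinearMap.smul_apply, Module.End.one_apply] at h1
    have h3 := congrArg Prod.fst h1
    simp only [Prod.fst_add, zero_add, Prod.smul_fst, smul_zero] at h3
    have h4 := congrFun h3 (Sum.inl ⟨0, hd'⟩)
    simp at h4
  · intro W hWi hW
    refine four_dvd_of_model hBA hBN (NM F d') hNN ?_ hself hNalt uM hu hu2 hiso W hWi hW
    intro v hv
    rw [NM_apply] at hv
    refine ⟨(0, v.1), ?_⟩
    rw [NM_apply]
    have hv2 : v.2 = 0 := congrArg Prod.fst hv
    exact Prod.ext rfl hv2.symm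

end Cfsg.Agent.Lib.Helper66.Nd
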