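import Mathlib

namespace Cfsg.Agent.Lib.Helper66

theorem map_conj_eq_of_mem_normalizer {G : Type*} [Group G] {Q : Subgroup G} {g : G}
    (hg : g ∈ Subgroup.normalizer (Q : Set G)) :
    Subgroup.map (MulAut.conj g).toMonoidHom Q = Q := by
  ext z
  constructor
  · rintro ⟨w, hw, rfl⟩
    exact (Subgroup.mem_normalizer_iff.mp hg w).mp hw
  · intro hz
    refine ⟨g⁻¹ * z * g, ?_, by simp [MulAut.conj_apply, mul_assoc]⟩
    exact (Subgroup.mem_normalizer_iff.mp hg (g⁻¹ * z * g)).mpr (by simpa [mul_assoc] using hz)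

theorem mem_normalizer_of_map_conj_eq {G : Type*} [Group G] {Q : Subgroup G} {g : G}
    (hmap' : Subgroup.map (MulAut.conj g).toMonoidHom Q = Q) :
    g ∈ Subgroup.normalizer (Q : Set G) := by
  rw [Subgroup.mem_normalizer_iff]
  intro n
  constructor
  · intro hn
    rw [← hmap']
    exact ⟨n, hn, rfl⟩
  · intro hn
    rw [← hmap'] at hn
    obtain ⟨w, hw, hwn⟩ := hn
    have : w = n := by
      have h1 : g * w * g⁻¹ = g * n * g⁻¹ := hwn
      exact mul_left_cancel (mul_right_cancel h1)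
    exact this ▸ hw

theorem mem_normalizer_sup {G : Type*} [Group G] {H K : Subgroup G} {g : G}
    (h₁ : g ∈ Subgroup.normalizer (H : Set G)) (h₂ : g ∈ Subgroup.normalizer (K : Set G)) :
    g ∈ Subgroup.normalizer ((H ⊔ K : Subgroup G) : Set G) := by
  apply mem_normalizer_of_map_conj_eq
  rw [Subgroup.map_sup, map_conj_eq_of_mem_normalizer h₁, map_conj_eq_of_mem_normalizer h₂]

theorem mem_normalizer_inf {G : Type*} [Group G] {H K : Subgroup G} {g : G}
    (h₁ : g ∈ Subgroup.normalizer (H : Set G)) (h₂ : g ∈ Subgroup.normalizer (K : Set G)) :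
    g ∈ Subgroup.normalizer ((H ⊓ K : Subgroup G) : Set G) := by
  rw [Subgroup.mem_normalizer_iff] at h₁ h₂ ⊢
  intro n
  rw [Subgroup.mem_inf, Subgroup.mem_inf, h₁ n, h₂ n]

theorem mem_normalizer_centralizer_singleton {G : Type*} [Group G] {g e : G}
    (h : g * e = e * g) : g ∈ Subgroup.normalizer ((Subgroup.centralizer {e} : Subgroup G) : Set G) := by
  rw [Subgroup.mem_normalizer_iff]
  intro n
  simp only [Subgroup.mem_centralizer_iff, Set.mem_singleton_iff, forall_eq]
  have hinv : g⁻¹ * e = e * g⁻¹ := by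
    have : e = g⁻¹ * e * g := by rw [mul_assoc, ← h, ← mul_assoc, inv_mul_cancel, one_mul]
    calc g⁻¹ * e = g⁻¹ * e * g * g⁻¹ := by group
      _ = e * g⁻¹ := by rw [← this]
  constructor
  · intro hn
    calc e * (g * n * g⁻¹) = (e * g) * n * g⁻¹ := by group
      _ = g * (e * n) * g⁻¹ := by rw [← h]; group
      _ = g * (n * e) * g⁻¹ := by rw [hn]
      _ = g * n * (e * g⁻¹) := by group
      _ = g * n * (g⁻¹ * e) := by rw [hinv]
      _ = g * n * g⁻¹ * e := by group
  · intro hn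
    have h1 : g⁻¹ * (e * (g * n * g⁻¹)) * g = g⁻¹ * (g * n * g⁻¹ * e) * g := by rw [hn]
    calc e * n = g⁻¹ * ((g * e) * n * g⁻¹) * g := by group
      _ = g⁻¹ * (e * (g * n * g⁻¹)) * g := by rw [h]; group
      _ = g⁻¹ * (g * n * g⁻¹ * e) * g := h1
      _ = n * (g⁻¹ * e * g) := by group
      _ = n * e := by rw [hinv]; group

end Cfsg.Agent.Lib.Helper66
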