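/-
K-OEl-D3t (keystone 598808, pack S5988/S5990, architect helper49): model `(V, Q, y)` with prescribed
type; route 1: glue of the K-OTs leaves O7 (blocks), O9 (fixed part), O10 (product), O4 (type rule).
-/
import Cfsg.Agent.Lib.Helper38.OhP.Defs
import Cfsg.Agent.Lib.Helper82.OTsO7
import Cfsg.Agent.Lib.Helper99.OTsO9
import Cfsg.Agent.Lib.Helper81.OTsO10
import Cfsg.Agent.Lib.Helper99.OTsO4

set_option autoImplicit false
set_option linter.unusedVariables false

namespace Cfsg.Agent.Lib.Helper66.OEl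

open Module Cfsg.Agent.Lib.Helper98.Elus Cfsg.Agent.Lib.Helper98.Sy Cfsg.Agent.Lib.Helper38.OhP

universe u
variable {F : Type u} [Field F]

/-- `(Odd i ∨ Even (T * cOf i / i)) ↔ tPlus i T` for `i > 0` -/
theorem tPlus_of_div (i T : ℕ) (hi : 0 < i) :
    (Odd i ∨ Even (T * cOf i / i)) ↔ tPlus i T := by
  unfold tPlus
  by_cases h : Odd i
  · exact ⟨fun _ => Or.inl h, fun _ => Or.inl h⟩
  · have he : Even i := Nat.not_odd_iff_even.mp h
    have hc : cOf i = i := by unfold cOf; rw [if_pos he]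
    rw [hc, Nat.mul_div_cancel _ hi]

/-- **K-OEl-D3t (598808)** -/
theorem exists_model_t [Fintype F] (p f : ℕ) [Fact p.Prime] (hF : Fintype.card F = p ^ f)
    (r : ℕ) [Fact r.Prime] (hpr : p ≠ r) (hr2 : r ≠ 2) (hrF : (r : F) ≠ 0)
    (i c : ℕ) (hi : i = orderOf ((Fintype.card F : ℕ) : ZMod r)) (hc : c = cOf i)
    (ε : Prop) (T k : ℕ) (hT : 1 ≤ T) (hk : Even k) (hal : 0 < k ∨ (ε ↔ tPlus i T)) :
    ∃ (V : Type u) (_ : AddCommGroup V) (_ : Module F V) (_ : FiniteDimensional F V)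
      (Q : QuadraticForm F V) (y : V →ₗ[F] V),
      NonDeg (pB Q) ⊤ ∧ (PlusQ Q ⊤ ↔ ε) ∧ QIso Q y ∧ y ^ r = 1 ∧ (∀ z : F, y ≠ z • 1) ∧
      finrank F V = T * c + k ∧ finrank F (V1 r y) = T * c ∧ finrank F (V0 y) = k := by
  classical
  have hr : r.Prime := Fact.out
  have hp : p.Prime := Fact.out
  have hodd : Odd r := hr.eq_two_or_odd'.resolve_left hr2
  -- `i > 0`
  have hrq : ¬ r ∣ Fintype.card F := by
    intro h
    rw [hF] at h
    exact hpr ((Nat.prime_dvd_prime_iff_eq hr hp).mp (hr.dvd_of_dvd_pow h)).symm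
  have hi0 : 0 < i := by
    rw [hi]
    apply orderOf_pos_iff.mpr
    rw [isOfFinOrder_iff_pow_eq_one]
    refine ⟨r - 1, by have := hr.two_le; omega, ?_⟩
    apply ZMod.pow_card_sub_one_eq_one
    intro h0
    exact hrq ((ZMod.natCast_eq_zero_iff _ r).mp h0)
  have hc1 : 1 ≤ c := by rw [hc]; exact cOf_pos i hi0
  -- the blocks
  obtain ⟨V1', _, _, _, Q1, y1, hnd1, hiso1, hy1, hg1, hd1⟩ :=
    Cfsg.Agent.Lib.Helper82.OTs.exists_model_blocks (F := F) p f hF r hpr hr2 hrF T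
  rw [← hi, ← hc] at hd1
  -- the fixed part
  obtain ⟨e, he⟩ := hk
  have hτ : ¬ (ε ↔ tPlus i T) → 1 ≤ e := by
    intro h
    rcases hal with h1 | h1
    · omega
    · exact absurd h1 h
  obtain ⟨V0', _, _, _, Q0, hnd0, hd0, htype0⟩ :=
    Cfsg.Agent.Lib.Helper99.OTs.exists_fixed_part (F := F) e (ε ↔ tPlus i T) hτ
  -- the product
  obtain ⟨V, iA, iM, iFD, Q, y, hnd, hiso, hy, hdim, hdV1, hdV0, htypeV0, hns, -⟩ :=
    Cfsg.Agent.Lib.Helper81.OTs.exists_prod_model Q1 hnd1 r hodd hrF y1 hy1 hiso1 hg1 Q0 hnd0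
  refine ⟨V, iA, iM, iFD, Q, y, hnd, ?_, hiso, hy, ?_, ?_, ?_, ?_⟩
  · -- the type
    have hdimV : finrank F V = 2 * (c * T / 2 + e) := by
      rw [hdim, hd1, hd0]
      have hce : Even c := by rw [hc]; exact cOf_even i
      obtain ⟨c', hc'⟩ := hce
      rw [hc']
      have : (c' + c') * T = 2 * (c' * T) := by ring
      rw [this, Nat.mul_div_cancel_left _ (by norm_num : 0 < 2)]
      ring
    have h4 := Cfsg.Agent.Lib.Helper99.OTs.plusOn_V0_iff Q hnd _ hdimV p f hF r hpr hr2 hrF y hy hiso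
    rw [← hi, hdV1, hd1, hc, mul_comm (cOf i) T, tPlus_of_div i T hi0] at h4
    -- `PlusOn Q (V0 y) ↔ (ε ↔ tPlus i T)`
    have h5 : (Cfsg.Agent.Lib.Helper99.OTs.PlusOn Q ⊤ ↔ tPlus i T) ↔ (ε ↔ tPlus i T) :=
      h4.symm.trans (htypeV0.trans htype0)
    have h6 : Cfsg.Agent.Lib.Helper99.OTs.PlusOn Q ⊤ ↔ ε := by
      by_cases ht : tPlus i T
      · constructor
        · intro ha
          exact (h5.mp ⟨fun _ => ht, fun _ => ha⟩).mpr ht
        · intro hε
          exact (h5.mpr ⟨fun _ => ht, fun _ => hε⟩).mpr ht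
      · constructor
        · intro ha
          by_contra hε
          have := h5.mpr ⟨fun h => absurd h hε, fun h => absurd h ht⟩
          exact ht (this.mp ha)
        · intro hε
          by_contra ha
          have := h5.mp ⟨fun h => absurd h ha, fun h => absurd h ht⟩
          exact ht (this.mp hε)
    exact h6
  · -- not scalar
    apply hns
    by_contra hcon
    push Not at hcon
    -- then `gsum r y1 v = r • v`, so `V1' = 0`
    have hpos : 0 < finrank F V1' := by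
      rw [hd1]
      exact Nat.mul_pos (by omega) (by omega)
    obtain ⟨v, hv0⟩ := finrank_pos_iff_exists_ne_zero.mp hpos
    have h1 := hg1 v
    rw [gsum_apply_of_mem_V0 r y1 v ((mem_V0 y1 v).mpr (hcon v))] at h1
    rcases smul_eq_zero.mp h1 with h | h
    · exact hrF h
    · exact hv0 h
  · rw [hdim, hd1, hd0, he]; ring
  · rw [hdV1, hd1]; ring
  · rw [hdV0, hd0, he]; ring

end Cfsg.Agent.Lib.Helper66.OEl
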