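/-
K-OTs-TC1 (keystone 597334, pack S5973 TWO sub-pack, sub-architect helper50): the bad involution
`r_u r_v` of `Ω⁺_{2d}(q)`, `q ≡ 3 mod 4`: no invariant totally singular `(d-1)`-space.
(Adapted from helper50's template for `quadFormOdd`.)
-/
import Cfsg.Agent.Lib.Helper50.SpinorCrit
import Cfsg.Agent.Lib.Helper50.StdForms
import Cfsg.Agent.Lib.Helper50.GeoBridge
import Cfsg.Agent.Lib.Helper50.PlusForm
import Cfsg.Agent.Lib.Helper63.OhA
import Cfsg.Agent.Lib.Helper13.OPb15

set_option autoImplicit false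
set_option linter.unusedSectionVars false
set_option linter.unusedVariables false
set_option maxHeartbeats 800000

namespace Cfsg.Agent.Lib.Helper66.OTs

open Module Cfsg.Agent.Lib.Helper19 Cfsg.Agent.Lib.Helper50
open Cfsg.Agent.Lib.Helper98.Elus Cfsg.Agent.Lib.Helper98.Sy Cfsg.Agent.Lib.Helper98.Oh

universe u
variable {F : Type u} [Field F]

section generic

variable {ι : Type} [Fintype ι] [DecidableEq ι]

/-- `r_u r_v` on a vector, for orthogonal `u, v` with `Q u = Q v = 1` -/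
theorem refl_pair_apply' (Q : QuadraticForm F (ι → F)) (u v : ι → F) (hu : Q u = 1) (hv : Q v = 1)
    (huv : QuadraticMap.polar (⇑Q) u v = 0) (w : ι → F) :
    reflLin Q u (reflLin Q v w) =
      w - QuadraticMap.polar (⇑Q) u w • u - QuadraticMap.polar (⇑Q) v w • v := by
  rw [reflLin_apply Q v, reflLin_apply Q u, hu, hv, inv_one, one_mul, one_mul,
    QuadraticMap.polar_sub_right, QuadraticMap.polar_smul_right, huv, smul_eq_mul, mul_zero,
    sub_zero]
  abel

/-- the quadratic form on the plane spanned by `u, v` -/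
theorem map_pair' (Q : QuadraticForm F (ι → F)) (u v : ι → F) (hu : Q u = 1) (hv : Q v = 1)
    (huv : QuadraticMap.polar (⇑Q) u v = 0) (a b : F) :
    Q (a • u + b • v) = a * a + b * b := by
  have h1 : Q (a • u + b • v) = Q (a • u) + Q (b • v) + QuadraticMap.polar (⇑Q) (a • u) (b • v) := by
    simp only [QuadraticMap.polar]; ring
  rw [h1, QuadraticMap.map_smul, QuadraticMap.map_smul, QuadraticMap.polar_smul_left,
    QuadraticMap.polar_smul_right, huv, hu, hv]
  simp

theorem sq_add_sq_eq_zero' (hm1 : ¬ IsSquare (-1 : F)) (a b : F) (h : a * a + b * b = 0) :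
    a = 0 ∧ b = 0 := by
  by_cases hb : b = 0
  · rw [hb, mul_zero, add_zero] at h
    exact ⟨mul_self_eq_zero.mp h, hb⟩
  · exfalso
    apply hm1
    refine ⟨a / b, ?_⟩
    field_simp
    linear_combination -h

end generic

/-- **K-OTs-TC1 (597334)** -/
theorem exists_bad_involution_plus [Fintype F] (hq3 : Fintype.card F % 4 = 3) (d : ℕ) (hd : 2 ≤ d) :
    ∃ x : Matrix.GeneralLinearGroup (Fin d ⊕ Fin d) F, x ∈ Cfsg.Geo.omegaGL (Cfsg.quadFormPlus d F) ∧
      (x : Matrix (Fin d ⊕ Fin d) (Fin d ⊕ Fin d) F) * (x : Matrix (Fin d ⊕ Fin d) (Fin d ⊕ Fin d) F) = 1 ∧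
      (∀ z : F, (x : Matrix (Fin d ⊕ Fin d) (Fin d ⊕ Fin d) F) ≠ z • (1 : Matrix (Fin d ⊕ Fin d) (Fin d ⊕ Fin d) F)) ∧
      ∀ W : Submodule F (Fin d ⊕ Fin d → F), finrank F W = d - 1 →
        (∀ w ∈ W, Cfsg.quadFormPlus d F w = 0) →
        ¬ W.map (Matrix.toLin' (x : Matrix (Fin d ⊕ Fin d) (Fin d ⊕ Fin d) F)) ≤ W := by
  classical
  have hqodd : Odd (Fintype.card F) := by
    rw [Nat.odd_iff]; omega
  have h2 : (2 : F) ≠ 0 := Cfsg.Agent.Lib.Helper50.two_ne_zero_of_odd_card rfl hqodd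
  have hm1 : ¬ IsSquare (-1 : F) := by
    rw [FiniteField.isSquare_neg_one_iff]
    omega
  obtain ⟨Q, hQdef⟩ : ∃ Q : QuadraticForm F (Fin d ⊕ Fin d → F), Q = QPlus d F := ⟨_, rfl⟩
  have hcoe : ⇑Q = Cfsg.quadFormPlus d F := by rw [hQdef]; rfl
  have hQnd : (QuadraticMap.polarBilin Q).Nondegenerate := by
    rw [hQdef]; exact QPlus_nondegenerate
  -- the two vectors
  obtain ⟨i0, i1, h01⟩ : ∃ i0 i1 : Fin d, i0 ≠ i1 :=
    ⟨⟨0, by omega⟩, ⟨1, by omega⟩, by simp [Fin.ext_iff]⟩
  obtain ⟨u, hudef⟩ : ∃ u : Fin d ⊕ Fin d → F,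
      u = Pi.single (Sum.inl i0) 1 + Pi.single (Sum.inr i0) 1 := ⟨_, rfl⟩
  obtain ⟨v, hvdef⟩ : ∃ v : Fin d ⊕ Fin d → F,
      v = Pi.single (Sum.inl i1) 1 + Pi.single (Sum.inr i1) 1 := ⟨_, rfl⟩
  obtain ⟨w0, hw0def⟩ : ∃ w0 : Fin d ⊕ Fin d → F,
      w0 = Pi.single (Sum.inl i0) 1 - Pi.single (Sum.inr i0) 1 := ⟨_, rfl⟩
  have hpu : ∀ w, QuadraticMap.polar (⇑Q) u w = w (Sum.inr i0) + w (Sum.inl i0) := by
    intro w
    rw [hudef, QuadraticMap.polar_add_left, hQdef, polar_QPlus_single_inl, polar_QPlus_single_inr]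
  have hpv : ∀ w, QuadraticMap.polar (⇑Q) v w = w (Sum.inr i1) + w (Sum.inl i1) := by
    intro w
    rw [hvdef, QuadraticMap.polar_add_left, hQdef, polar_QPlus_single_inl, polar_QPlus_single_inr]
  have hu_inl : u (Sum.inl i0) = 1 := by rw [hudef]; simp
  have hu_inr : u (Sum.inr i0) = 1 := by rw [hudef]; simp
  have hv_inl : v (Sum.inl i1) = 1 := by rw [hvdef]; simp
  have hv_inr : v (Sum.inr i1) = 1 := by rw [hvdef]; simp
  have hv_inl0 : v (Sum.inl i0) = 0 := by rw [hvdef]; simp [h01]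
  have hv_inr0 : v (Sum.inr i0) = 0 := by rw [hvdef]; simp [h01]
  have hu_inl1 : u (Sum.inl i1) = 0 := by rw [hudef]; simp [h01.symm]
  have hu_inr1 : u (Sum.inr i1) = 0 := by rw [hudef]; simp [h01.symm]
  have hpuu : QuadraticMap.polar (⇑Q) u u = 2 := by
    rw [hpu, hu_inl, hu_inr]; norm_num
  have hpvv : QuadraticMap.polar (⇑Q) v v = 2 := by
    rw [hpv, hv_inl, hv_inr]; norm_num
  have huv : QuadraticMap.polar (⇑Q) u v = 0 := by
    rw [hpu, hv_inl0, hv_inr0, add_zero]
  have hvu : QuadraticMap.polar (⇑Q) v u = 0 := by rw [QuadraticMap.polar_comm]; exact huv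
  have hQu : Q u = 1 := by
    have h := QuadraticMap.polar_self Q u
    rw [hpuu] at h
    have h3 : (2 : F) * (Q u - 1) = 0 := by
      rw [mul_sub, mul_one, ← smul_eq_mul (2 : F), two_smul, ← two_smul F (Q u)]
      simpa [sub_eq_zero] using h.symm
    rcases mul_eq_zero.mp h3 with h4 | h4
    · exact absurd h4 h2
    · exact sub_eq_zero.mp h4
  have hQv : Q v = 1 := by
    have h := QuadraticMap.polar_self Q v
    rw [hpvv] at h
    have h3 : (2 : F) * (Q v - 1) = 0 := by
      rw [mul_sub, mul_one, ← smul_eq_mul (2 : F), two_smul, ← two_smul F (Q v)]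
      simpa [sub_eq_zero] using h.symm
    rcases mul_eq_zero.mp h3 with h4 | h4
    · exact absurd h4 h2
    · exact sub_eq_zero.mp h4
  have hu0 : Q u ≠ 0 := by rw [hQu]; exact one_ne_zero
  have hv0 : Q v ≠ 0 := by rw [hQv]; exact one_ne_zero
  -- the element
  have hmem : reflO Q u * reflO Q v ∈ commutator ↥(Cfsg.isometryGroup F (⇑Q)) :=
    reflO_mul_mem_commutator h2 Q u v hu0 hv0 ⟨1, by rw [hQu, hQv]⟩
  obtain ⟨g, hgdef⟩ : ∃ g : ↥(Cfsg.isometryGroup F (⇑Q)), g = reflO Q u * reflO Q v := ⟨_, rfl⟩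
  have hgval : ((g : Matrix.GeneralLinearGroup (Fin d ⊕ Fin d) F) :
      Matrix (Fin d ⊕ Fin d) (Fin d ⊕ Fin d) F) =
      Cfsg.reflectionMatrix (⇑Q) u * Cfsg.reflectionMatrix (⇑Q) v := by
    rw [hgdef, Subgroup.coe_mul, Units.val_mul, reflO_val Q u hu0, reflO_val Q v hv0]
  have hgapply : ∀ w, Matrix.toLin' ((g : Matrix.GeneralLinearGroup (Fin d ⊕ Fin d) F) :
      Matrix (Fin d ⊕ Fin d) (Fin d ⊕ Fin d) F) w =
      w - QuadraticMap.polar (⇑Q) u w • u - QuadraticMap.polar (⇑Q) v w • v := by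
    intro w
    rw [hgval, Matrix.toLin'_mul, LinearMap.comp_apply, toLin'_reflectionMatrix,
      toLin'_reflectionMatrix]
    exact refl_pair_apply' Q u v hQu hQv huv w
  have hgΩ : (g : Matrix.GeneralLinearGroup (Fin d ⊕ Fin d) F) ∈
      Cfsg.Geo.omegaGL (Cfsg.quadFormPlus d F) := by
    rw [← hcoe]
    apply coe_mem_omegaGL
    rw [hgdef]
    exact hmem
  have hune : u ≠ 0 := by
    intro h
    rw [h, QuadraticMap.map_zero] at hQu
    exact zero_ne_one hQu
  refine ⟨(g : Matrix.GeneralLinearGroup (Fin d ⊕ Fin d) F), hgΩ, ?_, ?_, ?_⟩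
  · -- involution
    apply (Matrix.toLinAlgEquiv' (R := F) (n := Fin d ⊕ Fin d)).injective
    rw [map_mul, map_one]
    apply LinearMap.ext
    intro w
    rw [Module.End.mul_apply]
    change Matrix.toLin' _ (Matrix.toLin' _ w) = w
    rw [hgapply (Matrix.toLin' _ w), hgapply w]
    simp only [QuadraticMap.polar_sub_right, QuadraticMap.polar_smul_right, hpuu, hpvv, huv, hvu,
      smul_eq_mul, mul_zero, sub_zero]
    have e1 : QuadraticMap.polar (⇑Q) u w - QuadraticMap.polar (⇑Q) u w * 2 =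
        - QuadraticMap.polar (⇑Q) u w := by ring
    have e2 : QuadraticMap.polar (⇑Q) v w - QuadraticMap.polar (⇑Q) v w * 2 =
        - QuadraticMap.polar (⇑Q) v w := by ring
    rw [e1, e2, neg_smul, neg_smul]
    abel
  · -- not scalar
    intro z hz
    have hgu := hgapply u
    rw [hz, hpuu, hvu, zero_smul, sub_zero] at hgu
    have hzu : Matrix.toLin' (z • (1 : Matrix (Fin d ⊕ Fin d) (Fin d ⊕ Fin d) F)) u = z • u := by
      rw [map_smul, Matrix.toLin'_one, LinearMap.smul_apply, LinearMap.id_apply]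
    rw [hzu] at hgu
    -- `z = -1`
    have hz1 : z = -1 := by
      have h3 := congrFun hgu (Sum.inl i0)
      simp only [Pi.smul_apply, Pi.sub_apply, smul_eq_mul, hu_inl] at h3
      linear_combination h3
    have hgw := hgapply w0
    have hw_inl : w0 (Sum.inl i0) = 1 := by rw [hw0def]; simp
    have hw_inr : w0 (Sum.inr i0) = -1 := by rw [hw0def]; simp
    have hw_inl1 : w0 (Sum.inl i1) = 0 := by rw [hw0def]; simp [h01.symm]
    have hw_inr1 : w0 (Sum.inr i1) = 0 := by rw [hw0def]; simp [h01.symm]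
    rw [hz, hpu, hpv, hw_inl, hw_inr, hw_inl1, hw_inr1, map_smul, Matrix.toLin'_one,
      LinearMap.smul_apply, LinearMap.id_apply, hz1] at hgw
    have h3 := congrFun hgw (Sum.inl i0)
    simp only [Pi.smul_apply, Pi.sub_apply, smul_eq_mul, hw_inl, hu_inl, hv_inl0] at h3
    apply h2
    linear_combination -h3
  · -- no invariant totally singular `(d-1)`-space
    intro W hWd hWts hWinv
    have hWQ : ∀ w ∈ W, Q w = 0 := by
      intro w hw; rw [hcoe]; exact hWts w hw
    -- `W` is orthogonal to `u` and `v`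
    have hperp : ∀ w ∈ W, QuadraticMap.polar (⇑Q) u w = 0 ∧ QuadraticMap.polar (⇑Q) v w = 0 := by
      intro w hw
      have h1 : Matrix.toLin' ((g : Matrix.GeneralLinearGroup (Fin d ⊕ Fin d) F) :
          Matrix (Fin d ⊕ Fin d) (Fin d ⊕ Fin d) F) w ∈ W :=
        hWinv (Submodule.mem_map_of_mem hw)
      have h3 : QuadraticMap.polar (⇑Q) u w • u + QuadraticMap.polar (⇑Q) v w • v ∈ W := by
        have h4 := W.sub_mem hw h1
        rw [hgapply w] at h4
        have e : w - (w - QuadraticMap.polar (⇑Q) u w • u - QuadraticMap.polar (⇑Q) v w • v) =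
            QuadraticMap.polar (⇑Q) u w • u + QuadraticMap.polar (⇑Q) v w • v := by abel
        rwa [e] at h4
      have h5 := hWQ _ h3
      rw [map_pair' Q u v hQu hQv huv] at h5
      exact sq_add_sq_eq_zero' hm1 _ _ h5
    -- the plane
    obtain ⟨P, hPdef⟩ : ∃ P : Submodule F (Fin d ⊕ Fin d → F),
        P = Submodule.span F {u, v} := ⟨_, rfl⟩
    have hPmem : ∀ z ∈ P, ∃ a b : F, z = a • u + b • v := by
      intro z hz
      rw [hPdef, Submodule.mem_span_pair] at hz
      obtain ⟨a, b, rfl⟩ := hz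
      exact ⟨a, b, rfl⟩
    have huP : u ∈ P := by rw [hPdef]; exact Submodule.subset_span (by simp)
    have hvP : v ∈ P := by rw [hPdef]; exact Submodule.subset_span (by simp)
    have hli : LinearIndependent F ![u, v] := by
      rw [LinearIndependent.pair_iff]
      intro a b hab
      have h5 := map_pair' Q u v hQu hQv huv a b
      rw [hab, QuadraticMap.map_zero] at h5
      exact sq_add_sq_eq_zero' hm1 a b h5.symm
    have hPd : finrank F P = 2 := by
      rw [hPdef]
      have : ({u, v} : Set (Fin d ⊕ Fin d → F)) = Set.range ![u, v] := by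
        ext z; simp [eq_comm, or_comm]
      rw [this, finrank_span_eq_card hli, Fintype.card_fin]
    -- the bilinear form
    obtain ⟨B, hBdef⟩ : ∃ B : LinearMap.BilinForm F (Fin d ⊕ Fin d → F),
        B = QuadraticMap.polarBilin Q := ⟨_, rfl⟩
    have hBapp : ∀ a b, B a b = QuadraticMap.polar (⇑Q) a b := by
      intro a b; rw [hBdef, QuadraticMap.polarBilin_apply_apply]
    have hS : ∀ a b, B a b = B b a := by
      intro a b; rw [hBapp, hBapp, QuadraticMap.polar_comm]
    have hR : B.IsRefl := Cfsg.Agent.Lib.Helper98.Os.isRefl_of_symm hS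
    have hVnd : NonDeg B ⊤ := by
      rw [hBdef]; exact Cfsg.Agent.Lib.Helper13.OPb.nonDeg_top_of_nondegenerate Q hQnd
    have hPnd : NonDeg B P := by
      intro z hz hzP
      obtain ⟨a, b, rfl⟩ := hPmem z hz
      have h1 := hzP u huP
      have h3 := hzP v hvP
      rw [hBapp, QuadraticMap.polar_add_left, QuadraticMap.polar_smul_left,
        QuadraticMap.polar_smul_left, hpuu, hvu, smul_eq_mul, smul_eq_mul, mul_zero, add_zero] at h1
      rw [hBapp, QuadraticMap.polar_add_left, QuadraticMap.polar_smul_left,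
        QuadraticMap.polar_smul_left, hpvv, huv, smul_eq_mul, smul_eq_mul, mul_zero, zero_add] at h3
      have ha : a = 0 := (mul_eq_zero.mp h1).resolve_right h2
      have hb : b = 0 := (mul_eq_zero.mp h3).resolve_right h2
      rw [ha, hb, zero_smul, zero_smul, add_zero]
    obtain ⟨hsup, hinf, hUnd, hdim⟩ :=
      Cfsg.Agent.Lib.Helper98.Os.compl_props hR P ⊤ hPnd le_top hVnd
    obtain ⟨U, hUdef⟩ : ∃ U : Submodule F (Fin d ⊕ Fin d → F),
        U = B.orthogonal P ⊓ ⊤ := ⟨_, rfl⟩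
    rw [← hUdef] at hsup hinf hUnd hdim
    have htop : finrank F (⊤ : Submodule F (Fin d ⊕ Fin d → F)) = 2 * d := by
      rw [finrank_top, Module.finrank_fintype_fun_eq_card, Fintype.card_sum, Fintype.card_fin]
      ring
    have hUd : finrank F U = 2 * d - 2 := by
      rw [hPd, htop] at hdim
      omega
    have hort : Ort B P U := by
      intro a ha b hb
      rw [hUdef] at hb
      exact LinearMap.BilinForm.mem_orthogonal_iff.mp hb.1 a ha
    have hWU : W ≤ U := by
      intro w hw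
      rw [hUdef]
      refine ⟨LinearMap.BilinForm.mem_orthogonal_iff.mpr ?_, Submodule.mem_top⟩
      intro z hz
      obtain ⟨a, b, rfl⟩ := hPmem z hz
      obtain ⟨h1, h3⟩ := hperp w hw
      show B (a • u + b • v) w = 0
      rw [hBapp, QuadraticMap.polar_add_left, QuadraticMap.polar_smul_left,
        QuadraticMap.polar_smul_left, h1, h3, smul_zero, smul_zero, add_zero]
    have hBself : ∀ w, B w w = 2 * Q w := by
      intro w
      rw [hBapp, QuadraticMap.polar_self, two_smul, two_mul]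
    have hUplus : Plus B U := by
      refine ⟨W, hWU, fun w hw => ?_, ?_⟩
      · rw [hBself, hWQ w hw, mul_zero]
      · rw [hWd, hUd]; omega
    have hVplus : Plus B ⊤ := by
      obtain ⟨X, hX, hXd⟩ := Cfsg.Agent.Lib.Helper13.OPb.exists_ts_QPlus (F := F) d
      refine ⟨X, le_top, fun x hx => ?_, ?_⟩
      · rw [hBdef, hQdef]; exact hX x hx
      · rw [hXd, htop]
    have hiff := Cfsg.Agent.Lib.Helper63.Oh.plus_sup_iff h2 B hS P U hPnd hUnd hort
      (by rw [hPd]; exact even_two) (by rw [hUd]; exact ⟨d - 1, by omega⟩)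
    rw [hsup] at hiff
    obtain ⟨U', hU'P, hU'ts, hU'd⟩ := (hiff.mp hVplus).mpr hUplus
    rw [hPd] at hU'd
    have hU'1 : 0 < finrank F U' := by omega
    obtain ⟨z, hz0⟩ := finrank_pos_iff_exists_ne_zero.mp hU'1
    have hzP : (z : Fin d ⊕ Fin d → F) ∈ P := hU'P z.2
    obtain ⟨a, b, hab⟩ := hPmem _ hzP
    have h6 := hU'ts _ z.2
    rw [hBself, hab, map_pair' Q u v hQu hQv huv] at h6
    have h7 := (mul_eq_zero.mp h6).resolve_left h2
    obtain ⟨ha, hb⟩ := sq_add_sq_eq_zero' hm1 a b h7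
    apply hz0
    apply Subtype.ext
    rw [hab, ha, hb, zero_smul, zero_smul, add_zero]
    rfl

end Cfsg.Agent.Lib.Helper66.OTs
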