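/-
K-OhP-E3b (keystone 597431, pack S5974, architect helper38): characteristic two, `d` even: the
unipotent involution `[[1, P], [0, 1]]` (`P` a fixed point free involutory permutation matrix) of
`Ω⁺_{2d}(q)` (helper50's `unipGL`): it is an `a_d` involution.
-/
import Cfsg.Agent.Lib.Helper38.OhP.Defs
import Cfsg.Agent.Lib.Helper50.ElusiveUnip

set_option autoImplicit false
set_option linter.unusedSectionVars false
set_option linter.unusedVariables false

namespace Cfsg.Agent.Lib.Helper66.OhP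

open Module Matrix Cfsg.Agent.Lib.Helper98.Elus Cfsg.Agent.Lib.Helper98.Sy
  Cfsg.Agent.Lib.Helper38.OhP Cfsg.Agent.Lib.Helper50

universe u
variable {F : Type u} [Field F]

/-- the nilpotent part of helper50's unipotent matrix -/
theorem unipMat_sub_one_mulVec {d : ℕ} (π : Fin d → Fin d) (v : Fin d ⊕ Fin d → F) :
    (unipMat (F := F) π - 1) *ᵥ v = Sum.elim (fun i => v (Sum.inr (π i))) (fun _ => 0) := by
  rw [Matrix.sub_mulVec, Matrix.one_mulVec, unipMat_mulVec]
  funext j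
  cases j <;> simp

theorem toLin'_sub_one_eq {d : ℕ} (A : Matrix (Fin d ⊕ Fin d) (Fin d ⊕ Fin d) F) :
    (Matrix.toLin' A - 1 : (Fin d ⊕ Fin d → F) →ₗ[F] (Fin d ⊕ Fin d → F)) =
      (A - 1).mulVecLin := by
  apply LinearMap.ext
  intro v
  rw [LinearMap.sub_apply, Matrix.toLin'_apply, Module.End.one_apply, Matrix.mulVecLin_apply,
    Matrix.sub_mulVec, Matrix.one_mulVec]

/-- **K-OhP-E3b (597431)** -/
theorem exists_a_invol [Fintype F] [CharP F 2] (d : ℕ) (hd : Even d) (hd4 : 4 ≤ d) :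
    ∃ x : GL (Fin d ⊕ Fin d) F, x ∈ Cfsg.Geo.omegaGL (Cfsg.quadFormPlus d F) ∧
      (x : Matrix (Fin d ⊕ Fin d) (Fin d ⊕ Fin d) F) * (x : Matrix (Fin d ⊕ Fin d) (Fin d ⊕ Fin d) F) = 1 ∧
      (∀ z : F, (x : Matrix (Fin d ⊕ Fin d) (Fin d ⊕ Fin d) F) ≠
        z • (1 : Matrix (Fin d ⊕ Fin d) (Fin d ⊕ Fin d) F)) ∧
      (∀ v, Q0 d F ((Matrix.toLin' (x : Matrix (Fin d ⊕ Fin d) (Fin d ⊕ Fin d) F) - 1) v) = 0) ∧
      2 * finrank F (LinearMap.range
        (Matrix.toLin' (x : Matrix (Fin d ⊕ Fin d) (Fin d ⊕ Fin d) F) - 1)) = 2 * d := by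
  classical
  obtain ⟨π, hπ2, hπ⟩ := exists_fpf_involution hd
  have hiso := unipGL_mem_isometryGroup (F := F) π hπ2 hπ
  have h24 : Fintype.card F ≠ 2 ∨ Fintype.card (Fin d ⊕ Fin d) ≠ 4 := by
    right
    rw [Fintype.card_sum, Fintype.card_fin]
    omega
  refine ⟨unipGL π, ?_, ?_, ?_, ?_, ?_⟩
  · have hΩ : (⟨unipGL π, hiso⟩ : ↥(Cfsg.isometryGroup F (⇑(QPlus d F)))) ∈
        Cfsg.Omega F (⇑(QPlus d F)) := by
      rw [mem_Omega_iff_even_rank' (QPlus d F) QPlus_nondegenerate h24]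
      show Even (unipMat (F := F) π - 1).rank
      rw [rank_unipMat_sub_one π hπ2]
      exact hd
    exact coe_mem_omegaGL _ _ hΩ
  · rw [unipGL_val, unipMat_mul_self]
  · intro z hz
    rw [unipGL_val] at hz
    have i : Fin d := ⟨0, by omega⟩
    have h1 := congrFun (congrFun hz (Sum.inl i)) (Sum.inr (π i))
    simp [unipMat, permMat] at h1
  · intro v
    rw [unipGL_val, toLin'_sub_one_eq, Matrix.mulVecLin_apply, unipMat_sub_one_mulVec]
    show QPlus d F _ = 0
    rw [QPlus_apply]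
    apply Finset.sum_eq_zero
    intro i _
    simp
  · rw [unipGL_val, toLin'_sub_one_eq]
    have := rank_unipMat_sub_one (F := F) π hπ2
    unfold Matrix.rank at this
    rw [this]

end Cfsg.Agent.Lib.Helper66.OhP
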