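import Mathlib

/-! Keystone 228122 K-RSp-A3 (S2281 pack, helper48 architect): `exists_param_two`. -/

set_option autoImplicit false

namespace Cfsg.Agent.Lib.Helper66.RSp

theorem exists_param_two (F : Type*) [Field F] [Fintype F] (h2 : (2 : F) = 0)
    (h4 : 4 ≤ Fintype.card F) :
    ∃ s ε : F, s ≠ 0 ∧ ε ^ 2 + ε ≠ 0 ∧
      (∀ x : F, x ≠ 0 → ∃ k : ℕ, x = (-(s / 1 ^ 2) * 1 ^ 4 * (s * (ε ^ 2 + ε))) ^ (2 * k + 1)) ∧
      ∃ ρ₁ ρ₂ : F, ρ₁ ≠ 0 ∧ ρ₂ ≠ 0 ∧ ρ₁ ≠ ρ₂ := by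
  classical
  have : CharP F 2 := CharTwo.of_one_ne_zero_of_two_eq_zero one_ne_zero h2
  -- an element outside `{0, 1}`
  obtain ⟨ε, hε0, hε1⟩ : ∃ ε : F, ε ≠ 0 ∧ ε ≠ 1 := by
    by_contra h
    push Not at h
    have hsub : (Finset.univ : Finset F) ⊆ {0, 1} := by
      intro x _
      by_cases hx : x = 0
      · simp [hx]
      · simp [h x hx]
    have h1 := Finset.card_le_card hsub
    have h3 : ({0, 1} : Finset F).card ≤ 2 := Finset.card_le_two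
    rw [Finset.card_univ] at h1
    omega
  have hc : ε ^ 2 + ε ≠ 0 := by
    have e : ε ^ 2 + ε = ε * (ε + 1) := by ring
    rw [e]
    refine mul_ne_zero hε0 ?_
    intro h
    apply hε1
    have : ε = -1 := eq_neg_of_add_eq_zero_left h
    rw [this, CharTwo.neg_eq]
  -- a generator of the unit group
  obtain ⟨g, hg⟩ := IsCyclic.exists_monoid_generator (α := Fˣ)
  set θ : F := (g : F) with hθ
  have hθ0 : θ ≠ 0 := g.ne_zero
  -- `s` with `s ^ 2 = θ / c`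
  obtain ⟨s, hs⟩ : ∃ s : F, s ^ 2 = θ / (ε ^ 2 + ε) := by
    obtain ⟨s, hs⟩ := surjective_frobenius F 2 (θ / (ε ^ 2 + ε))
    exact ⟨s, by rw [← hs, frobenius_def]⟩
  have hs0 : s ≠ 0 := by
    intro h
    rw [h] at hs
    have : θ / (ε ^ 2 + ε) ≠ 0 := div_ne_zero hθ0 hc
    apply this
    rw [← hs]; ring
  have hval : -(s / 1 ^ 2) * 1 ^ 4 * (s * (ε ^ 2 + ε)) = θ := by
    have e : -(s / 1 ^ 2) * 1 ^ 4 * (s * (ε ^ 2 + ε)) = -(s ^ 2 * (ε ^ 2 + ε)) := by ring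
    rw [e, hs, CharTwo.neg_eq, div_mul_cancel₀ _ hc]
  -- `q - 1` is odd
  obtain ⟨n, hn⟩ := FiniteField.card F 2
  have hqeven : Even (Fintype.card F) := by
    rw [hn.2]
    exact (Nat.even_pow.mpr ⟨even_two, n.ne_zero⟩)
  have hθq : θ ^ (Fintype.card F - 1) = 1 := FiniteField.pow_card_sub_one_eq_one θ hθ0
  refine ⟨s, ε, hs0, hc, ?_, 1, ε, one_ne_zero, hε0, fun h => hε1 h.symm⟩
  intro x hx
  rw [hval]
  obtain ⟨k, hk⟩ := (Submonoid.mem_powers_iff _ _).mp (hg (Units.mk0 x hx))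
  have hxk : x = θ ^ k := by
    have := congrArg (fun u : Fˣ => (u : F)) hk
    simpa using this.symm
  rcases Nat.even_or_odd k with hke | hko
  · -- `k` even: use `k + (q - 1)`
    obtain ⟨a, ha⟩ := hke
    obtain ⟨b, hb⟩ := hqeven
    have hb1 : 1 ≤ b := by omega
    refine ⟨a + (b - 1), ?_⟩
    have e : 2 * (a + (b - 1)) + 1 = k + (Fintype.card F - 1) := by omega
    rw [e, pow_add, hθq, mul_one]
    exact hxk
  · obtain ⟨a, ha⟩ := hko
    exact ⟨a, by rw [← ha]; exact hxk⟩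

end Cfsg.Agent.Lib.Helper66.RSp
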