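import Mathlib

set_option autoImplicit false

/-!
# K-RU4 leaf L (S2279): a conjugate of a regular unipotent element of `SL_n(F)` is regular unipotent
-/

namespace Cfsg.Agent.Lib.Helper66.RU4

open Matrix

theorem ru4l_conj_pow {n : ℕ} {F : Type*} [Field F] (A B X : Matrix (Fin n) (Fin n) F)
    (hBA : B * A = 1) (k : ℕ) : (A * X * B) ^ (k + 1) = A * X ^ (k + 1) * B := by
  induction k with
  | zero => simp
  | succ k ih =>
    rw [pow_succ, ih, pow_succ X (k + 1)]
    calc A * X ^ (k + 1) * B * (A * X * B)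
        = A * X ^ (k + 1) * (B * A) * X * B := by simp only [Matrix.mul_assoc]
      _ = A * (X ^ (k + 1) * X) * B := by rw [hBA, Matrix.mul_one, Matrix.mul_assoc A]

theorem regular_conj {n : ℕ} {F : Type*} [Field F] (g u : SpecialLinearGroup (Fin n) F)
    (h : IsNilpotent ((u : Matrix (Fin n) (Fin n) F) - 1) ∧
      ((u : Matrix (Fin n) (Fin n) F) - 1) ^ (n - 1) ≠ 0) :
    IsNilpotent (((g * u * g⁻¹ : SpecialLinearGroup (Fin n) F) : Matrix (Fin n) (Fin n) F) - 1) ∧
      (((g * u * g⁻¹ : SpecialLinearGroup (Fin n) F) : Matrix (Fin n) (Fin n) F) - 1) ^ (n - 1) ≠ 0 := by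
  set A : Matrix (Fin n) (Fin n) F := (g : Matrix (Fin n) (Fin n) F) with hA
  set B : Matrix (Fin n) (Fin n) F :=
    ((g⁻¹ : SpecialLinearGroup (Fin n) F) : Matrix (Fin n) (Fin n) F) with hB
  set U : Matrix (Fin n) (Fin n) F := (u : Matrix (Fin n) (Fin n) F) with hU
  have hAB : A * B = 1 := by
    have hd := g.2
    simp [hA, hB, mul_adjugate, hd]
  have hBA : B * A = 1 := by
    have hd := g.2
    simp [hA, hB, adjugate_mul, hd]
  have hc : ((g * u * g⁻¹ : SpecialLinearGroup (Fin n) F) : Matrix (Fin n) (Fin n) F) - 1 =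
      A * (U - 1) * B := by
    have : ((g * u * g⁻¹ : SpecialLinearGroup (Fin n) F) : Matrix (Fin n) (Fin n) F) = A * U * B := by
      simp [hA, hB, hU]
    rw [this, Matrix.mul_sub, Matrix.sub_mul, Matrix.mul_one, hAB]
  rw [hc]
  have hX : ∀ X : Matrix (Fin n) (Fin n) F, A * X * B = 0 → X = 0 := by
    intro X hX
    have : B * (A * X * B) * A = X := by
      calc B * (A * X * B) * A = (B * A) * X * (B * A) := by simp only [Matrix.mul_assoc]
        _ = X := by rw [hBA, Matrix.one_mul, Matrix.mul_one]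
    rw [← this, hX, Matrix.mul_zero, Matrix.zero_mul]
  refine ⟨?_, ?_⟩
  · obtain ⟨k, hk⟩ := h.1
    refine ⟨k + 1, ?_⟩
    rw [ru4l_conj_pow A B (U - 1) hBA k, pow_succ, hk, Matrix.zero_mul, Matrix.mul_zero,
      Matrix.zero_mul]
  · rcases Nat.eq_zero_or_pos (n - 1) with h0 | hpos
    · have h2 := h.2
      rw [h0, pow_zero] at h2 ⊢
      exact h2
    · obtain ⟨k, hk⟩ : ∃ k, n - 1 = k + 1 := ⟨n - 1 - 1, by omega⟩
      rw [hk, ru4l_conj_pow A B (U - 1) hBA k]
      intro h0
      have := hX _ h0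
      rw [hk] at h
      exact h.2 this

end Cfsg.Agent.Lib.Helper66.RU4
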