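import Mathlib
import Cfsg.Agent.Lib.Helper72.SNCDefs

/-!
# K-SNC-7 (407307): the symmetric group of degree four does not embed in a CA-group
-/

set_option autoImplicit false

namespace Cfsg.Agent.Lib.Helper66.SNC

open Cfsg.Agent.Lib.Helper72.SNC

universe u v

theorem perm_four_not_ca : ∃ x a b : Equiv.Perm (Fin 4),
    x ≠ 1 ∧ x * a = a * x ∧ x * b = b * x ∧ a * b ≠ b * a := by
  refine ⟨Equiv.swap 0 1 * Equiv.swap 2 3, Equiv.swap 0 1, Equiv.swap 0 2 * Equiv.swap 1 3, ?_⟩
  decide

theorem false_of_ca_of_mulEquiv_perm_four {M : Type u} [Group M] (e : M ≃* Equiv.Perm (Fin 4))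
    (hCA : ∀ a b c : M, a ≠ 1 → a * b = b * a → a * c = c * a → b * c = c * b) : False := by
  obtain ⟨x, a, b, hx, hxa, hxb, hab⟩ := perm_four_not_ca
  apply hab
  have h1 : e.symm x ≠ 1 := by
    intro h
    apply hx
    have := congrArg e h
    simpa using this
  have h2 : e.symm x * e.symm a = e.symm a * e.symm x := by
    rw [← map_mul, ← map_mul, hxa]
  have h3 : e.symm x * e.symm b = e.symm b * e.symm x := by
    rw [← map_mul, ← map_mul, hxb]
  have h4 := hCA _ _ _ h1 h2 h3
  rw [← map_mul, ← map_mul] at h4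
  exact e.symm.injective h4

/-- 407307 SNC-7: `S₄` does not embed in a CA-group. -/
theorem not_equiv_perm_four {X : Type u} [Group X]
    (hCT : ∀ a b c : X, a ≠ 1 → a * b = b * a → a * c = c * a → b * c = c * b)
    (M : Subgroup X) : ¬ Nonempty (↥M ≃* Equiv.Perm (Fin 4)) := by
  rintro ⟨e⟩
  refine false_of_ca_of_mulEquiv_perm_four e ?_
  intro a b c ha hab hac
  have ha' : (a : X) ≠ 1 := fun h => ha (Subtype.ext h)
  have hab' : (a : X) * b = b * a := by
    have := congrArg Subtype.val hab
    simpa using this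
  have hac' : (a : X) * c = c * a := by
    have := congrArg Subtype.val hac
    simpa using this
  exact Subtype.ext (by simpa using hCT a b c ha' hab' hac')

end Cfsg.Agent.Lib.Helper66.SNC
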