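import Mathlib
import Cfsg.Prelude.Def_JordanBlocks
import Cfsg.Agent.Lib.Helper73.UCDefs
import Cfsg.Agent.Lib.Helper73.SPCDefs

set_option autoImplicit false

/-!
# K-SPC leaf D7 (267632): the class count for one Jordan type, hypothesis form
-/

namespace Cfsg.Agent.Lib.Helper66.SPC

open Matrix Cfsg.Agent.Lib.Helper73.UC Cfsg.Agent.Lib.Helper73.SPC

variable {F : Type*} [Field F]

/-- LEAF D7 (the count for one type, hypothesis form). -/
theorem card_classes_of_type_of {m : ℕ} (μ : Nat.Partition (2 * m))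
    (hdata : ∃ (t : ℕ) (d : Fin t → ℕ) (_ : ((k : Fin t) × Fin (d k)) ≃ (Fin m ⊕ Fin m)),
      (∀ k, 1 ≤ d k) ∧ Multiset.map d Finset.univ.val = μ.parts)
    (hperm : ∀ (t t' : ℕ) (d : Fin t → ℕ) (d' : Fin t' → ℕ)
      (e : ((k : Fin t) × Fin (d k)) ≃ (Fin m ⊕ Fin m))
      (e' : ((k : Fin t') × Fin (d' k)) ≃ (Fin m ⊕ Fin m)),
      Multiset.map d Finset.univ.val = Multiset.map d' Finset.univ.val →
      IsConj (Matrix.reindex e e (Cfsg.jordanTypeMatrix d F))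
        (Matrix.reindex e' e' (Cfsg.jordanTypeMatrix d' F)))
    (hcount : ∀ (t : ℕ) (d : Fin t → ℕ) (e : ((k : Fin t) × Fin (d k)) ≃ (Fin m ⊕ Fin m)),
      (∀ k, 1 ≤ d k) → Multiset.map d Finset.univ.val = μ.parts →
      Nat.card {C : ConjClasses ↥(Matrix.symplecticGroup (Fin m) F) //
        ∃ g : ↥(Matrix.symplecticGroup (Fin m) F), ConjClasses.mk g = C ∧
          IsConj (Matrix.reindex e e (Cfsg.jordanTypeMatrix d F))
            (g : Matrix (Fin m ⊕ Fin m) (Fin m ⊕ Fin m) F)} = spWeight μ) :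
    Nat.card {C : ConjClasses ↥(Matrix.symplecticGroup (Fin m) F) //
        ∃ g : ↥(Matrix.symplecticGroup (Fin m) F), ConjClasses.mk g = C ∧
          MatHasType (g : Matrix (Fin m ⊕ Fin m) (Fin m ⊕ Fin m) F) μ} = spWeight μ := by
  obtain ⟨t, d, e, hd, hμ⟩ := hdata
  rw [← hcount t d e hd hμ]
  apply Nat.card_congr
  apply Equiv.subtypeEquivRight
  intro C
  constructor
  · rintro ⟨g, hg, t', d', e', hd', hμ', hc⟩
    exact ⟨g, hg, (hperm t t' d d' e e' (hμ.trans hμ'.symm)).trans hc⟩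
  · rintro ⟨g, hg, hc⟩
    exact ⟨g, hg, t, d, e, hd, hμ, hc⟩

end Cfsg.Agent.Lib.Helper66.SPC
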