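import Cfsg.Agent.S0293
import Cfsg.Agent.Lib.Helper38.SQ.Defs

set_option autoImplicit false

/-!
# K-SQ leaf 462505 (POmega+, characteristic 2): the order half and the assembly

`Unip2 (Omega ...) (q^(m(m-1)))` (the unipotent subgroup, helper27's half) is a hypothesis of
`sylSq_pomega_plus_of_unip2`; this file supplies: the centre of `Omega` is trivial in
characteristic 2, `TwoPart (POmega ...)` from the order formula S0293, the transport
`Omega → POmega`, and the final `SylSq`.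
-/

namespace Cfsg.Agent.Lib.Helper66.SQ

open Cfsg Cfsg.Agent.Lib.Helper38.SQ Cfsg.Agent.Lib.Helper08

/-- In characteristic 2 the centre of `Ω⁺_{2m}(F)` is trivial (`m ≥ 3`). -/
theorem card_center_omega_plus (F : Type) [Field F] [Fintype F] [CharP F 2] (m : ℕ) (hm3 : 3 ≤ m) :
    Nat.card (Subgroup.center (Cfsg.Omega F (Cfsg.quadFormPlus m F))) = 1 := by
  classical
  obtain ⟨Q, hQdef⟩ : ∃ Q : QuadraticForm F (Fin m ⊕ Fin m → F), Q = (qdataPlus (F := F) m).qf :=
    ⟨_, rfl⟩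
  have hcoe : ⇑Q = Cfsg.quadFormPlus m F := by rw [hQdef]; rfl
  have hQ : (QuadraticMap.polarBilin Q).Nondegenerate := by
    rw [hQdef]; exact (qdataPlus (F := F) m).qf_nondeg
  have HT : HypTriple Q (fun i => Pi.single (Sum.inl (Fin.castLE hm3 i)) 1)
      (fun i => Pi.single (Sum.inr (Fin.castLE hm3 i)) 1) := by
    rw [hQdef]; exact hypTriple_plus (F := F) m hm3
  have RP := reflPairs_finite Q hQ
  have h2 : (2 : F) = 0 := CharTwo.two_eq_zero
  have hcen : Nat.card (Subgroup.center ↥(Cfsg.Omega F ⇑Q)) = 1 :=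
    card_center_Omega_of_not hQ _ _ HT RP (Or.inl h2)
  rw [← hcoe]
  exact hcen

theorem center_omega_plus_eq_bot (F : Type) [Field F] [Fintype F] [CharP F 2] (m : ℕ)
    (hm3 : 3 ≤ m) : Subgroup.center (Cfsg.Omega F (Cfsg.quadFormPlus m F)) = ⊥ :=
  Subgroup.card_eq_one.mp (card_center_omega_plus F m hm3)

theorem sqop_odd_pow_sub_one {q e : ℕ} (hq : Even q) (hq0 : 0 < q) (he : e ≠ 0) :
    Odd (q ^ e - 1) :=
  Nat.Even.sub_odd (Nat.one_le_pow _ _ hq0) (Nat.even_pow.mpr ⟨hq, he⟩) odd_one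

/-- The cofactor in the order formula of `PΩ⁺_{2m}(q)` is odd for even `q`. -/
theorem sqop_odd_cofactor {q : ℕ} (hq : Even q) (hq0 : 0 < q) (m : ℕ) (hm : m ≠ 0) :
    Odd ((q ^ m - 1) * ∏ i ∈ Finset.range (m - 1), (q ^ (2 * (i + 1)) - 1)) := by
  refine Odd.mul (sqop_odd_pow_sub_one hq hq0 hm) ?_
  refine Finset.prod_induction _ Odd (fun a b ha hb => ha.mul hb) odd_one ?_
  intro i _
  exact sqop_odd_pow_sub_one hq hq0 (by omega)

/-- `|PΩ⁺_{2m}(q)| = q^(m(m-1)) · (odd)` for `q` even. -/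
theorem twoPart_pomega_plus (F : Type) [Field F] [Fintype F] [CharP F 2] (m : ℕ) (hm : 4 ≤ m) :
    TwoPart (Cfsg.POmega F (Cfsg.quadFormPlus m F)) (Fintype.card F ^ (m * (m - 1))) := by
  classical
  set q := Fintype.card F with hq
  have hq0 : 0 < q := Fintype.card_pos
  have heven : Even q := by
    rw [Nat.even_iff]
    exact FiniteField.even_card_iff_char_two.mp (ringChar.eq F 2)
  have hform := Cfsg.Agent.S0293.result (F := F) (q := q) rfl m hm
  have hgcd : Nat.gcd 4 (q ^ m - 1) = 1 := by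
    have hodd : Odd (q ^ m - 1) := sqop_odd_pow_sub_one heven hq0 (by omega)
    have h2 : Nat.Coprime 2 (q ^ m - 1) := Nat.coprime_two_left.mpr hodd
    have : Nat.Coprime (2 ^ 2) (q ^ m - 1) := Nat.Coprime.pow_left 2 h2
    simpa using this
  rw [hgcd, one_mul, mul_assoc] at hform
  refine ⟨(q ^ m - 1) * ∏ i ∈ Finset.range (m - 1), (q ^ (2 * (i + 1)) - 1), ?_, hform⟩
  have hodd := sqop_odd_cofactor heven hq0 m (by omega)
  intro h2
  exact (Nat.not_even_iff_odd.mpr hodd) (even_iff_two_dvd.mpr h2)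

/-- The quotient map `Ω → PΩ` is injective when the centre is trivial. -/
theorem sqop_mk_injective (F : Type) [Field F] [Fintype F] [CharP F 2] (m : ℕ) (hm3 : 3 ≤ m) :
    Function.Injective
      (QuotientGroup.mk' (Subgroup.center (Cfsg.Omega F (Cfsg.quadFormPlus m F)))) := by
  rw [← MonoidHom.ker_eq_bot_iff, QuotientGroup.ker_mk']
  exact center_omega_plus_eq_bot F m hm3

/-- ASSEMBLY: from the unipotent half (`Unip2` for `Ω⁺_{2m}(F)`) to `SylSq (PΩ⁺_{2m}(F))`. -/
theorem sylSq_pomega_plus_of_unip2 (F : Type) [Field F] [Fintype F] [CharP F 2] (m : ℕ)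
    (hm : 4 ≤ m)
    (hU : Unip2 (Cfsg.Omega F (Cfsg.quadFormPlus m F)) (Fintype.card F ^ (m * (m - 1)))) :
    SylSq (Cfsg.POmega F (Cfsg.quadFormPlus m F)) := by
  classical
  obtain ⟨k, -, hk⟩ := FiniteField.card F 2
  have hqN : Fintype.card F ^ (m * (m - 1)) = 2 ^ ((k : ℕ) * (m * (m - 1))) := by
    rw [hk, ← pow_mul]
  have hU' : Unip2 (Cfsg.POmega F (Cfsg.quadFormPlus m F)) (2 ^ ((k : ℕ) * (m * (m - 1)))) := by
    rw [← hqN]
    exact Unip2.of_injective _ _ (sqop_mk_injective F m (by omega)) hU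
  have hT : TwoPart (Cfsg.POmega F (Cfsg.quadFormPlus m F)) (2 ^ ((k : ℕ) * (m * (m - 1)))) := by
    rw [← hqN]
    exact twoPart_pomega_plus F m hm
  exact SylSq.of_unip_twoPart _ hU' hT

end Cfsg.Agent.Lib.Helper66.SQ
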