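/-
K-SpU2-E3 (keystone 566513, pack S5665, architect helper44): if all hermitian-isotropic vectors
are centres of full transvection groups of `M`, then all vectors are.
-/
import Cfsg.Agent.Lib.Helper44.SpUTools

set_option autoImplicit false
set_option linter.unusedSimpArgs false
set_option linter.unusedVariables false
set_option linter.unusedSectionVars false

namespace Cfsg.Agent.Lib.Helper66.SpU

open Matrix Cfsg.Agent.Lib.Helper18 Cfsg.Agent.Lib.Helper11.SpMax Cfsg.Agent.Lib.Helper44.SpU

variable {F : Type*} [Field F] [Fintype F] {m : ℕ}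

local notation "V" => (Fin m ⊕ Fin m → F)
local notation "ff" => Cfsg.sympForm m F
local notation "GLm" => Matrix.GeneralLinearGroup (Fin m ⊕ Fin m) F
local notation "Mat" => Matrix (Fin m ⊕ Fin m) (Fin m ⊕ Fin m) F

/-- **K-SpU2-E3 (566513)** -/
theorem XS_all_of_KI (U : SData m F) (hm : 7 ≤ m) (M : Subgroup GLm) (hM : M ≤ Cfsg.spGL m F)
    (hKI : ∀ u : V, KI U u → u ∈ XS m M) : ∀ y : V, y ∈ XS m M := by
  classical
  intro y
  by_cases hy0 : y = 0
  · rw [hy0]; exact XS_zero m M
  by_cases hyK : KI U y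
  · exact hKI y hyK
  set n : F := ff y (U.δ *ᵥ y) with hn
  have hn0 : n ≠ 0 := hyK
  set s : V := (2 / n) • y - U.δ *ᵥ y with hs
  have ha : U.δ *ᵥ y ∉ Submodule.span F ((({s} : Finset V)) : Set V) := by
    rw [Finset.coe_singleton]
    intro hmem
    obtain ⟨t, ht⟩ := Submodule.mem_span_singleton.mp hmem
    -- `(1 + t) δ y = (2 t / n) y`
    have h1 : (1 + t) • (U.δ *ᵥ y) = (t * (2 / n)) • y := by
      rw [hs, smul_sub, smul_smul] at ht
      rw [add_smul, one_smul]
      exact (eq_add_of_sub_eq ht).symm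
    by_cases ht1 : 1 + t = 0
    · rw [ht1, zero_smul] at h1
      have ht' : t = -1 := by linear_combination ht1
      have hc : t * (2 / n) ≠ 0 := by
        rw [ht']
        exact mul_ne_zero (neg_ne_zero.mpr one_ne_zero) (div_ne_zero U.two hn0)
      rcases smul_eq_zero.mp h1.symm with h | h
      · exact hc h
      · exact hy0 h
    · have h2 : U.δ *ᵥ y = ((1 + t)⁻¹ * (t * (2 / n))) • y := by
        rw [← smul_smul, ← h1, smul_smul, inv_mul_cancel₀ ht1, one_smul]
      apply hn0
      rw [hn, h2, sf_smul_right, sf_self, mul_zero]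
  obtain ⟨c, hc, hS, hac⟩ := exists_KI U hm {s} (by rw [Finset.card_singleton]; omega)
    (U.δ *ᵥ y) ha
  have hS' := hS s (Finset.mem_singleton_self s)
  rw [hs, sf_sub_left, sf_smul_left, hac] at hS'
  -- `f y (δ c) = n / 2`
  have h3 : ff y (U.δ *ᵥ c) = n / 2 := by
    have h4 : 2 / n * ff y (U.δ *ᵥ c) = 1 := by linear_combination hS'
    rw [div_mul_eq_mul_div, div_eq_iff hn0] at h4
    rw [eq_div_iff U.two]
    linear_combination h4
  -- `f y c ≠ 0`
  have h5 : ff y c ≠ 0 := by
    intro h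
    rw [U.ff_δδ, h, mul_zero, neg_zero] at hac
    exact zero_ne_one hac
  -- `KI (y - c)`
  have h6 : KI U (y - c) := by
    unfold KI
    rw [Matrix.mulVec_sub, sf_sub_left, sf_sub_right, sf_sub_right, U.ff_δ_symm c y, h3]
    have : ff c (U.δ *ᵥ c) = 0 := hc
    rw [this, ← hn]
    have h2 := U.two
    field_simp
    ring
  have h7 : ff (y - c) c ≠ 0 := by
    rw [sf_sub_left, sf_self, sub_zero]
    exact h5
  have h8 := XS_hyp m M hM c (y - c) (hKI c hc) (hKI _ h6) h7 1
  rwa [one_smul, sub_add_cancel] at h8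

end Cfsg.Agent.Lib.Helper66.SpU
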