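import Mathlib
import Cfsg.Agent.Lib.Helper69.StNDefs

/-! Keystone 240113 K-StN-E1 (S2401 pack, helper69 architect): `Upos_decomp`. -/

set_option autoImplicit false

namespace Cfsg.Agent.Lib.Helper66.StN

open Cfsg.Agent.Lib.Helper69.StN Matrix

variable {n : ℕ} {K : Type*} [Field K] {S : Type*} [Group S] {X : Fin n → Fin n → K → S}

/-- conjugation by `X a b t` (simple root) preserves `UposA X a b`. -/
theorem UposA_conj_pos (hX : IsSt X) {a b : Fin n} (hab : b.val = a.val + 1) (t : K) :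
    ∀ g ∈ UposA X a b, X a b t * g * (X a b t)⁻¹ ∈ UposA X a b := by
  have hab' : a < b := by
    rw [Fin.lt_def]; omega
  have hne : a ≠ b := hab'.ne
  have hle : UposA X a b ≤ (UposA X a b).comap (MulAut.conj (X a b t)).toMonoidHom := by
    unfold UposA
    rw [Subgroup.closure_le]
    rintro g ⟨i, j, s, hij, hnot, rfl⟩
    rw [SetLike.mem_coe, Subgroup.mem_comap]
    change X a b t * X i j s * (X a b t)⁻¹ ∈ _
    have hij' : i ≠ j := hij.ne
    by_cases hbi : b = i
    · -- `a < b = i < j`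
      subst hbi
      have haj : a ≠ j := (lt_trans hab' hij).ne
      have h3 := hX.comm3 a b j hne hij' haj t s
      have e : X a b t * X b j s * (X a b t)⁻¹ = X a j (t * s) * X b j s := by
        rw [← h3]; group
      rw [e]
      refine Subgroup.mul_mem _ (Subgroup.subset_closure ⟨a, j, t * s, lt_trans hab' hij, ?_, rfl⟩)
        (Subgroup.subset_closure ⟨b, j, s, hij, ?_, rfl⟩)
      · rintro ⟨-, h⟩; exact hij' h.symm
      · rintro ⟨h, -⟩; exact hne h.symm
    · by_cases haj : a = j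
      · -- `i < j = a < b`
        subst haj
        have hib : i ≠ b := (lt_trans hij hab').ne
        have h3 := hX.comm3 i a b hij' hne hib s t
        have e : X a b t * X i a s * (X a b t)⁻¹ = (X i b (s * t))⁻¹ * X i a s := by
          rw [← h3]; group
        rw [e]
        refine Subgroup.mul_mem _ (Subgroup.inv_mem _
          (Subgroup.subset_closure ⟨i, b, s * t, lt_trans hij hab', ?_, rfl⟩))
          (Subgroup.subset_closure ⟨i, a, s, hij, ?_, rfl⟩)
        · rintro ⟨h, -⟩; exact hij' h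
        · rintro ⟨h, -⟩; exact hij' h
      · -- they commute
        have hc := hX.comm a b i j hne hij' haj hbi t s
        have e : X a b t * X i j s * (X a b t)⁻¹ = X i j s := by
          rw [hc]; group
        rw [e]
        exact Subgroup.subset_closure ⟨i, j, s, hij, hnot, rfl⟩
  intro g hg
  have := hle hg
  rw [Subgroup.mem_comap] at this
  exact this

/-- **K-StN-E1.** -/
theorem Upos_decomp (hX : IsSt X) {a b : Fin n} (hab : b.val = a.val + 1) :
    ∀ g ∈ Upos X, ∃ g' ∈ UposA X a b, ∃ t : K, g = g' * X a b t := by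
  have hab' : a < b := by
    rw [Fin.lt_def]; omega
  have hne : a ≠ b := hab'.ne
  intro g hg
  unfold Upos at hg
  induction hg using Subgroup.closure_induction with
  | mem y hy =>
    obtain ⟨i, j, s, hij, rfl⟩ := hy
    by_cases h : i = a ∧ j = b
    · obtain ⟨rfl, rfl⟩ := h
      exact ⟨1, Subgroup.one_mem _, s, by rw [one_mul]⟩
    · refine ⟨X i j s, Subgroup.subset_closure ⟨i, j, s, hij, h, rfl⟩, 0, ?_⟩
      rw [hX.zero hne, mul_one]
  | one => exact ⟨1, Subgroup.one_mem _, 0, by rw [hX.zero hne, mul_one]⟩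
  | mul y z _ _ ihy ihz =>
    obtain ⟨g₁, hg₁, t₁, rfl⟩ := ihy
    obtain ⟨g₂, hg₂, t₂, rfl⟩ := ihz
    refine ⟨g₁ * (X a b t₁ * g₂ * (X a b t₁)⁻¹),
      Subgroup.mul_mem _ hg₁ (UposA_conj_pos hX hab t₁ g₂ hg₂), t₁ + t₂, ?_⟩
    rw [← hX.add a b hne t₁ t₂]; group
  | inv y _ ihy =>
    obtain ⟨g₁, hg₁, t₁, rfl⟩ := ihy
    refine ⟨X a b (-t₁) * g₁⁻¹ * (X a b (-t₁))⁻¹,
      UposA_conj_pos hX hab (-t₁) g₁⁻¹ (Subgroup.inv_mem _ hg₁), -t₁, ?_⟩
    rw [_root_.mul_inv_rev, hX.inv hne]; group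

end Cfsg.Agent.Lib.Helper66.StN
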