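import Mathlib
import Cfsg.Agent.Lib.Helper69.StNDefs

/-! Keystone 240117 K-StN-G1 (S2401 pack, helper69 architect): `bruhat_step`. -/

set_option autoImplicit false

namespace Cfsg.Agent.Lib.Helper66.StN

open Cfsg.Agent.Lib.Helper69.StN Matrix

variable {n : ℕ} {K : Type*} [Field K] {S : Type*} [Group S] {X : Fin n → Fin n → K → S}

/-- move a root element across a monomial element. -/
theorem move_right {m : S} {σ : Equiv.Perm (Fin n)} {d : Fin n → K} (h : Acts X m σ d)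
    {p q : Fin n} (hpq : p ≠ q) (s : K) :
    ∃ s' : K, X p q s * m = m * X (σ⁻¹ p) (σ⁻¹ q) s' := by
  have h' := h.inv
  have e := h'.2 p q hpq s
  rw [inv_inv] at e
  exact ⟨_, by rw [← e]; group⟩

/-- the rank one exchange for a negative simple root element. -/
theorem bruhat_step_aux (hX : IsSt X) (hN : HasActsN X) {a b : Fin n} (hab : b.val = a.val + 1)
    {m : S} (hm : m ∈ Nmon X) (s : K) :
    ∃ u ∈ Upos X, ∃ m' ∈ Nmon X, ∃ u' ∈ Upos X, X b a s * m = u * m' * u' := by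
  have hab' : a < b := by
    rw [Fin.lt_def]; omega
  have hne : a ≠ b := hab'.ne
  obtain ⟨σ, d, hA⟩ := hN m hm
  have hpq : σ⁻¹ a ≠ σ⁻¹ b := fun e => hne (σ⁻¹.injective e)
  rcases lt_or_gt_of_ne hpq with hlt | hgt
  · -- `σ⁻¹ a < σ⁻¹ b`
    by_cases hs : s = 0
    · subst hs
      refine ⟨1, Subgroup.one_mem _, m, hm, 1, Subgroup.one_mem _, ?_⟩
      rw [hX.zero hne.symm]; group
    · obtain ⟨s', hs'⟩ := move_right hA hne s⁻¹
      refine ⟨X a b s⁻¹, X_mem_Upos X hab' _, w X a b (-s⁻¹) * m,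
        Subgroup.mul_mem _ (w_mem_Nmon X hne (neg_ne_zero.mpr (inv_ne_zero hs))) hm,
        X (σ⁻¹ a) (σ⁻¹ b) s', X_mem_Upos X hlt _, ?_⟩
      rw [hX.neg_root_eq hne s]
      calc X a b s⁻¹ * w X a b (-s⁻¹) * X a b s⁻¹ * m
          = X a b s⁻¹ * w X a b (-s⁻¹) * (X a b s⁻¹ * m) := by group
        _ = X a b s⁻¹ * w X a b (-s⁻¹) * (m * X (σ⁻¹ a) (σ⁻¹ b) s') := by rw [hs']
        _ = X a b s⁻¹ * (w X a b (-s⁻¹) * m) * X (σ⁻¹ a) (σ⁻¹ b) s' := by group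
  · -- `σ⁻¹ b < σ⁻¹ a`
    obtain ⟨s', hs'⟩ := move_right hA hne.symm s
    refine ⟨1, Subgroup.one_mem _, m, hm, X (σ⁻¹ b) (σ⁻¹ a) s', X_mem_Upos X hgt _, ?_⟩
    rw [hs']; group

/-- **K-StN-G1.** -/
theorem bruhat_step (hX : IsSt X) (hN : HasActsN X) {a b : Fin n} (hab : b.val = a.val + 1)
    {m : S} (hm : m ∈ Nmon X) (t c : K) :
    ∃ u ∈ Upos X, ∃ m' ∈ Nmon X, ∃ u' ∈ Upos X, X b a t * X a b c * m = u * m' * u' := by
  have hab' : a < b := by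
    rw [Fin.lt_def]; omega
  have hne : a ≠ b := hab'.ne
  by_cases hc : c = 0
  · subst hc
    rw [hX.zero hne, mul_one]
    exact bruhat_step_aux hX hN hab hm t
  obtain ⟨σ, d, hA⟩ := hN m hm
  have hpq : σ⁻¹ a ≠ σ⁻¹ b := fun e => hne (σ⁻¹.injective e)
  rcases lt_or_gt_of_ne hpq with hlt | hgt
  · -- move `X a b c` to the right
    obtain ⟨s', hs'⟩ := move_right hA hne c
    obtain ⟨u, hu, m', hm', u', hu', e⟩ := bruhat_step_aux hX hN hab hm t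
    refine ⟨u, hu, m', hm', u' * X (σ⁻¹ a) (σ⁻¹ b) s',
      Subgroup.mul_mem _ hu' (X_mem_Upos X hlt _), ?_⟩
    calc X b a t * X a b c * m = X b a t * (X a b c * m) := by group
      _ = X b a t * (m * X (σ⁻¹ a) (σ⁻¹ b) s') := by rw [hs']
      _ = (X b a t * m) * X (σ⁻¹ a) (σ⁻¹ b) s' := by group
      _ = (u * m' * u') * X (σ⁻¹ a) (σ⁻¹ b) s' := by rw [e]
      _ = u * m' * (u' * X (σ⁻¹ a) (σ⁻¹ b) s') := by group
  · -- rewrite `X a b c` through the negative root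
    obtain ⟨s', hs'⟩ := move_right hA hne.symm c⁻¹
    have hm₂ : w X b a (-c⁻¹) * m ∈ Nmon X :=
      Subgroup.mul_mem _ (w_mem_Nmon X hne.symm (neg_ne_zero.mpr (inv_ne_zero hc))) hm
    obtain ⟨u, hu, m', hm', u', hu', e⟩ := bruhat_step_aux hX hN hab hm₂ (t + c⁻¹)
    refine ⟨u, hu, m', hm', u' * X (σ⁻¹ b) (σ⁻¹ a) s',
      Subgroup.mul_mem _ hu' (X_mem_Upos X hgt _), ?_⟩
    rw [hX.neg_root_eq hne.symm c]
    calc X b a t * (X b a c⁻¹ * w X b a (-c⁻¹) * X b a c⁻¹) * m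
        = (X b a t * X b a c⁻¹) * w X b a (-c⁻¹) * (X b a c⁻¹ * m) := by group
      _ = X b a (t + c⁻¹) * w X b a (-c⁻¹) * (m * X (σ⁻¹ b) (σ⁻¹ a) s') := by
          rw [hX.add b a hne.symm, hs']
      _ = (X b a (t + c⁻¹) * (w X b a (-c⁻¹) * m)) * X (σ⁻¹ b) (σ⁻¹ a) s' := by group
      _ = (u * m' * u') * X (σ⁻¹ b) (σ⁻¹ a) s' := by rw [e]
      _ = u * m' * (u' * X (σ⁻¹ b) (σ⁻¹ a) s') := by group

end Cfsg.Agent.Lib.Helper66.StN
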