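import Mathlib

set_option autoImplicit false

/-!
# Thompson–Wielandt: cores inside subgroups and the counting part

`coreIn M X` is the core of `X` in `M`, as a subgroup of the ambient group.
-/

namespace Cfsg.Agent.Lib.Helper66.TW

open Subgroup

variable {G : Type*} [Group G]

/-- The core in `M` of `X` (largest subgroup of `X ⊓ M` normalized by `M`), in the ambient group. -/
def coreIn (M X : Subgroup G) : Subgroup G := ((X.subgroupOf M).normalCore).map M.subtype

theorem mem_coreIn {M X : Subgroup G} {x : G} :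
    x ∈ coreIn M X ↔ x ∈ M ∧ ∀ m ∈ M, m * x * m⁻¹ ∈ X := by
  unfold coreIn
  rw [Subgroup.mem_map]
  constructor
  · rintro ⟨y, hy, rfl⟩
    refine ⟨y.2, fun m hm => ?_⟩
    have := hy ⟨m, hm⟩
    rw [Subgroup.mem_subgroupOf] at this
    simpa using this
  · rintro ⟨hxM, h⟩
    refine ⟨⟨x, hxM⟩, ?_, rfl⟩
    intro m
    rw [Subgroup.mem_subgroupOf]
    simpa using h m m.2

theorem coreIn_le_left (M X : Subgroup G) : coreIn M X ≤ M := fun _ hx => (mem_coreIn.mp hx).1

theorem coreIn_le_right (M X : Subgroup G) : coreIn M X ≤ X := fun x hx => by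
  have := (mem_coreIn.mp hx).2 1 M.one_mem
  simpa using this

theorem coreIn_normalizer (M X : Subgroup G) :
    M ≤ Subgroup.normalizer ((coreIn M X : Subgroup G) : Set G) := by
  have key : ∀ m ∈ M, ∀ a ∈ coreIn M X, m * a * m⁻¹ ∈ coreIn M X := by
    intro m hm a ha
    rw [mem_coreIn] at ha ⊢
    refine ⟨M.mul_mem (M.mul_mem hm ha.1) (M.inv_mem hm), fun n hn => ?_⟩
    have := ha.2 (n * m) (M.mul_mem hn hm)
    have e : n * m * a * (n * m)⁻¹ = n * (m * a * m⁻¹) * n⁻¹ := by group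
    rwa [e] at this
  intro m hm
  rw [Subgroup.mem_normalizer_iff]
  intro a
  refine ⟨key m hm a, fun h => ?_⟩
  have := key m⁻¹ (M.inv_mem hm) _ h
  have e : m⁻¹ * (m * a * m⁻¹) * m⁻¹⁻¹ = a := by group
  rwa [e] at this

theorem le_coreIn {M X Y : Subgroup G} (hYM : Y ≤ M) (hYX : Y ≤ X)
    (hn : M ≤ Subgroup.normalizer (Y : Set G)) : Y ≤ coreIn M X := by
  intro y hy
  rw [mem_coreIn]
  refine ⟨hYM hy, fun m hm => hYX ?_⟩
  exact (Subgroup.mem_normalizer_iff.mp (hn hm) y).mp hy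

theorem coreIn_mono {M X Y : Subgroup G} (h : X ≤ Y) : coreIn M X ≤ coreIn M Y := by
  intro x hx
  rw [mem_coreIn] at hx ⊢
  exact ⟨hx.1, fun m hm => h (hx.2 m hm)⟩

theorem coreIn_subgroupOf (M X : Subgroup G) :
    (coreIn M X).subgroupOf M = (X.subgroupOf M).normalCore := by
  unfold coreIn
  ext x
  rw [Subgroup.mem_subgroupOf, Subgroup.mem_map]
  constructor
  · rintro ⟨y, hy, hyx⟩
    have : y = x := Subtype.ext hyx
    rwa [← this]
  · intro hx
    exact ⟨x, hx, rfl⟩

/-- `|M : core_M(X)|` divides `|M : X|!`. -/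
theorem relIndex_coreIn_dvd [Finite G] (M X : Subgroup G) :
    (coreIn M X).relIndex M ∣ (X.relIndex M).factorial := by
  unfold Subgroup.relIndex
  rw [coreIn_subgroupOf, Subgroup.normalCore_eq_ker, Subgroup.index_ker]
  have h1 : Nat.card ↥(MulAction.toPermHom ↥M (↥M ⧸ X.subgroupOf M)).range ∣
      Nat.card (Equiv.Perm (↥M ⧸ X.subgroupOf M)) := Subgroup.card_subgroup_dvd_card _
  rw [Nat.card_perm] at h1
  exact h1

/-- The stabilizer of a point in the full symmetric group has order `(n - 1)!`. -/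
theorem card_stabilizer_perm {α : Type*} [Finite α] (a : α) :
    Nat.card (MulAction.stabilizer (Equiv.Perm α) a) = (Nat.card α - 1).factorial := by
  classical
  have h1 := Subgroup.card_mul_index (MulAction.stabilizer (Equiv.Perm α) a)
  rw [MulAction.index_stabilizer, MulAction.orbit_eq_univ, Set.ncard_univ, Nat.card_perm] at h1
  have hpos : 0 < Nat.card α := Nat.card_pos_iff.mpr ⟨⟨a⟩, inferInstance⟩
  obtain ⟨n, hn⟩ : ∃ n, Nat.card α = n + 1 := ⟨Nat.card α - 1, by omega⟩
  rw [hn] at h1 ⊢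
  rw [Nat.factorial_succ, mul_comm] at h1
  simpa using Nat.eq_of_mul_eq_mul_left (Nat.succ_pos n) h1

/-- If `X ≤ Y ≤ M` then `|X : X ∩ core_M(Y)|` divides `(|M : Y| - 1)!`. -/
theorem relIndex_inf_coreIn_dvd [Finite G] {M X Y : Subgroup G} (hXY : X ≤ Y) (hYM : Y ≤ M) :
    (X ⊓ coreIn M Y).relIndex X ∣ (Y.relIndex M - 1).factorial := by
  classical
  have hXM : X ≤ M := hXY.trans hYM
  let Q := ↥M ⧸ Y.subgroupOf M
  let φ : ↥X →* Equiv.Perm Q := (MulAction.toPermHom ↥M Q).comp (Subgroup.inclusion hXM)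
  let q₀ : Q := ((1 : ↥M) : Q)
  have hker : φ.ker = (X ⊓ coreIn M Y).subgroupOf X := by
    ext x
    rw [MonoidHom.mem_ker, Subgroup.mem_subgroupOf, Subgroup.mem_inf]
    have h1 : φ x = 1 ↔ Subgroup.inclusion hXM x ∈ (MulAction.toPermHom ↥M Q).ker := by
      rw [MonoidHom.mem_ker]; rfl
    rw [h1, ← Subgroup.normalCore_eq_ker, ← coreIn_subgroupOf, Subgroup.mem_subgroupOf]
    constructor
    · intro h
      exact ⟨x.2, h⟩
    · intro h
      exact h.2
  have hrange : φ.range ≤ MulAction.stabilizer (Equiv.Perm Q) q₀ := by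
    rintro _ ⟨x, rfl⟩
    rw [MulAction.mem_stabilizer_iff]
    show (Subgroup.inclusion hXM x) • q₀ = q₀
    show (Subgroup.inclusion hXM x) • ((1 : ↥M) : Q) = ((1 : ↥M) : Q)
    rw [MulAction.Quotient.smul_mk, QuotientGroup.eq, Subgroup.mem_subgroupOf]
    simp only [mul_one, Subgroup.coe_inv, Subgroup.coe_inclusion, smul_eq_mul]
    exact Y.inv_mem (hXY x.2)
  have h2 : Nat.card ↥φ.range ∣ Nat.card (MulAction.stabilizer (Equiv.Perm Q) q₀) :=
    Subgroup.card_dvd_of_le hrange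
  rw [card_stabilizer_perm] at h2
  unfold Subgroup.relIndex
  rw [← hker, Subgroup.index_ker]
  exact h2

/-- `|A : X ∩ Y|` divides `|A : X| * |A : Y|` when `A` normalizes `X`. -/
theorem relIndex_inf_dvd_mul {A X Y : Subgroup G}
    (hX : A ≤ Subgroup.normalizer (X : Set G)) :
    (X ⊓ Y).relIndex A ∣ X.relIndex A * Y.relIndex A := by
  have hn : (X.subgroupOf A).Normal := Subgroup.normal_subgroupOf_of_le_normalizer hX
  have e : (X ⊓ Y).subgroupOf A = X.subgroupOf A ⊓ Y.subgroupOf A := by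
    ext x
    simp [Subgroup.mem_subgroupOf]
  unfold Subgroup.relIndex
  rw [e, ← Subgroup.relIndex_mul_index (inf_le_right : X.subgroupOf A ⊓ Y.subgroupOf A ≤ Y.subgroupOf A),
    Subgroup.inf_relIndex_right]
  exact Nat.mul_dvd_mul_right (Subgroup.relIndex_dvd_index_of_normal _ _) _

/-- A finite intersection of subgroups normalized by `A`, each of index dividing `m` in `A`,
has index in `A` dividing a power of `m`. -/
theorem relIndex_iInf_dvd_pow {ι : Type*} [Finite ι] (N : ι → Subgroup G) (A : Subgroup G) (m : ℕ)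
    (hn : ∀ i, A ≤ Subgroup.normalizer ((N i : Subgroup G) : Set G))
    (hm : ∀ i, (N i).relIndex A ∣ m) :
    (⨅ i, N i).relIndex A ∣ m ^ Nat.card ι := by
  classical
  have : Fintype ι := Fintype.ofFinite ι
  have key : ∀ s : Finset ι, (⨅ i ∈ s, N i).relIndex A ∣ m ^ s.card := by
    intro s
    induction s using Finset.induction_on with
    | empty => simp
    | insert a s ha ih =>
      rw [Finset.iInf_insert, Finset.card_insert_of_notMem ha, pow_succ, mul_comm]
      exact (relIndex_inf_dvd_mul (hn a)).trans (Nat.mul_dvd_mul (hm a) ih)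
  have := key Finset.univ
  simpa [Nat.card_eq_fintype_card] using this

theorem conj_mem_of_mem_normalizer {A : Subgroup G} {h a : G}
    (hh : h ∈ Subgroup.normalizer (A : Set G)) (ha : a ∈ A) : h * a * h⁻¹ ∈ A :=
  (Subgroup.mem_normalizer_iff.mp hh a).mp ha

theorem conj_inv_mem_of_mem_normalizer {A : Subgroup G} {h a : G}
    (hh : h ∈ Subgroup.normalizer (A : Set G)) (ha : a ∈ A) : h⁻¹ * a * h ∈ A := by
  have := (Subgroup.mem_normalizer_iff.mp hh (h⁻¹ * a * h)).mpr
    (by have e : h * (h⁻¹ * a * h) * h⁻¹ = a := by group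
        rwa [e])
  exact this

/-- If `N ≤ A ≤ D ≤ H` with `A` normalized by `H` and `N` normalized by `D`, then
`|A : core_H(N)|` divides `|A : N| ^ |H : D|`. -/
theorem relIndex_coreIn_dvd_pow [Finite G] {N A D H : Subgroup G} (hNA : N ≤ A) (hAD : A ≤ D)
    (hDH : D ≤ H) (hHA : H ≤ Subgroup.normalizer (A : Set G))
    (hDN : D ≤ Subgroup.normalizer (N : Set G)) :
    (coreIn H N).relIndex A ∣ (N.relIndex A) ^ (D.relIndex H) := by
  classical
  let ι := ↥H ⧸ D.subgroupOf H
  let r : ι → G := fun q => ((Quotient.out q : ↥H) : G)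
  have hr : ∀ q, r q ∈ H := fun q => (Quotient.out q : ↥H).2
  let Nq : ι → Subgroup G := fun q => N.map (MulAut.conj (r q)).toMonoidHom
  have hNq : ∀ q x, x ∈ Nq q ↔ (r q)⁻¹ * x * r q ∈ N := by
    intro q x
    show x ∈ N.map (MulAut.conj (r q)).toMonoidHom ↔ _
    rw [Subgroup.mem_map]
    constructor
    · rintro ⟨n, hn, rfl⟩
      have e : (r q)⁻¹ * ((MulAut.conj (r q)).toMonoidHom n) * r q = n := by
        simp [MulAut.conj_apply, mul_assoc]
      rwa [e]
    · intro h
      exact ⟨_, h, by simp [MulAut.conj_apply, mul_assoc]⟩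
  have hcore : coreIn H N = ⨅ q, Nq q := by
    ext x
    rw [Subgroup.mem_iInf, mem_coreIn]
    constructor
    · rintro ⟨hxH, hx⟩ q
      rw [hNq]
      have := hx (r q)⁻¹ (H.inv_mem (hr q))
      rwa [inv_inv] at this
    · intro hx
      have hxH : x ∈ H := by
        have h1 := (hNq _ x).mp (hx ((1 : ↥H) : ι))
        have h2 : (r ((1 : ↥H) : ι))⁻¹ * x * r ((1 : ↥H) : ι) ∈ H := hDH (hAD (hNA h1))
        have h3 := H.mul_mem (H.mul_mem (hr ((1 : ↥H) : ι)) h2) (H.inv_mem (hr ((1 : ↥H) : ι)))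
        have e : r ((1 : ↥H) : ι) * ((r ((1 : ↥H) : ι))⁻¹ * x * r ((1 : ↥H) : ι)) *
            (r ((1 : ↥H) : ι))⁻¹ = x := by group
        rwa [e] at h3
      refine ⟨hxH, fun m hm => ?_⟩
      let q : ι := ((⟨m⁻¹, H.inv_mem hm⟩ : ↥H) : ι)
      have hq : ((Quotient.out q : ↥H) : ι) = ((⟨m⁻¹, H.inv_mem hm⟩ : ↥H) : ι) :=
        QuotientGroup.out_eq' q
      rw [QuotientGroup.eq, Subgroup.mem_subgroupOf] at hq
      have hd : (r q)⁻¹ * m⁻¹ ∈ D := by simpa using hq
      have h1 := (hNq q x).mp (hx q)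
      have h2 := conj_inv_mem_of_mem_normalizer (hDN hd) h1
      have e : ((r q)⁻¹ * m⁻¹)⁻¹ * ((r q)⁻¹ * x * r q) * ((r q)⁻¹ * m⁻¹) = m * x * m⁻¹ := by group
      rwa [e] at h2
  have hcard : Nat.card ι = D.relIndex H := rfl
  rw [hcore, ← hcard]
  apply relIndex_iInf_dvd_pow
  · intro q a ha
    rw [Subgroup.mem_normalizer_iff]
    have key : ∀ b ∈ A, ∀ x ∈ Nq q, b * x * b⁻¹ ∈ Nq q := by
      intro b hb x hx
      rw [hNq] at hx ⊢
      have hb' : (r q)⁻¹ * b * r q ∈ A := conj_inv_mem_of_mem_normalizer (hHA (hr q)) hb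
      have := conj_mem_of_mem_normalizer (hDN (hAD hb')) hx
      have e : (r q)⁻¹ * b * r q * ((r q)⁻¹ * x * r q) * ((r q)⁻¹ * b * r q)⁻¹ =
          (r q)⁻¹ * (b * x * b⁻¹) * r q := by group
      rwa [e] at this
    intro x
    refine ⟨key a ha x, fun h => ?_⟩
    have := key a⁻¹ (A.inv_mem ha) _ h
    have e : a⁻¹ * (a * x * a⁻¹) * a⁻¹⁻¹ = x := by group
    rwa [e] at this
  · intro q
    have hA : A.map (MulAut.conj (r q)).toMonoidHom = A :=
      (Subgroup.mem_normalizer_iff_map_conj_eq.mp (hHA (hr q)))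
    have := Subgroup.relIndex_map_map_of_injective (f := (MulAut.conj (r q)).toMonoidHom) N A
      (MulAut.conj (r q)).injective
    rw [hA] at this
    exact dvd_of_eq this

theorem le_normalizer_inf {D X Y : Subgroup G} (hX : D ≤ Subgroup.normalizer (X : Set G))
    (hY : D ≤ Subgroup.normalizer (Y : Set G)) :
    D ≤ Subgroup.normalizer ((X ⊓ Y : Subgroup G) : Set G) := by
  intro g hg
  have h₁ := hX hg
  have h₂ := hY hg
  rw [Subgroup.mem_normalizer_iff] at h₁ h₂ ⊢
  intro n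
  rw [Subgroup.mem_inf, Subgroup.mem_inf, h₁ n, h₂ n]

/-- **Counting part of Thompson–Wielandt.** If `|H : H ∩ K| = |K : H ∩ K| = d`, then with
`A = core_H(H ∩ K)`, `B = core_K(H ∩ K)` the subgroup `U = core_H(A ∩ B)` has index in `H` dividing
`d! ((d-1)!)^d`. -/
theorem count_main [Finite G] (H K : Subgroup G) (d : ℕ) (hH : (H ⊓ K).relIndex H = d)
    (hK : (H ⊓ K).relIndex K = d) :
    (coreIn H (coreIn H (H ⊓ K) ⊓ coreIn K (H ⊓ K))).relIndex H ∣
      Nat.factorial d * (Nat.factorial (d - 1)) ^ d := by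
  set D := H ⊓ K with hD
  set A := coreIn H D with hA
  set B := coreIn K D with hB
  set N := A ⊓ B with hN
  set U := coreIn H N with hU
  have hNA : N ≤ A := inf_le_left
  have hAD : A ≤ D := coreIn_le_right _ _
  have hDH : D ≤ H := inf_le_left
  have hDK : D ≤ K := inf_le_right
  have hUA : U ≤ A := (coreIn_le_right _ _).trans hNA
  have hAH : A ≤ H := coreIn_le_left _ _
  have h1 : A.relIndex H ∣ Nat.factorial d := by
    have := relIndex_coreIn_dvd H D
    rwa [hH] at this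
  have h2 : N.relIndex A ∣ Nat.factorial (d - 1) := by
    have := relIndex_inf_coreIn_dvd (M := K) (X := A) (Y := D) hAD hDK
    rwa [hK] at this
  have hDN : D ≤ Subgroup.normalizer (N : Set G) :=
    le_normalizer_inf (hDH.trans (coreIn_normalizer H D)) (hDK.trans (coreIn_normalizer K D))
  have h3 : U.relIndex A ∣ (N.relIndex A) ^ (D.relIndex H) :=
    relIndex_coreIn_dvd_pow hNA hAD hDH (coreIn_normalizer H D) hDN
  rw [hH] at h3
  have h4 : U.relIndex A ∣ (Nat.factorial (d - 1)) ^ d := h3.trans (pow_dvd_pow_of_dvd h2 d)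
  rw [← Subgroup.relIndex_mul_relIndex U A H hUA hAH, mul_comm]
  exact Nat.mul_dvd_mul h1 h4

end Cfsg.Agent.Lib.Helper66.TW
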