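import Cfsg.Agent.Lib.Helper66.TWThompson

set_option autoImplicit false

/-!
# Thompson–Wielandt: the Fitting subgroup of the two-point stabilizer
-/

namespace Cfsg.Agent.Lib.Helper66.TW

open Subgroup
open scoped commutatorElement
open Cfsg.Agent.Lib.Helper67
open Cfsg.Agent.Lib.Helper02

variable {G : Type*} [Group G]

theorem card_opIn_map_conj [Finite G] (p : ℕ) (g : G) (M : Subgroup G) :
    Nat.card ↥(opIn p (M.map (MulAut.conj g).toMonoidHom)) = Nat.card ↥(opIn p M) := by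
  have hinj : ∀ (h : G) (S : Subgroup G),
      Nat.card ↥(S.map (MulAut.conj h).toMonoidHom) = Nat.card ↥S := fun h S =>
    Nat.card_congr (S.equivMapOfInjective _ (MulAut.conj h).injective).toEquiv.symm
  have h2 : Nat.card ↥(opIn p (M.map (MulAut.conj g).toMonoidHom)) ≤ Nat.card ↥(opIn p M) := by
    rw [← hinj g (opIn p M)]
    exact Subgroup.card_le_of_le (opIn_map_conj_le p g M)
  have h1 : Nat.card ↥(opIn p M) ≤ Nat.card ↥(opIn p (M.map (MulAut.conj g).toMonoidHom)) := by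
    have := opIn_map_conj_le p g⁻¹ (M.map (MulAut.conj g).toMonoidHom)
    rw [map_conj_inv_map_conj] at this
    rw [← hinj g⁻¹ (opIn p (M.map (MulAut.conj g).toMonoidHom))]
    exact Subgroup.card_le_of_le this
  exact le_antisymm h2 h1

/-- If the two-point stabilizer `D = H ∩ K` induces on `H / D` a group without nontrivial normal
`q`-subgroups, then `O_q(D) = 1`. -/
theorem opIn_inf_eq_bot [Finite G] {q : ℕ} [hq : Fact q.Prime] {H K : Subgroup G} (g : G)
    (hconj : K = H.map (MulAut.conj g).toMonoidHom) (hne : H ≠ K)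
    (hH : NormHyp H) (hK : NormHyp K)
    (hq' : ∀ X : Subgroup G, X ≤ H ⊓ K → H ⊓ K ≤ Subgroup.normalizer (X : Set G) → IsPGroup q ↥X →
      X ≤ coreIn H (H ⊓ K)) :
    opIn q (H ⊓ K) = ⊥ := by
  classical
  set D := H ⊓ K with hD
  set A := coreIn H D with hA
  set Q := opIn q D with hQ
  have hDH : D ≤ H := inf_le_left
  have hDK : D ≤ K := inf_le_right
  have hAD : A ≤ D := coreIn_le_right _ _
  have hAH : A ≤ H := coreIn_le_left _ _
  have hAn : H ≤ Subgroup.normalizer (A : Set G) := coreIn_normalizer H D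
  have hQA : Q ≤ A := hq' Q (opIn_le q D) (opIn_normalizer q D) (opIn_isPGroup q D)
  have hQeq : Q = opIn q A := by
    apply le_antisymm
    · exact le_opIn hQA (hAD.trans (opIn_normalizer q D)) (opIn_isPGroup q D)
    · exact le_opIn ((opIn_le q A).trans hAD)
        ((hDH.trans hAn).trans (normalizer_le_normalizer_opIn q A)) (opIn_isPGroup q A)
  have hQn : H ≤ Subgroup.normalizer (Q : Set G) := by
    rw [hQeq]; exact hAn.trans (normalizer_le_normalizer_opIn q A)
  have hQH : Q ≤ H := hQA.trans hAH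
  have hQK : Q ≤ K := (opIn_le q D).trans hDK
  by_contra hQne
  have hNQ : Subgroup.normalizer (Q : Set G) ≤ H := hH Q hQne hQH hQn
  -- `O_q(K) ∩ H ≤ Q`
  have h3 : opIn q K ⊓ H ≤ Q := by
    refine le_opIn (le_inf inf_le_right (inf_le_left.trans (opIn_le q K))) ?_
      ((opIn_isPGroup q K).to_le inf_le_left)
    exact le_normalizer_inf (hDK.trans (opIn_normalizer q K)) (hDH.trans Subgroup.le_normalizer)
  -- `T = Q O_q(K)` is a `q`-group in which `Q` is self-normalizing
  have hQnK : Q ≤ Subgroup.normalizer ((opIn q K : Subgroup G) : Set G) :=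
    hQK.trans (opIn_normalizer q K)
  have hT : IsPGroup q ↥(Q ⊔ opIn q K) :=
    IsPGroup.to_sup_of_normal_right' (opIn_isPGroup q D) (opIn_isPGroup q K) hQnK
  have hnil : Group.IsNilpotent ↥(Q ⊔ opIn q K) := hT.isNilpotent
  have hNC := Group.normalizerCondition_of_isNilpotent (G := ↥(Q ⊔ opIn q K))
  have htop : Q.subgroupOf (Q ⊔ opIn q K) = ⊤ := by
    by_contra hlt
    have hlt' : Q.subgroupOf (Q ⊔ opIn q K) < ⊤ := lt_top_iff_ne_top.mpr hlt
    have h4 := hNC _ hlt'
    obtain ⟨t, htN, htQ⟩ := SetLike.exists_of_lt h4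
    apply htQ
    rw [Subgroup.mem_subgroupOf]
    have htn : (t : G) ∈ Subgroup.normalizer (Q : Set G) := by
      rw [Subgroup.mem_normalizer_iff] at htN ⊢
      intro x
      constructor
      · intro hx
        have hx' : x ∈ Q ⊔ opIn q K := (le_sup_left : Q ≤ Q ⊔ opIn q K) hx
        have := (htN ⟨x, hx'⟩).mp (Subgroup.mem_subgroupOf.mpr hx)
        exact Subgroup.mem_subgroupOf.mp this
      · intro hx
        have hx' : x ∈ Q ⊔ opIn q K := by
          have h5 := (Q ⊔ opIn q K).mul_mem ((Q ⊔ opIn q K).mul_mem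
            ((Q ⊔ opIn q K).inv_mem t.2) ((le_sup_left : Q ≤ Q ⊔ opIn q K) hx)) t.2
          have e : (t : G)⁻¹ * ((t : G) * x * (t : G)⁻¹) * (t : G) = x := by group
          rwa [e] at h5
        have := (htN ⟨x, hx'⟩).mpr (Subgroup.mem_subgroupOf.mpr hx)
        exact Subgroup.mem_subgroupOf.mp this
    have htH : (t : G) ∈ H := hNQ htn
    obtain ⟨a, ha, b, hb, hab⟩ :=
      (Cfsg.Agent.Lib.Helper30.mem_sup_of_le_normalizer hQnK).mp t.2
    have hbH : b ∈ H := by
      have : b = a⁻¹ * (t : G) := by rw [← hab]; group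
      rw [this]
      exact H.mul_mem (H.inv_mem (hQH ha)) htH
    rw [← hab]
    exact Q.mul_mem ha (h3 ⟨hb, hbH⟩)
  have hKQ : opIn q K ≤ Q := by
    intro x hx
    have hx' : x ∈ Q ⊔ opIn q K := (le_sup_right : opIn q K ≤ Q ⊔ opIn q K) hx
    have : (⟨x, hx'⟩ : ↥(Q ⊔ opIn q K)) ∈ Q.subgroupOf (Q ⊔ opIn q K) := by
      rw [htop]; exact Subgroup.mem_top _
    exact Subgroup.mem_subgroupOf.mp this
  have hQQH : Q ≤ opIn q H := le_opIn hQH hQn (opIn_isPGroup q D)
  have hle : opIn q K ≤ opIn q H := hKQ.trans hQQH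
  have hcard : Nat.card ↥(opIn q K) = Nat.card ↥(opIn q H) := by
    rw [hconj]; exact card_opIn_map_conj q g H
  have heq : opIn q K = opIn q H := Subgroup.eq_of_le_of_card_ge hle hcard.ge
  have hbot : opIn q H = ⊥ :=
    eq_bot_of_common hH hK hne (opIn_le q H) (heq ▸ opIn_le q K) (opIn_normalizer q H)
      (heq ▸ opIn_normalizer q K)
  exact hQne (le_bot_iff.mp (hbot ▸ hQQH))

/-- If all `O_q(D)` are trivial then so is the Fitting subgroup of `D`. -/
theorem fitting_eq_bot_of_opIn [Finite G] {D : Subgroup G}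
    (h : ∀ q : ℕ, q.Prime → opIn q D = ⊥) : Cfsg.fittingSubgroup ↥D = ⊥ := by
  rw [Cfsg.Agent.Lib.Helper76.fittingSubgroup_eq_pCoreJoin]
  unfold Cfsg.Agent.Lib.Helper76.pCoreJoin
  rw [iSup_eq_bot]
  intro q
  exact (Subgroup.map_eq_bot_iff_of_injective _ D.subtype_injective).mp
    (h q (Nat.prime_of_mem_primeFactors q.2))

/-- If `H` has characteristic `p` and a subgroup `A` normalized by `H` has `O_p(A) = 1`,
then `A = 1`. -/
theorem eq_bot_of_charP_of_opIn_eq_bot [Finite G] {p : ℕ} [Fact p.Prime] {H A : Subgroup G}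
    (hc : ∀ k ∈ H, (∀ y ∈ opIn p H, Commute k y) → k ∈ opIn p H)
    (hAH : A ≤ H) (hAn : H ≤ Subgroup.normalizer (A : Set G)) (hA : opIn p A = ⊥) : A = ⊥ := by
  have h1 : opIn p H ⊓ A ≤ opIn p A := by
    refine le_opIn inf_le_right ?_ ((opIn_isPGroup p H).to_le inf_le_left)
    exact le_normalizer_inf (hAH.trans (opIn_normalizer p H)) Subgroup.le_normalizer
  have hdisj : Disjoint A (opIn p H) := by
    rw [disjoint_iff, inf_comm, eq_bot_iff, ← hA]
    exact h1
  rw [eq_bot_iff]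
  intro a ha
  have hcomm : ∀ y ∈ opIn p H, Commute a y := fun y hy =>
    commute_of_normalizing_disjoint (A := A) (B := opIn p H) (hAH.trans (opIn_normalizer p H))
      ((opIn_le p H).trans hAn) hdisj ha hy
  have h2 : a ∈ opIn p H := hc a (hAH ha) hcomm
  have h3 : a ∈ opIn p A := h1 ⟨h2, ha⟩
  rwa [hA] at h3

/-- Second part of the Fitting statement: if all `O_q(H ∩ K)` are trivial, then one of the second
cores is trivial. -/
theorem second_core_eq_bot_of_opIn [Finite G] {H K : Subgroup G} (g : G)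
    (hconj : K = H.map (MulAut.conj g).toMonoidHom) (hne : H ≠ K)
    (hH : NormHyp H) (hK : NormHyp K) (h : ∀ q : ℕ, q.Prime → opIn q (H ⊓ K) = ⊥) :
    coreIn H (coreIn H (H ⊓ K) ⊓ coreIn K (H ⊓ K)) = ⊥ ∨
      coreIn K (coreIn H (H ⊓ K) ⊓ coreIn K (H ⊓ K)) = ⊥ := by
  by_contra hcon
  push Not at hcon
  obtain ⟨hU, hV⟩ := hcon
  obtain ⟨p, hp, hc, _⟩ := thompson_main g hconj hne hH hK hU hV
  have : Fact p.Prime := ⟨hp⟩
  have hAD : coreIn H (H ⊓ K) ≤ H ⊓ K := coreIn_le_right _ _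
  have hAn : H ≤ Subgroup.normalizer ((coreIn H (H ⊓ K) : Subgroup G) : Set G) :=
    coreIn_normalizer H (H ⊓ K)
  have hA0 : opIn p (coreIn H (H ⊓ K)) = ⊥ := by
    have := opIn_le_opIn (p := p) hAD (inf_le_left.trans hAn)
    rw [h p hp] at this
    exact le_bot_iff.mp this
  have hA : coreIn H (H ⊓ K) = ⊥ :=
    eq_bot_of_charP_of_opIn_eq_bot hc (coreIn_le_left _ _) hAn hA0
  apply hU
  rw [eq_bot_iff, ← hA]
  exact (coreIn_le_right _ _).trans inf_le_left

end Cfsg.Agent.Lib.Helper66.TW
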