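import Cfsg.Agent.Lib.Helper66.TWThompson

set_option autoImplicit false

/-!
# Thompson–Wielandt: from a primitive permutation group to a pair of subgroups
-/

namespace Cfsg.Agent.Lib.Helper66.TW

open Subgroup

variable {G Ω : Type*} [Group G] [MulAction G Ω]

/-- In a faithful primitive group on a nontrivial set, point stabilizers satisfy `NormHyp`. -/
theorem normHyp_stabilizer [FaithfulSMul G Ω] [Nontrivial Ω]
    (hprim : MulAction.IsPreprimitive G Ω) (a : Ω) : NormHyp (MulAction.stabilizer G a) := by
  have htr : MulAction.IsPretransitive G Ω := hprim.toIsPretransitive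
  have hco : IsCoatom (MulAction.stabilizer G a) :=
    (MulAction.isCoatom_stabilizer_iff_preprimitive G a).mpr hprim
  intro X hX hXH hn
  rcases hco.le_iff.mp hn with h | h
  · exfalso
    apply hX
    rw [eq_bot_iff]
    intro x hx
    rw [Subgroup.mem_bot]
    apply FaithfulSMul.eq_of_smul_eq_smul (α := Ω)
    intro y
    obtain ⟨g, rfl⟩ := MulAction.exists_smul_eq G a y
    have hg : g⁻¹ ∈ Subgroup.normalizer (X : Set G) := by rw [h]; exact Subgroup.mem_top _
    have h1 : g⁻¹ * x * g⁻¹⁻¹ ∈ X := conj_mem_of_mem_normalizer hg hx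
    have h2 := MulAction.mem_stabilizer_iff.mp (hXH h1)
    rw [inv_inv, mul_smul, mul_smul] at h2
    rw [one_smul]
    have := congrArg (fun z => g • z) h2
    simpa using this
  · exact h.le

theorem card_stabilizer_eq [Finite G] [MulAction.IsPretransitive G Ω] (a b : Ω) :
    Nat.card (MulAction.stabilizer G a) = Nat.card (MulAction.stabilizer G b) := by
  obtain ⟨g, rfl⟩ := MulAction.exists_smul_eq G a b
  rw [MulAction.stabilizer_smul_eq_stabilizer_map_conj]
  exact Nat.card_congr ((MulAction.stabilizer G a).equivMapOfInjective _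
    (MulAut.conj g).injective).toEquiv

theorem relIndex_stabilizer (a b : Ω) :
    (MulAction.stabilizer G a ⊓ MulAction.stabilizer G b).relIndex (MulAction.stabilizer G a) =
      Nat.card (MulAction.orbit (MulAction.stabilizer G a) b) := by
  rw [Subgroup.inf_relIndex_left]
  have e : (MulAction.stabilizer G b).subgroupOf (MulAction.stabilizer G a) =
      MulAction.stabilizer (MulAction.stabilizer G a) b := by
    ext x
    rw [Subgroup.mem_subgroupOf, MulAction.mem_stabilizer_iff, MulAction.mem_stabilizer_iff]
    rfl
  unfold Subgroup.relIndex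
  rw [e, MulAction.index_stabilizer]
  exact (Nat.card_coe_set_eq _).symm

theorem card_mul_relIndex {D H : Subgroup G} (h : D ≤ H) :
    Nat.card D * D.relIndex H = Nat.card H := by
  have := Subgroup.relIndex_mul_relIndex ⊥ D H bot_le h
  rwa [Subgroup.relIndex_bot_left, Subgroup.relIndex_bot_left] at this

/-- The set-up of the Thompson–Wielandt theorem from a primitive permutation group. -/
theorem perm_setup [Finite G] [FaithfulSMul G Ω]
    (hprim : MulAction.IsPreprimitive G Ω) (a b : Ω) (d : ℕ)
    (hd : Nat.card (MulAction.orbit (MulAction.stabilizer G a) b) = d) (h2 : 2 ≤ d) :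
    NormHyp (MulAction.stabilizer G a) ∧ NormHyp (MulAction.stabilizer G b) ∧
      MulAction.stabilizer G a ≠ MulAction.stabilizer G b ∧
      (∃ g : G, MulAction.stabilizer G b =
        (MulAction.stabilizer G a).map (MulAut.conj g).toMonoidHom) ∧
      (MulAction.stabilizer G a ⊓ MulAction.stabilizer G b).relIndex (MulAction.stabilizer G a) = d ∧
      (MulAction.stabilizer G a ⊓ MulAction.stabilizer G b).relIndex (MulAction.stabilizer G b) = d ∧
      Nat.card (MulAction.stabilizer G a) = Nat.card (MulAction.stabilizer G b) := by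
  have htr : MulAction.IsPretransitive G Ω := hprim.toIsPretransitive
  have hfin : Finite (MulAction.orbit (MulAction.stabilizer G a) b) := by
    apply Nat.finite_of_card_ne_zero
    omega
  have hnt : Nontrivial (MulAction.orbit (MulAction.stabilizer G a) b) :=
    Finite.one_lt_card_iff_nontrivial.mp (by omega)
  have hΩ : Nontrivial Ω := by
    obtain ⟨x, y, hxy⟩ := hnt
    exact ⟨⟨x.1, y.1, fun h => hxy (Subtype.ext h)⟩⟩
  have hne : MulAction.stabilizer G a ≠ MulAction.stabilizer G b := by
    intro h
    have hsub : Subsingleton (MulAction.orbit (MulAction.stabilizer G a) b) := by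
      constructor
      rintro ⟨x, hx⟩ ⟨y, hy⟩
      apply Subtype.ext
      obtain ⟨k, rfl⟩ := MulAction.mem_orbit_iff.mp hx
      obtain ⟨l, rfl⟩ := MulAction.mem_orbit_iff.mp hy
      have hk : (k : G) ∈ MulAction.stabilizer G b := h ▸ k.2
      have hl : (l : G) ∈ MulAction.stabilizer G b := h ▸ l.2
      show (k : G) • b = (l : G) • b
      rw [MulAction.mem_stabilizer_iff.mp hk, MulAction.mem_stabilizer_iff.mp hl]
    have := Finite.card_le_one_iff_subsingleton.mpr hsub
    omega
  have hcard := card_stabilizer_eq (G := G) a b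
  have hrH := (relIndex_stabilizer (G := G) a b).trans hd
  refine ⟨normHyp_stabilizer hprim a, normHyp_stabilizer hprim b, hne, ?_, hrH, ?_, hcard⟩
  · obtain ⟨g, hg⟩ := MulAction.exists_smul_eq G a b
    exact ⟨g, by rw [← hg, MulAction.stabilizer_smul_eq_stabilizer_map_conj]⟩
  · have h1 := card_mul_relIndex (inf_le_left :
      MulAction.stabilizer G a ⊓ MulAction.stabilizer G b ≤ MulAction.stabilizer G a)
    have h3 := card_mul_relIndex (inf_le_right :
      MulAction.stabilizer G a ⊓ MulAction.stabilizer G b ≤ MulAction.stabilizer G b)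
    rw [hrH] at h1
    rw [← hcard, ← h1] at h3
    have hpos : 0 < Nat.card ↥(MulAction.stabilizer G a ⊓ MulAction.stabilizer G b) :=
      Nat.card_pos
    exact Nat.eq_of_mul_eq_mul_left hpos h3

end Cfsg.Agent.Lib.Helper66.TW
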