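import Cfsg.Agent.Lib.Helper66.TWPerm
import Cfsg.Agent.Lib.Helper66.TWFitting

set_option autoImplicit false

/-!
# Thompson–Wielandt: translating the hypothesis on the induced group of the two-point stabilizer
-/

namespace Cfsg.Agent.Lib.Helper66.TW

open Subgroup

variable {G Ω : Type*} [Group G] [MulAction G Ω]

/-- The kernel of the stabilizer `H` of `a` on the `H`-orbit of `b` lies in `core_H(H ∩ G_b)`. -/
theorem ker_toPermHom_le_coreIn (a b : Ω) (h : ↥(MulAction.stabilizer G a))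
    (hh : MulAction.toPermHom (MulAction.stabilizer G a)
      (MulAction.orbit (MulAction.stabilizer G a) b) h = 1) :
    (h : G) ∈ coreIn (MulAction.stabilizer G a)
      (MulAction.stabilizer G a ⊓ MulAction.stabilizer G b) := by
  rw [mem_coreIn]
  refine ⟨h.2, fun m hm => ⟨?_, ?_⟩⟩
  · exact (MulAction.stabilizer G a).mul_mem ((MulAction.stabilizer G a).mul_mem hm h.2)
      ((MulAction.stabilizer G a).inv_mem hm)
  · show m * (h : G) * m⁻¹ ∈ MulAction.stabilizer G b
    rw [MulAction.mem_stabilizer_iff]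
    let m' : ↥(MulAction.stabilizer G a) := ⟨m, hm⟩
    have ho : m'⁻¹ • b ∈ MulAction.orbit (MulAction.stabilizer G a) b :=
      MulAction.mem_orbit _ _
    have h1 : (MulAction.toPermHom (MulAction.stabilizer G a)
      (MulAction.orbit (MulAction.stabilizer G a) b) h) ⟨m'⁻¹ • b, ho⟩ = ⟨m'⁻¹ • b, ho⟩ := by
      rw [hh]; rfl
    have h2 : h • (m'⁻¹ • b) = m'⁻¹ • b := by
      have := congrArg Subtype.val h1
      simpa using this
    have h3 : (h : G) • ((m : G)⁻¹ • b) = (m : G)⁻¹ • b := h2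
    rw [mul_smul, mul_smul, h3, smul_inv_smul]

/-- Translation of the hypothesis "the group induced by `H ∩ G_b` on the orbit of `b` has trivial
Fitting subgroup". -/
theorem core_of_fitting_eq_bot [Finite G] [Finite Ω] (a b : Ω)
    (hF : Cfsg.fittingSubgroup ↥(((MulAction.stabilizer G b).subgroupOf
      (MulAction.stabilizer G a)).map (MulAction.toPermHom (MulAction.stabilizer G a)
        (MulAction.orbit (MulAction.stabilizer G a) b))) = ⊥)
    (q : ℕ) [Fact q.Prime] (X : Subgroup G)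
    (hXD : X ≤ MulAction.stabilizer G a ⊓ MulAction.stabilizer G b)
    (hXn : MulAction.stabilizer G a ⊓ MulAction.stabilizer G b ≤ Subgroup.normalizer (X : Set G))
    (hXq : IsPGroup q ↥X) :
    X ≤ coreIn (MulAction.stabilizer G a)
      (MulAction.stabilizer G a ⊓ MulAction.stabilizer G b) := by
  classical
  set H := MulAction.stabilizer G a with hH
  set K := MulAction.stabilizer G b with hK
  set φ := MulAction.toPermHom ↥H (MulAction.orbit ↥H b) with hφ
  set Im := (K.subgroupOf H).map φ with hIm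
  have hXH : X ≤ H := hXD.trans inf_le_left
  have hXK : X ≤ K := hXD.trans inf_le_right
  have hX''Im : (X.subgroupOf H).map φ ≤ Im :=
    Subgroup.map_mono (fun x hx => Subgroup.mem_subgroupOf.mpr (hXK (Subgroup.mem_subgroupOf.mp hx)))
  -- the image of `X` in `Im` is a normal nilpotent subgroup
  have hYn : (((X.subgroupOf H).map φ).subgroupOf Im).Normal := by
    refine ⟨fun y hy i => ?_⟩
    rw [Subgroup.mem_subgroupOf] at hy ⊢
    obtain ⟨x, hx, hxy⟩ := hy
    obtain ⟨k, hk, hki⟩ := i.2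
    have hkD : (k : G) ∈ H ⊓ K := ⟨k.2, Subgroup.mem_subgroupOf.mp hk⟩
    refine ⟨k * x * k⁻¹, ?_, ?_⟩
    · have hx' : x ∈ X.subgroupOf H := hx
      show k * x * k⁻¹ ∈ X.subgroupOf H
      rw [Subgroup.mem_subgroupOf] at hx' ⊢
      exact conj_mem_of_mem_normalizer (hXn hkD) hx'
    · rw [map_mul, map_mul, map_inv, hxy, hki]
      rfl
  have hYq : IsPGroup q ↥(((X.subgroupOf H).map φ).subgroupOf Im) :=
    ((hXq.comap_subtype).map φ).comap_subtype
  have hYnil : Group.IsNilpotent ↥(((X.subgroupOf H).map φ).subgroupOf Im) := hYq.isNilpotent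
  have hY : ((X.subgroupOf H).map φ).subgroupOf Im ≤ Cfsg.fittingSubgroup ↥Im :=
    le_sSup ⟨hYn, hYnil⟩
  rw [hF] at hY
  intro x hx
  have hxH : x ∈ H := hXH hx
  have h1 : φ ⟨x, hxH⟩ ∈ (X.subgroupOf H).map φ :=
    Subgroup.mem_map_of_mem _ (Subgroup.mem_subgroupOf.mpr hx)
  have h2 : (⟨φ ⟨x, hxH⟩, hX''Im h1⟩ : ↥Im) ∈ ((X.subgroupOf H).map φ).subgroupOf Im :=
    Subgroup.mem_subgroupOf.mpr h1
  have h3 := hY h2
  rw [Subgroup.mem_bot] at h3
  have h4 : φ ⟨x, hxH⟩ = 1 := congrArg Subtype.val h3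
  exact ker_toPermHom_le_coreIn a b ⟨x, hxH⟩ h4

end Cfsg.Agent.Lib.Helper66.TW
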