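import Cfsg.Agent.Lib.Helper67.Bender
import Cfsg.Agent.Lib.Helper56.AxB
import Cfsg.Agent.Lib.Helper56.CharPFStar
import Cfsg.Agent.Lib.Helper56.CharPIso
import Cfsg.Agent.Lib.Helper30.Layer
import Cfsg.Agent.Lib.Helper28.FStarP
import Cfsg.Agent.Lib.Helper02.RelSubnormal
import Cfsg.Agent.Lib.Helper66.TWCount

set_option autoImplicit false

/-!
# Thompson–Wielandt: the Thompson part

For a pair `H`, `K = H^g ≠ H` of subgroups such that `N_G(X) ≤ H` for every nontrivial subgroup `X`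
normalized by `H` (and similarly for `K`), if both second cores `U = core_H(A ∩ B)` and
`V = core_K(A ∩ B)` are nontrivial then `F*(H) = O_p(H)` for some prime `p`.
-/

namespace Cfsg.Agent.Lib.Helper66.TW

open Subgroup
open scoped commutatorElement
open Cfsg.Agent.Lib.Helper67
open Cfsg.Agent.Lib.Helper02

variable {G : Type*} [Group G]

/-- Conjugation by an element of `N_G(M)` as an automorphism of `M`. -/
def conjEquiv (M : Subgroup G) (g : G) (hg : g ∈ Subgroup.normalizer (M : Set G)) : ↥M ≃* ↥M where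
  toFun x := ⟨g * x * g⁻¹, conj_mem_of_mem_normalizer hg x.2⟩
  invFun x := ⟨g⁻¹ * x * g, conj_inv_mem_of_mem_normalizer hg x.2⟩
  left_inv x := by
    apply Subtype.ext
    show g⁻¹ * (g * (x : G) * g⁻¹) * g = x
    group
  right_inv x := by
    apply Subtype.ext
    show g * (g⁻¹ * (x : G) * g) * g⁻¹ = x
    group
  map_mul' x y := by
    apply Subtype.ext
    show g * ((x : G) * y) * g⁻¹ = g * x * g⁻¹ * (g * y * g⁻¹)
    group

/-- The normalizer of `M` normalizes (the image of) every characteristic subgroup of `M`. -/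
theorem normalizer_le_normalizer_map_subtype (M : Subgroup G) (C : Subgroup ↥M)
    [hC : C.Characteristic] :
    Subgroup.normalizer (M : Set G) ≤
      Subgroup.normalizer ((C.map M.subtype : Subgroup G) : Set G) := by
  have key : ∀ g ∈ Subgroup.normalizer (M : Set G), ∀ a ∈ C.map M.subtype,
      g * a * g⁻¹ ∈ C.map M.subtype := by
    rintro g hg _ ⟨c, hc, rfl⟩
    have hinv := (Subgroup.normalizer (M : Set G)).inv_mem hg
    -- use the automorphism for `g⁻¹` instead
    have h3 : C.comap (conjEquiv M g⁻¹ hinv).toMonoidHom = C := hC.fixed _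
    have h4 : (⟨g * (c : G) * g⁻¹, conj_mem_of_mem_normalizer hg c.2⟩ : ↥M) ∈
        C.comap (conjEquiv M g⁻¹ hinv).toMonoidHom := by
      rw [Subgroup.mem_comap]
      have e : (conjEquiv M g⁻¹ hinv).toMonoidHom
          (⟨g * (c : G) * g⁻¹, conj_mem_of_mem_normalizer hg c.2⟩ : ↥M) = c := by
        apply Subtype.ext
        show g⁻¹ * (g * (c : G) * g⁻¹) * g⁻¹⁻¹ = c
        group
      rw [e]
      exact hc
    rw [h3] at h4
    exact ⟨_, h4, rfl⟩
  intro g hg
  rw [Subgroup.mem_normalizer_iff]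
  intro a
  refine ⟨key g hg a, fun h => ?_⟩
  have := key g⁻¹ ((Subgroup.normalizer (M : Set G)).inv_mem hg) _ h
  have e : g⁻¹ * (g * a * g⁻¹) * g⁻¹⁻¹ = a := by group
  rwa [e] at this

theorem normalizer_le_normalizer_opIn (p : ℕ) (M : Subgroup G) :
    Subgroup.normalizer (M : Set G) ≤ Subgroup.normalizer ((opIn p M : Subgroup G) : Set G) := by
  have : (Cfsg.pCore p ↥M).Characteristic := Cfsg.Agent.Lib.Helper28.pCore_characteristic p
  exact normalizer_le_normalizer_map_subtype M _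

theorem layer_char (X : Type*) [Group X] : (Cfsg.layer X).Characteristic :=
  Subgroup.characteristic_iff_map_eq.mpr fun ϕ => Cfsg.Agent.Lib.Helper30.layer_map_equiv ϕ

theorem normalizer_le_normalizer_layerIn (M : Subgroup G) :
    Subgroup.normalizer (M : Set G) ≤ Subgroup.normalizer ((layerIn M : Subgroup G) : Set G) := by
  have : (Cfsg.layer ↥M).Characteristic := layer_char _
  exact normalizer_le_normalizer_map_subtype M _

/-- `O_p(M) ≤ O_p(L)` when `M ≤ L` is normalized by `L`. -/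
theorem opIn_le_opIn {p : ℕ} {M L : Subgroup G} (hML : M ≤ L)
    (hn : L ≤ Subgroup.normalizer (M : Set G)) : opIn p M ≤ opIn p L :=
  le_opIn ((opIn_le p M).trans hML) (hn.trans (normalizer_le_normalizer_opIn p M))
    (opIn_isPGroup p M)

/-- `O_p(M) ≤ O_p(L)` when `M` is subnormal in `L`. -/
theorem opIn_le_opIn_of_rsn {p : ℕ} {M L : Subgroup G} (h : RSn M L) : opIn p M ≤ opIn p L := by
  induction h with
  | refl => exact le_rfl
  | step M' L' _ hML hLN ih => exact ih.trans (opIn_le_opIn hML hLN)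

/-- Conjugation carries `O_p`: one inclusion. -/
theorem opIn_map_conj_le (p : ℕ) (g : G) (M : Subgroup G) :
    opIn p (M.map (MulAut.conj g).toMonoidHom) ≤ (opIn p M).map (MulAut.conj g).toMonoidHom := by
  set φ := (MulAut.conj g).toMonoidHom with hφ
  set ψ := (MulAut.conj g⁻¹).toMonoidHom with hψ
  have hψφ : ∀ x, ψ (φ x) = x := fun x => by simp [hφ, hψ, MulAut.conj_apply, mul_assoc]
  have hφψ : ∀ x, φ (ψ x) = x := fun x => by simp [hφ, hψ, MulAut.conj_apply, mul_assoc]
  set N := opIn p (M.map φ) with hN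
  have h1 : N.map ψ ≤ M := by
    rintro _ ⟨x, hx, rfl⟩
    obtain ⟨m, hm, hmx⟩ := (opIn_le p (M.map φ)) hx
    rw [← hmx, hψφ]
    exact hm
  have h2 : M ≤ Subgroup.normalizer ((N.map ψ : Subgroup G) : Set G) := by
    have key : ∀ m ∈ M, ∀ a ∈ N.map ψ, m * a * m⁻¹ ∈ N.map ψ := by
      rintro m hm _ ⟨x, hx, rfl⟩
      have hm' : φ m ∈ M.map φ := Subgroup.mem_map_of_mem _ hm
      have := conj_mem_of_mem_normalizer (opIn_normalizer p (M.map φ) hm') hx
      refine ⟨_, this, ?_⟩
      rw [map_mul, map_mul, map_inv, hψφ]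
    intro m hm
    rw [Subgroup.mem_normalizer_iff]
    intro a
    refine ⟨key m hm a, fun h => ?_⟩
    have := key m⁻¹ (M.inv_mem hm) _ h
    have e : m⁻¹ * (m * a * m⁻¹) * m⁻¹⁻¹ = a := by group
    rwa [e] at this
  have h3 : IsPGroup p ↥(N.map ψ) := (opIn_isPGroup p (M.map φ)).map _
  have h4 : N.map ψ ≤ opIn p M := le_opIn h1 h2 h3
  intro x hx
  exact ⟨ψ x, h4 (Subgroup.mem_map_of_mem _ hx), hφψ x⟩

/-- Conjugation carries the residual: one inclusion. -/
theorem resid_map_conj_le (p : ℕ) (g : G) (M : Subgroup G) :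
    (resid p M).map (MulAut.conj g).toMonoidHom ≤ resid p (M.map (MulAut.conj g).toMonoidHom) := by
  unfold resid
  rw [MonoidHom.map_closure, Subgroup.closure_le]
  rintro _ ⟨k, ⟨hkM, hkc, hko⟩, rfl⟩
  apply Subgroup.subset_closure
  refine ⟨Subgroup.mem_map_of_mem _ hkM, ?_, ?_⟩
  · intro y hy
    obtain ⟨y', hy', rfl⟩ := opIn_map_conj_le p g M hy
    exact (hkc y' hy').map (MulAut.conj g).toMonoidHom
  · have : orderOf ((MulAut.conj g).toMonoidHom k) = orderOf k := (MulAut.conj g).orderOf_eq k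
    rwa [this]

theorem card_resid_map_conj [Finite G] (p : ℕ) (g : G) (M : Subgroup G) :
    Nat.card ↥(resid p (M.map (MulAut.conj g).toMonoidHom)) = Nat.card ↥(resid p M) := by
  have hinj : ∀ (h : G) (S : Subgroup G),
      Nat.card ↥(S.map (MulAut.conj h).toMonoidHom) = Nat.card ↥S := fun h S =>
    Nat.card_congr (S.equivMapOfInjective _ (MulAut.conj h).injective).toEquiv.symm
  have h1 : Nat.card ↥(resid p M) ≤ Nat.card ↥(resid p (M.map (MulAut.conj g).toMonoidHom)) := by
    rw [← hinj g (resid p M)]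
    exact Subgroup.card_le_of_le (resid_map_conj_le p g M)
  have h2 : Nat.card ↥(resid p (M.map (MulAut.conj g).toMonoidHom)) ≤ Nat.card ↥(resid p M) := by
    have e : (M.map (MulAut.conj g).toMonoidHom).map (MulAut.conj g⁻¹).toMonoidHom = M := by
      rw [Subgroup.map_map]
      have : (MulAut.conj g⁻¹).toMonoidHom.comp (MulAut.conj g).toMonoidHom = MonoidHom.id G := by
        ext x
        simp [MulAut.conj_apply, mul_assoc]
      rw [this, Subgroup.map_id]
    have := resid_map_conj_le p g⁻¹ (M.map (MulAut.conj g).toMonoidHom)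
    rw [e] at this
    rw [← hinj g⁻¹ (resid p (M.map (MulAut.conj g).toMonoidHom))]
    exact Subgroup.card_le_of_le this
  exact le_antisymm h2 h1

theorem pow_conj_eq {k a z : G} (hkz : Commute k z) (h : k * a * k⁻¹ = z * a) (n : ℕ) :
    k ^ n * a * (k ^ n)⁻¹ = z ^ n * a := by
  induction n with
  | zero => simp
  | succ n ih =>
    have e : k ^ (n + 1) * a * (k ^ (n + 1))⁻¹ = k * (k ^ n * a * (k ^ n)⁻¹) * k⁻¹ := by
      rw [pow_succ']; group
    rw [e, ih]
    have e2 : k * (z ^ n * a) * k⁻¹ = (k * z ^ n * k⁻¹) * (k * a * k⁻¹) := by group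
    rw [e2, h]
    have e3 : k * z ^ n * k⁻¹ = z ^ n := by
      have := (hkz.pow_right n).eq
      rw [this, mul_assoc, mul_inv_cancel, mul_one]
    rw [e3, pow_succ, mul_assoc]

/-- A `p'`-element `k` commuting with `z = [k, a]`, where `z` is a `p`-element, commutes
with `a`. -/
theorem commute_of_commute_commutator {p : ℕ} {k a z : G} (hz : z = k * a * k⁻¹ * a⁻¹)
    (hkz : Commute k z) (hko : (orderOf k).Coprime p) {j : ℕ} (hzp : z ^ p ^ j = 1) :
    Commute k a := by
  have h : k * a * k⁻¹ = z * a := by rw [hz]; group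
  have h1 := pow_conj_eq hkz h (orderOf k)
  rw [pow_orderOf_eq_one] at h1
  have h2 : z ^ orderOf k = 1 := by
    have : (1 : G) * a * (1 : G)⁻¹ = a := by group
    rw [this] at h1
    exact (mul_eq_right.mp h1.symm)
  have h3 : orderOf z ∣ Nat.gcd (orderOf k) (p ^ j) :=
    Nat.dvd_gcd (orderOf_dvd_of_pow_eq_one h2) (orderOf_dvd_of_pow_eq_one hzp)
  have h4 : Nat.gcd (orderOf k) (p ^ j) = 1 := Nat.Coprime.pow_right j hko
  rw [h4, Nat.dvd_one, orderOf_eq_one_iff] at h3
  rw [h3] at h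
  rw [one_mul] at h
  show k * a = a * k
  have : k * a = (k * a * k⁻¹) * k := by group
  rw [this, h]

/-- **Thompson's step.** If a nontrivial `Y ⊴ K` lies in `O_p(H)` and a nontrivial `X₀ ⊴ H` lies in
`O_p(H) ∩ K`, then every `p'`-element of `C_H(O_p(H))` centralizes `O_p(K)`. -/
theorem resid_le_resid_TW [Finite G] {p : ℕ} [hp : Fact p.Prime] {H K : Subgroup G}
    (hH : ∀ X : Subgroup G, X ≠ ⊥ → X ≤ H → H ≤ Subgroup.normalizer (X : Set G) →
      Subgroup.normalizer (X : Set G) ≤ H)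
    (hK : ∀ X : Subgroup G, X ≠ ⊥ → X ≤ K → K ≤ Subgroup.normalizer (X : Set G) →
      Subgroup.normalizer (X : Set G) ≤ K)
    {Y : Subgroup G} (hY : Y ≠ ⊥) (hYK : Y ≤ K) (hYn : K ≤ Subgroup.normalizer (Y : Set G))
    (hYP : Y ≤ opIn p H)
    {X₀ : Subgroup G} (hX : X₀ ≠ ⊥) (hXP : X₀ ≤ opIn p H) (hXK : X₀ ≤ K)
    (hXn : H ≤ Subgroup.normalizer (X₀ : Set G)) :
    resid p H ≤ resid p K := by
  have hcent : resid p H ≤ Subgroup.centralizer (opIn p H : Set G) := by
    unfold resid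
    rw [Subgroup.closure_le]
    rintro k ⟨_, hkc, _⟩
    rw [SetLike.mem_coe, Subgroup.mem_centralizer_iff]
    intro y hy
    exact (hkc y hy).eq.symm
  have hRK : resid p H ≤ K :=
    ((hcent.trans (Subgroup.centralizer_le hYP)).trans
      (Subgroup.centralizer_le_normalizer _)).trans (hK Y hY hYK hYn)
  -- `R ∩ O_p(K) ≤ O_p(H)`
  have hI : resid p H ⊓ opIn p K ≤ opIn p H := by
    have h1 : resid p H ⊓ opIn p K ≤ opIn p (resid p H) := by
      refine le_opIn inf_le_left ?_ ((opIn_isPGroup p K).to_le inf_le_right)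
      exact le_normalizer_inf Subgroup.le_normalizer (hRK.trans (opIn_normalizer p K))
    exact h1.trans (opIn_le_opIn (resid_le p H) (resid_normalizer p H))
  conv_lhs => unfold resid
  rw [Subgroup.closure_le]
  rintro k ⟨hkH, hkc, hko⟩
  have hkR : k ∈ resid p H := Subgroup.subset_closure ⟨hkH, hkc, hko⟩
  have hkK : k ∈ K := hRK hkR
  -- `k` centralizes `O_p(K) ∩ H`
  have hT : ∀ a ∈ opIn p K, a ∈ H → Commute k a := by
    intro a ha haH
    have hz1 : k * a * k⁻¹ * a⁻¹ ∈ opIn p K :=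
      (opIn p K).mul_mem (conj_mem_of_mem_normalizer (opIn_normalizer p K hkK) ha)
        ((opIn p K).inv_mem ha)
    have hz2 : k * a * k⁻¹ * a⁻¹ ∈ resid p H := by
      have h1 : a * k⁻¹ * a⁻¹ ∈ resid p H :=
        conj_mem_of_mem_normalizer (resid_normalizer p H haH) ((resid p H).inv_mem hkR)
      have e : k * a * k⁻¹ * a⁻¹ = k * (a * k⁻¹ * a⁻¹) := by group
      rw [e]
      exact (resid p H).mul_mem hkR h1
    have hz3 : k * a * k⁻¹ * a⁻¹ ∈ opIn p H := hI ⟨hz2, hz1⟩
    obtain ⟨j, hj⟩ := (opIn_isPGroup p K) ⟨_, hz1⟩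
    have hj' : (k * a * k⁻¹ * a⁻¹) ^ p ^ j = 1 := by simpa using congrArg Subtype.val hj
    exact commute_of_commute_commutator rfl (hkc _ hz3) hko hj'
  apply Subgroup.subset_closure
  refine ⟨hkK, ?_, hko⟩
  have hNX : Subgroup.normalizer (X₀ : Set G) ≤ H := hH X₀ hX (hXP.trans (opIn_le p H)) hXn
  have := Cfsg.Agent.Lib.Helper56.axb_lemma (p := p) (opIn p K) (opIn p H ⊓ K) k
    (opIn_isPGroup p K) ((opIn_isPGroup p H).to_le inf_le_left)
    (inf_le_right.trans (opIn_normalizer p K)) (opIn_normalizer p K hkK)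
    (fun b hb => (hkc b hb.1).eq.symm) hko
    (fun a ha hab => by
      have haH : a ∈ H := by
        apply hNX
        apply Subgroup.centralizer_le_normalizer
        rw [Subgroup.mem_centralizer_iff]
        intro x hx
        exact hab x ⟨hXP hx, hXK hx⟩
      exact (hT a ha haH).eq.symm)
  intro y hy
  exact (this y hy).symm

/-- The internal characteristic-`p` condition gives `F*(H) = O_p(H)`. -/
theorem genFitting_eq_pCore_of_internal [Finite G] {p : ℕ} [Fact p.Prime] {H : Subgroup G}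
    (h : ∀ k ∈ H, (∀ y ∈ opIn p H, Commute k y) → k ∈ opIn p H) :
    Cfsg.generalizedFittingSubgroup ↥H = Cfsg.pCore p ↥H := by
  rw [Cfsg.Agent.Lib.Helper56.genFitting_eq_pCore_iff]
  intro x hx
  have h1 : (x : G) ∈ opIn p H := by
    apply h _ x.2
    rintro _ ⟨y, hy, rfl⟩
    have := (Subgroup.mem_centralizer_iff.mp hx) y hy
    show (x : G) * (y : G) = (y : G) * (x : G)
    have h2 := congrArg Subtype.val this
    simpa using h2.symm
  obtain ⟨z, hz, hzx⟩ := h1
  have : z = x := Subtype.ext hzx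
  rwa [← this]

/-- and conversely. -/
theorem internal_of_genFitting_eq_pCore [Finite G] {p : ℕ} [Fact p.Prime] {H : Subgroup G}
    (h : Cfsg.generalizedFittingSubgroup ↥H = Cfsg.pCore p ↥H) :
    ∀ k ∈ H, (∀ y ∈ opIn p H, Commute k y) → k ∈ opIn p H := by
  rw [Cfsg.Agent.Lib.Helper56.genFitting_eq_pCore_iff] at h
  intro k hk hkc
  have h1 : (⟨k, hk⟩ : ↥H) ∈ Subgroup.centralizer (Cfsg.pCore p ↥H : Set ↥H) := by
    rw [Subgroup.mem_centralizer_iff]
    intro y hy
    have := hkc (y : G) ⟨y, hy, rfl⟩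
    exact Subtype.ext this.eq.symm
  exact ⟨⟨k, hk⟩, h h1, rfl⟩

/-- The pair hypothesis: nontrivial subgroups normalized by `H` have normalizer inside `H`. -/
def NormHyp (H : Subgroup G) : Prop :=
  ∀ X : Subgroup G, X ≠ ⊥ → X ≤ H → H ≤ Subgroup.normalizer (X : Set G) →
    Subgroup.normalizer (X : Set G) ≤ H

theorem eq_bot_of_common {H K : Subgroup G} (hH : NormHyp H) (hK : NormHyp K) (hne : H ≠ K)
    {R : Subgroup G} (hRH : R ≤ H) (hRK : R ≤ K)
    (hnH : H ≤ Subgroup.normalizer (R : Set G)) (hnK : K ≤ Subgroup.normalizer (R : Set G)) :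
    R = ⊥ := by
  by_contra hR
  have h1 := hH R hR hRH hnH
  have h2 := hK R hR hRK hnK
  exact hne (le_antisymm (hnH.trans h2) (hnK.trans h1))

/-- Thompson's step, conclusion: `C_H(O_p(H)) ≤ O_p(H)`. -/
theorem charP_of_TW [Finite G] {p : ℕ} [hp : Fact p.Prime] {H K : Subgroup G} (g : G)
    (hconj : K = H.map (MulAut.conj g).toMonoidHom) (hne : H ≠ K)
    (hH : NormHyp H) (hK : NormHyp K)
    {Y : Subgroup G} (hY : Y ≠ ⊥) (hYK : Y ≤ K) (hYn : K ≤ Subgroup.normalizer (Y : Set G))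
    (hYP : Y ≤ opIn p H)
    {X₀ : Subgroup G} (hX : X₀ ≠ ⊥) (hXP : X₀ ≤ opIn p H) (hXK : X₀ ≤ K)
    (hXn : H ≤ Subgroup.normalizer (X₀ : Set G)) :
    ∀ k ∈ H, (∀ y ∈ opIn p H, Commute k y) → k ∈ opIn p H := by
  have hle : resid p H ≤ resid p K := resid_le_resid_TW hH hK hY hYK hYn hYP hX hXP hXK hXn
  have hcard : Nat.card ↥(resid p K) = Nat.card ↥(resid p H) := by
    rw [hconj]; exact card_resid_map_conj p g H
  have heq : resid p H = resid p K := Subgroup.eq_of_le_of_card_ge hle hcard.le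
  have hbot : resid p H = ⊥ :=
    eq_bot_of_common hH hK hne (resid_le p H) (heq ▸ resid_le p K) (resid_normalizer p H)
      (heq ▸ resid_normalizer p K)
  intro k hk hkc
  exact mem_opIn_of_resid_eq_bot hbot hk hkc

/-- `E(V) ≤ E(H)` for `V` subnormal in `H`, in the ambient group. -/
theorem layerIn_le_layerIn_of_rsn {V H : Subgroup G} (h : RSn V H) : layerIn V ≤ layerIn H := by
  have hVH : V ≤ H := h.le
  have hsn : (V.subgroupOf H).IsSubnormal := h.isSubnormal_subgroupOf
  have h1 := Cfsg.Agent.Lib.Helper30.layer_map_subtype_le hsn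
  have h2 := Cfsg.Agent.Lib.Helper30.layer_map_equiv (Subgroup.subgroupOfEquivOfLe hVH)
  unfold layerIn
  rw [← h2, Subgroup.map_map]
  have e : V.subtype.comp (Subgroup.subgroupOfEquivOfLe hVH).toMonoidHom =
      H.subtype.comp (V.subgroupOf H).subtype := by
    ext x
    rfl
  rw [e, ← Subgroup.map_map]
  exact Subgroup.map_mono h1

/-- `E(H)` centralizes `O_q(H)`, in the ambient group. -/
theorem commute_layerIn_opIn [Finite G] {q : ℕ} [Fact q.Prime] {H : Subgroup G} {e x : G}
    (he : e ∈ layerIn H) (hx : x ∈ opIn q H) : Commute e x := by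
  obtain ⟨e', he', rfl⟩ := he
  obtain ⟨x', hx', rfl⟩ := hx
  have hN : (Cfsg.pCore q ↥H).Normal := Cfsg.Agent.Lib.Helper76.pCore_normal q
  have hP : IsPGroup q ↥(Cfsg.pCore q ↥H) := Cfsg.Agent.Lib.Helper76.pCore_isPGroup q
  have hnil : Group.IsNilpotent ↥(Cfsg.pCore q ↥H) := hP.isNilpotent
  have hsol : Group.IsSolvable ↥(Cfsg.pCore q ↥H) := inferInstance
  have h1 := Cfsg.Agent.Lib.Helper30.layer_commute_solvable hN.isSubnormal hsol
  have h2 : ⁅e', x'⁆ ∈ ⁅Cfsg.layer ↥H, Cfsg.pCore q ↥H⁆ :=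
    Subgroup.commutator_mem_commutator he' hx'
  rw [h1, Subgroup.mem_bot] at h2
  have h3 : Commute e' x' := commutatorElement_eq_one_iff_commute.mp h2
  show (e' : G) * (x' : G) = (x' : G) * (e' : G)
  have := congrArg Subtype.val h3.eq
  simpa using this

/-- Case of trivial Fitting subgroup of `V`: then `F*(H) ≤ K`. -/
theorem fsIn_le_of_opIn_eq_bot [Finite G] {H K V : Subgroup G} (hK : NormHyp K)
    (hV : V ≠ ⊥) (hVK : V ≤ K) (hVn : K ≤ Subgroup.normalizer (V : Set G)) (hVH : RSn V H)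
    (hO : ∀ q : ℕ, q.Prime → opIn q V = ⊥) : fsIn H ≤ K := by
  classical
  have hCV : Subgroup.centralizer (V : Set G) ≤ K :=
    (Subgroup.centralizer_le_normalizer _).trans (hK V hV hVK hVn)
  -- the layer of `H` lies in `K`
  have hα : layerIn H ≤ K := by
    unfold layerIn
    rw [Subgroup.map_le_iff_le_comap]
    unfold Cfsg.layer
    apply sSup_le
    intro L hL
    have hL' : Cfsg.IsComponent L := hL
    intro x hxL
    rw [Subgroup.mem_comap]
    rcases Cfsg.Agent.Lib.Helper30.component_subnormal_dichotomy hL'.1 hL'.2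
      hVH.isSubnormal_subgroupOf with h | h
    · exact hVK (Subgroup.mem_subgroupOf.mp (h hxL))
    · apply hCV
      rw [Subgroup.mem_centralizer_iff]
      intro v hv
      have h2 : ⁅x, (⟨v, hVH.le hv⟩ : ↥H)⁆ ∈ ⁅L, V.subgroupOf H⁆ :=
        Subgroup.commutator_mem_commutator hxL (Subgroup.mem_subgroupOf.mpr hv)
      rw [h, Subgroup.mem_bot] at h2
      have h3 : Commute x (⟨v, hVH.le hv⟩ : ↥H) := commutatorElement_eq_one_iff_commute.mp h2
      have := congrArg Subtype.val h3.eq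
      simpa using this.symm
  -- the layer of `V` is nontrivial
  have hE : layerIn V ≠ ⊥ := by
    intro h
    have h1 : Cfsg.layer ↥V = ⊥ :=
      (Subgroup.map_eq_bot_iff_of_injective _ V.subtype_injective).mp h
    exact hV (eq_bot_of_fsIn_eq_bot (fsIn_eq_bot_of_opIn_eq_bot h1 hO))
  have hEK : layerIn V ≤ K := (layerIn_le V).trans hVK
  have hEn : K ≤ Subgroup.normalizer ((layerIn V : Subgroup G) : Set G) :=
    hVn.trans (normalizer_le_normalizer_layerIn V)
  have hCE : Subgroup.centralizer ((layerIn V : Subgroup G) : Set G) ≤ K :=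
    (Subgroup.centralizer_le_normalizer _).trans (hK _ hE hEK hEn)
  have hβ : ∀ q : ℕ, q.Prime → opIn q H ≤ K := by
    intro q hq
    have : Fact q.Prime := ⟨hq⟩
    intro x hx
    apply hCE
    rw [Subgroup.mem_centralizer_iff]
    intro e he
    exact (commute_layerIn_opIn (layerIn_le_layerIn_of_rsn hVH he) hx).eq
  -- assemble
  unfold fsIn Cfsg.generalizedFittingSubgroup
  rw [Subgroup.map_sup]
  refine sup_le hα ?_
  rw [Cfsg.Agent.Lib.Helper76.fittingSubgroup_eq_pCoreJoin]
  unfold Cfsg.Agent.Lib.Helper76.pCoreJoin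
  rw [Subgroup.map_iSup]
  exact iSup_le fun q => hβ q (Nat.prime_of_mem_primeFactors q.2)

/-- The internal characteristic-`p` condition is invariant under conjugation. -/
theorem internal_conj [Finite G] {p : ℕ} [Fact p.Prime] {H : Subgroup G} (g : G)
    (h : ∀ k ∈ H, (∀ y ∈ opIn p H, Commute k y) → k ∈ opIn p H) :
    ∀ k ∈ H.map (MulAut.conj g).toMonoidHom,
      (∀ y ∈ opIn p (H.map (MulAut.conj g).toMonoidHom), Commute k y) →
        k ∈ opIn p (H.map (MulAut.conj g).toMonoidHom) := by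
  apply internal_of_genFitting_eq_pCore
  rw [Cfsg.Agent.Lib.Helper56.genFitting_eq_pCore_iff]
  have h1 := genFitting_eq_pCore_of_internal h
  rw [Cfsg.Agent.Lib.Helper56.genFitting_eq_pCore_iff] at h1
  exact Cfsg.Agent.Lib.Helper56.charP_of_mulEquiv
    (H.equivMapOfInjective _ (MulAut.conj g).injective) h1

theorem map_conj_inv_map_conj (g : G) (M : Subgroup G) :
    (M.map (MulAut.conj g).toMonoidHom).map (MulAut.conj g⁻¹).toMonoidHom = M := by
  rw [Subgroup.map_map]
  have : (MulAut.conj g⁻¹).toMonoidHom.comp (MulAut.conj g).toMonoidHom = MonoidHom.id G := by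
    ext x
    simp [MulAut.conj_apply, mul_assoc]
  rw [this, Subgroup.map_id]

/-- **Thompson's part of the Thompson–Wielandt theorem.** -/
theorem thompson_main [Finite G] {H K : Subgroup G} (g : G)
    (hconj : K = H.map (MulAut.conj g).toMonoidHom) (hne : H ≠ K)
    (hH : NormHyp H) (hK : NormHyp K)
    (hU : coreIn H (coreIn H (H ⊓ K) ⊓ coreIn K (H ⊓ K)) ≠ ⊥)
    (hV : coreIn K (coreIn H (H ⊓ K) ⊓ coreIn K (H ⊓ K)) ≠ ⊥) :
    ∃ p : ℕ, p.Prime ∧ (∀ k ∈ H, (∀ y ∈ opIn p H, Commute k y) → k ∈ opIn p H) ∧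
      (∀ k ∈ K, (∀ y ∈ opIn p K, Commute k y) → k ∈ opIn p K) := by
  classical
  set D := H ⊓ K with hD
  set A := coreIn H D with hA
  set B := coreIn K D with hB
  set N := A ⊓ B with hN
  set U := coreIn H N with hUdef
  set V := coreIn K N with hVdef
  have hDH : D ≤ H := inf_le_left
  have hDK : D ≤ K := inf_le_right
  have hAD : A ≤ D := coreIn_le_right _ _
  have hBD : B ≤ D := coreIn_le_right _ _
  have hAH : A ≤ H := coreIn_le_left _ _
  have hBK : B ≤ K := coreIn_le_left _ _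
  have hNA : N ≤ A := inf_le_left
  have hNB : N ≤ B := inf_le_right
  have hAn : H ≤ Subgroup.normalizer (A : Set G) := coreIn_normalizer H D
  have hBn : K ≤ Subgroup.normalizer (B : Set G) := coreIn_normalizer K D
  have hDN : D ≤ Subgroup.normalizer (N : Set G) :=
    le_normalizer_inf (hDH.trans hAn) (hDK.trans hBn)
  have hUN : U ≤ N := coreIn_le_right _ _
  have hVN : V ≤ N := coreIn_le_right _ _
  have hUn : H ≤ Subgroup.normalizer (U : Set G) := coreIn_normalizer H N
  have hVn : K ≤ Subgroup.normalizer (V : Set G) := coreIn_normalizer K N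
  have hVK : V ≤ K := coreIn_le_left _ _
  have hUH : U ≤ H := coreIn_le_left _ _
  have rNA : RSn N A := RSn.single hNA (hAD.trans hDN)
  have rNB : RSn N B := RSn.single hNB (hBD.trans hDN)
  have rAH : RSn A H := RSn.single hAH hAn
  have rBK : RSn B K := RSn.single hBK hBn
  have rVN : RSn V N := RSn.single hVN ((hNB.trans hBK).trans hVn)
  have rUN : RSn U N := RSn.single hUN ((hNA.trans hAH).trans hUn)
  have rVA : RSn V A := rVN.trans rNA
  have rUB : RSn U B := rUN.trans rNB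
  have rVH : RSn V H := rVA.trans rAH
  have rUK : RSn U K := rUB.trans rBK
  have hconj' : H = K.map (MulAut.conj g⁻¹).toMonoidHom := by
    rw [hconj, map_conj_inv_map_conj]
  by_cases h1 : ∃ p : ℕ, p.Prime ∧ opIn p V ≠ ⊥
  · obtain ⟨p, hp, hpV⟩ := h1
    have : Fact p.Prime := ⟨hp⟩
    have hYX : opIn p V ≤ opIn p A := opIn_le_opIn_of_rsn rVA
    have hX : opIn p A ≠ ⊥ := fun h => hpV (le_bot_iff.mp (h ▸ hYX))
    have hcH := charP_of_TW (p := p) g hconj hne hH hK hpV ((opIn_le p V).trans hVK)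
      (hVn.trans (normalizer_le_normalizer_opIn p V)) (opIn_le_opIn_of_rsn rVH)
      hX (opIn_le_opIn hAH hAn) ((opIn_le p A).trans (hAD.trans hDK))
      (hAn.trans (normalizer_le_normalizer_opIn p A))
    refine ⟨p, hp, hcH, ?_⟩
    rw [hconj]
    exact internal_conj g hcH
  by_cases h2 : ∃ p : ℕ, p.Prime ∧ opIn p U ≠ ⊥
  · obtain ⟨p, hp, hpU⟩ := h2
    have : Fact p.Prime := ⟨hp⟩
    have hYX : opIn p U ≤ opIn p B := opIn_le_opIn_of_rsn rUB
    have hX : opIn p B ≠ ⊥ := fun h => hpU (le_bot_iff.mp (h ▸ hYX))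
    have hcK := charP_of_TW (p := p) g⁻¹ hconj' hne.symm hK hH hpU ((opIn_le p U).trans hUH)
      (hUn.trans (normalizer_le_normalizer_opIn p U)) (opIn_le_opIn_of_rsn rUK)
      hX (opIn_le_opIn hBK hBn) ((opIn_le p B).trans (hBD.trans hDH))
      (hBn.trans (normalizer_le_normalizer_opIn p B))
    refine ⟨p, hp, ?_, hcK⟩
    rw [hconj']
    exact internal_conj g⁻¹ hcK
  push Not at h1 h2
  have hF1 : fsIn H ≤ K := fsIn_le_of_opIn_eq_bot hK hV hVK hVn rVH h1
  have hF2 : fsIn K ≤ H := fsIn_le_of_opIn_eq_bot hH hU hUH hUn rUK h2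
  obtain ⟨p, hp, hc1, hc2, _⟩ := bender H K hne (fun X hX hXD => by
    refine ⟨fun hn => ?_, fun hn => ?_⟩
    · have := hH X hX (hXD.trans inf_le_left) hn
      exact le_antisymm (le_inf (inf_le_right.trans this) inf_le_left)
        (le_inf inf_le_right (inf_le_left.trans hn))
    · have := hK X hX (hXD.trans inf_le_right) hn
      exact le_antisymm (le_inf inf_le_left (inf_le_right.trans this))
        (le_inf inf_le_left (inf_le_right.trans hn))) hF1 hF2
  exact ⟨p, hp, hc1, hc2⟩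

end Cfsg.Agent.Lib.Helper66.TW
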