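import Cfsg.Agent.Lib.Helper66.TWWielandtAux

set_option autoImplicit false

/-!
# Thompson–Wielandt: the Wielandt half

For a pair `H`, `K = H^g ≠ H` satisfying the normalizer hypothesis, with `C_H(O_p(H)) ≤ O_p(H)`,
the second core `U = core_H(A ∩ B)` is a `p`-group.
-/

namespace Cfsg.Agent.Lib.Helper66.TW

open Subgroup
open scoped commutatorElement
open Cfsg.Agent.Lib.Helper67
open Cfsg.Agent.Lib.Helper02

variable {G : Type*} [Group G]

set_option maxHeartbeats 1600000 in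
/-- **Wielandt's half of the Thompson–Wielandt theorem.** -/
theorem wielandt_half [Finite G] {p : ℕ} [hp : Fact p.Prime] {H K : Subgroup G}
    (hne : H ≠ K) (hH : NormHyp H) (hK : NormHyp K)
    (hcH : ∀ k ∈ H, (∀ y ∈ opIn p H, Commute k y) → k ∈ opIn p H)
    (hcard : Nat.card ↥(opIn p K) = Nat.card ↥(opIn p H)) :
    IsPGroup p ↥(coreIn H (coreIn H (H ⊓ K) ⊓ coreIn K (H ⊓ K))) := by
  classical
  set D := H ⊓ K with hD
  set A := coreIn H D with hA
  set B := coreIn K D with hB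
  set N := A ⊓ B with hN
  set U := coreIn H N with hUdef
  set PH := opIn p H with hPH
  set PK := opIn p K with hPK
  have hDH : D ≤ H := inf_le_left
  have hDK : D ≤ K := inf_le_right
  have hAD : A ≤ D := coreIn_le_right _ _
  have hBD : B ≤ D := coreIn_le_right _ _
  have hAH : A ≤ H := coreIn_le_left _ _
  have hBK : B ≤ K := coreIn_le_left _ _
  have hNA : N ≤ A := inf_le_left
  have hNB : N ≤ B := inf_le_right
  have hAn : H ≤ Subgroup.normalizer (A : Set G) := coreIn_normalizer H D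
  have hBn : K ≤ Subgroup.normalizer (B : Set G) := coreIn_normalizer K D
  have hDN : D ≤ Subgroup.normalizer (N : Set G) :=
    le_normalizer_inf (hDH.trans hAn) (hDK.trans hBn)
  have hUN : U ≤ N := coreIn_le_right _ _
  have hUn : H ≤ Subgroup.normalizer (U : Set G) := coreIn_normalizer H N
  have hUH : U ≤ H := coreIn_le_left _ _
  have hUB : U ≤ B := hUN.trans hNB
  have hUD : U ≤ D := hUB.trans hBD
  have hUK : U ≤ K := hUD.trans hDK
  have rNB : RSn N B := RSn.single hNB (hBD.trans hDN)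
  have rBK : RSn B K := RSn.single hBK hBn
  have rUN : RSn U N := RSn.single hUN ((hNA.trans hAH).trans hUn)
  have rUK : RSn U K := (rUN.trans rNB).trans rBK
  have hPHn : H ≤ Subgroup.normalizer (PH : Set G) := opIn_normalizer p H
  have hPKn : K ≤ Subgroup.normalizer (PK : Set G) := opIn_normalizer p K
  have hPHH : PH ≤ H := opIn_le p H
  have hPKK : PK ≤ K := opIn_le p K
  have hPHp : IsPGroup p ↥PH := opIn_isPGroup p H
  have hPKp : IsPGroup p ↥PK := opIn_isPGroup p K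
  refine isPGroup_of_coprime_eq_one U ?_
  by_contra hcon
  push Not at hcon
  obtain ⟨x₀, hx₀U, hx₀c, hx₀1⟩ := hcon
  -- the `p'`-elements of `U` and the subgroup they generate
  set Pp : Set G := {x | x ∈ U ∧ (orderOf x).Coprime p} with hPp
  set S := Subgroup.closure Pp with hS
  have hx₀Pp : x₀ ∈ Pp := ⟨hx₀U, hx₀c⟩
  have hPpH : ∀ h ∈ H, ∀ x ∈ Pp, h * x * h⁻¹ ∈ Pp := by
    intro h hh x hx
    refine ⟨conj_mem_of_mem_normalizer (hUn hh) hx.1, ?_⟩
    rw [orderOf_conj_eq]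
    exact hx.2
  have hSU : S ≤ U := (Subgroup.closure_le U).mpr fun x hx => hx.1
  have hSn : H ≤ Subgroup.normalizer (S : Set G) := by
    intro h hh
    apply mem_normalizer_of_conj_mem
    apply conj_closure_mem
    intro t ht
    exact Subgroup.subset_closure (hPpH h hh t ht)
  have hSne : S ≠ ⊥ := by
    intro h0
    have : x₀ ∈ S := Subgroup.subset_closure hx₀Pp
    rw [h0, Subgroup.mem_bot] at this
    exact hx₀1 this
  have hNS : Subgroup.normalizer (S : Set G) ≤ H := hH S hSne (hSU.trans hUH) hSn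
  -- Step 1: `O_p(K) ≤ H`
  have hPHU : PH ⊓ U ≤ PK :=
    (le_opIn inf_le_right (le_normalizer_inf (hUH.trans hPHn) Subgroup.le_normalizer)
      (hPHp.to_le inf_le_left)).trans (opIn_le_opIn_of_rsn rUK)
  have hUPK : U ⊓ PK ≤ PH :=
    (le_opIn inf_le_left (le_normalizer_inf Subgroup.le_normalizer (hUK.trans hPKn))
      (hPKp.to_le inf_le_right)).trans (opIn_le_opIn hUH hUn)
  set I := U ⊓ PH ⊓ PK with hI
  have hZ : ∀ x ∈ Pp, Subgroup.zpowers x ≤ U := fun x hx => (Subgroup.zpowers_le).mpr hx.1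
  have hZPp : ∀ x ∈ Pp, ∀ z ∈ Subgroup.zpowers x, z ∈ Pp := fun x hx z hz =>
    ⟨hZ x hx hz, Nat.Coprime.coprime_dvd_left (orderOf_dvd_of_mem_zpowers hz) hx.2⟩
  have hZc : ∀ x ∈ Pp, (Nat.card ↥(Subgroup.zpowers x)).Coprime p := fun x hx => by
    rw [Nat.card_zpowers]; exact hx.2
  have h1a : ∀ x ∈ Pp, ⁅PH, Subgroup.zpowers x⁆ ≤ I := by
    intro x hx
    rw [Subgroup.commutator_le]
    intro y hy z hz
    have hzU : z ∈ U := hZ x hx hz
    have h1 : ⁅y, z⁆ ∈ U := comm_mem_right (hUn (hPHH hy)) hzU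
    have h2 : ⁅y, z⁆ ∈ PH := comm_mem_left hy (hPHn (hUH hzU))
    exact ⟨⟨h1, h2⟩, hPHU ⟨h2, h1⟩⟩
  have h1b : ∀ x ∈ Pp, ⁅PK, Subgroup.zpowers x⁆ ≤ PK ⊓ B := by
    intro x hx
    rw [Subgroup.commutator_le]
    intro y hy z hz
    have hzU : z ∈ U := hZ x hx hz
    exact ⟨comm_mem_left hy (hPKn (hUK hzU)), comm_mem_right (hBn (hPKK hy)) (hUB hzU)⟩
  have h1c : ∀ x ∈ Pp, ⁅PK ⊓ B, Subgroup.zpowers x⁆ ≤ I := by
    intro x hx
    rw [Subgroup.commutator_le]
    intro y hy z hz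
    have hzU : z ∈ U := hZ x hx hz
    have h1 : ⁅y, z⁆ ∈ U := comm_mem_right (hUn (hDH (hBD hy.2))) hzU
    have h2 : ⁅y, z⁆ ∈ PK := comm_mem_left hy.1 (hPKn (hUK hzU))
    exact ⟨⟨h1, hUPK ⟨h1, h2⟩⟩, h2⟩
  have h1d : ∀ x ∈ Pp, ⁅PK, Subgroup.zpowers x⁆ ≤ I := by
    intro x hx
    have h1 := comm_le_comm_comm (P := PK) (Z := Subgroup.zpowers x) hPKp
      (((hZ x hx).trans hUK).trans hPKn) (hZc x hx)
    exact (h1.trans (Subgroup.commutator_mono (h1b x hx) le_rfl)).trans (h1c x hx)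
  have h1e : ∀ x ∈ Pp, ⁅PH, Subgroup.zpowers x⁆ ≤ ⁅PK, Subgroup.zpowers x⁆ := by
    intro x hx
    have h1 := comm_le_comm_comm (P := PH) (Z := Subgroup.zpowers x) hPHp
      (((hZ x hx).trans hUH).trans hPHn) (hZc x hx)
    exact (h1.trans (Subgroup.commutator_mono (h1a x hx) le_rfl)).trans
      (Subgroup.commutator_mono inf_le_right le_rfl)
  have h1f : ∀ x ∈ Pp, ⁅PK, Subgroup.zpowers x⁆ ≤ ⁅PH, Subgroup.zpowers x⁆ := by
    intro x hx
    have h1 := comm_le_comm_comm (P := PK) (Z := Subgroup.zpowers x) hPKp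
      (((hZ x hx).trans hUK).trans hPKn) (hZc x hx)
    exact (h1.trans (Subgroup.commutator_mono (h1d x hx) le_rfl)).trans
      (Subgroup.commutator_mono (inf_le_left.trans inf_le_right) le_rfl)
  set R1 := Subgroup.closure {c : G | ∃ y ∈ PH, ∃ x ∈ Pp, ⁅y, x⁆ = c} with hR1
  have hR1gen : ∀ x ∈ Pp, ⁅PH, Subgroup.zpowers x⁆ ≤ R1 := by
    intro x hx
    rw [Subgroup.commutator_le]
    intro y hy z hz
    exact Subgroup.subset_closure ⟨y, hy, z, hZPp x hx z hz, rfl⟩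
  have hR1I : R1 ≤ I := by
    rw [hR1, Subgroup.closure_le]
    rintro _ ⟨y, hy, x, hx, rfl⟩
    exact h1a x hx (Subgroup.commutator_mem_commutator hy (Subgroup.mem_zpowers x))
  have hR1H : R1 ≤ H := hR1I.trans ((inf_le_left.trans inf_le_left).trans hUH)
  have hR1nH : H ≤ Subgroup.normalizer (R1 : Set G) := by
    intro h hh
    apply mem_normalizer_of_conj_mem
    apply conj_closure_mem
    rintro _ ⟨y, hy, x, hx, rfl⟩
    have e : h * ⁅y, x⁆ * h⁻¹ = ⁅h * y * h⁻¹, h * x * h⁻¹⁆ := by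
      simp only [commutatorElement_def]; group
    rw [e]
    exact Subgroup.subset_closure
      ⟨_, conj_mem_of_mem_normalizer (hPHn hh) hy, _, hPpH h hh x hx, rfl⟩
  have hR1nK : PK ≤ Subgroup.normalizer (R1 : Set G) := by
    intro k hk
    apply mem_normalizer_of_conj_mem
    apply conj_closure_mem
    rintro _ ⟨y, hy, x, hx, rfl⟩
    have h1 : ⁅y, x⁆ ∈ ⁅PK, Subgroup.zpowers x⁆ :=
      h1e x hx (Subgroup.commutator_mem_commutator hy (Subgroup.mem_zpowers x))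
    have h2 : k * ⁅y, x⁆ * k⁻¹ ∈ ⁅PK, Subgroup.zpowers x⁆ :=
      conj_mem_of_mem_normalizer (Subgroup.normalizer_commutator_ge_left PK _ hk) h1
    exact hR1gen x hx (h1f x hx h2)
  have hR1ne : R1 ≠ ⊥ := by
    intro h0
    have h1 : x₀ ∈ PH := by
      apply hcH x₀ (hUH hx₀U)
      intro y hy
      have h2 : ⁅y, x₀⁆ ∈ R1 := Subgroup.subset_closure ⟨y, hy, x₀, hx₀Pp, rfl⟩
      rw [h0, Subgroup.mem_bot] at h2
      exact (commutatorElement_eq_one_iff_commute.mp h2).symm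
    obtain ⟨j, hj⟩ := hPHp ⟨x₀, h1⟩
    have hj' : x₀ ^ p ^ j = 1 := by simpa using congrArg Subtype.val hj
    exact hx₀1 (eq_one_of_coprime_of_pow hx₀c hj')
  have hPKH : PK ≤ H := hR1nK.trans (hH R1 hR1ne hR1H hR1nH)
  have hPKB : PK ≤ B := le_coreIn hPKK (le_inf hPKH hPKK) hPKn
  -- Step 3
  have hstep3 : ∀ y ∈ K, (∀ x ∈ Pp, ⁅y, x⁆ ∈ PK) → y ∈ H := by
    intro y _ hy
    apply hNS
    apply mem_normalizer_of_conj_mem
    apply conj_closure_mem
    intro x hx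
    have e : y * x * y⁻¹ = ⁅y, x⁆ * x := by simp [commutatorElement_def]
    apply mem_of_coprime_of_mem_sup (S := S) (Q := PK) hPKp (hPKH.trans hSn)
    · rw [e]
      exact (S ⊔ PK).mul_mem ((le_sup_right : PK ≤ S ⊔ PK) (hy x hx))
        ((le_sup_left : S ≤ S ⊔ PK) (Subgroup.subset_closure hx))
    · rw [orderOf_conj_eq]
      exact hx.2
  -- Step 4
  let Y : Subgroup G :=
    { carrier := {y | y ∈ K ∧ ∀ b ∈ B, ⁅y, b⁆ ∈ PK}
      one_mem' := ⟨K.one_mem, fun b _ => by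
        rw [commutatorElement_one_left]; exact PK.one_mem⟩
      mul_mem' := by
        rintro y₁ y₂ ⟨h1K, h1⟩ ⟨h2K, h2⟩
        refine ⟨K.mul_mem h1K h2K, fun b hb => ?_⟩
        have e : ⁅y₁ * y₂, b⁆ = y₁ * ⁅y₂, b⁆ * y₁⁻¹ * ⁅y₁, b⁆ := by
          simp only [commutatorElement_def]; group
        rw [e]
        exact PK.mul_mem (conj_mem_of_mem_normalizer (hPKn h1K) (h2 b hb)) (h1 b hb)
      inv_mem' := by
        rintro y ⟨h1K, h1⟩
        refine ⟨K.inv_mem h1K, fun b hb => ?_⟩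
        have e : ⁅y⁻¹, b⁆ = y⁻¹ * (⁅y, b⁆)⁻¹ * y := by
          simp only [commutatorElement_def]; group
        rw [e]
        exact conj_inv_mem_of_mem_normalizer (hPKn h1K) (PK.inv_mem (h1 b hb)) }
  have hYmem : ∀ y, y ∈ Y ↔ y ∈ K ∧ ∀ b ∈ B, ⁅y, b⁆ ∈ PK := fun y => Iff.rfl
  have hYK : Y ≤ K := fun y hy => hy.1
  have hYn : K ≤ Subgroup.normalizer (Y : Set G) := by
    intro k hk
    apply mem_normalizer_of_conj_mem
    intro y hy
    rw [hYmem] at hy ⊢
    refine ⟨K.mul_mem (K.mul_mem hk hy.1) (K.inv_mem hk), fun b hb => ?_⟩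
    have e : ⁅k * y * k⁻¹, b⁆ = k * ⁅y, k⁻¹ * b * k⁆ * k⁻¹ := by
      simp only [commutatorElement_def]; group
    rw [e]
    exact conj_mem_of_mem_normalizer (hPKn hk)
      (hy.2 _ (conj_inv_mem_of_mem_normalizer (hBn hk) hb))
  have hYH : Y ≤ H := fun y hy => hstep3 y hy.1 (fun x hx => hy.2 x (hUB hx.1))
  have hYB : Y ≤ B := le_coreIn hYK (le_inf hYH hYK) hYn
  have hPKY : PK ≤ Y := fun y hy =>
    ⟨hPKK hy, fun b hb => comm_mem_left hy (hPKn (hBK hb))⟩
  have hPHB : PH ⊓ B ≤ PK :=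
    (le_opIn inf_le_right (le_normalizer_inf ((hBD.trans hDH).trans hPHn) Subgroup.le_normalizer)
      (hPHp.to_le inf_le_left)).trans (opIn_le_opIn hBK hBn)
  have hPiY : PH ⊓ K ≤ Y := fun y hy =>
    ⟨hy.2, fun b hb => hPHB ⟨comm_mem_left hy.1 (hPHn (hDH (hBD hb))),
      comm_mem_right (hBn hy.2) hb⟩⟩
  set E := (PH ⊓ K) ⊔ PK with hE
  have hEp : IsPGroup p ↥E :=
    IsPGroup.to_sup_of_normal_right' (hPHp.to_le inf_le_left) hPKp (inf_le_right.trans hPKn)
  have hEY : E ≤ Y := sup_le hPiY hPKY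
  have hEn : Y ≤ Subgroup.normalizer (E : Set G) := by
    intro y hy
    apply mem_normalizer_of_conj_mem
    intro e he
    have e1 : y * e * y⁻¹ = ⁅y, e⁆ * e := by simp [commutatorElement_def]
    rw [e1]
    exact E.mul_mem ((le_sup_right : PK ≤ E) (hy.2 e (hYB (hEY he)))) he
  have hEPK : E ≤ PK := (le_opIn hEY hEn hEp).trans (opIn_le_opIn hYK hYn)
  have hPi : PH ⊓ K ≤ PK := le_sup_left.trans hEPK
  -- Step 5
  have hPHne : PH ≠ ⊥ := by
    intro h0
    have h1 : x₀ ∈ PH := by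
      apply hcH x₀ (hUH hx₀U)
      intro y hy
      rw [h0, Subgroup.mem_bot] at hy
      rw [hy]
      exact Commute.one_right x₀
    rw [h0, Subgroup.mem_bot] at h1
    exact hx₀1 h1
  have hPKne : PK ≠ ⊥ := by
    intro h0
    apply hPHne
    rw [← Subgroup.card_eq_one, ← hcard, h0, Subgroup.card_bot]
  have hNPK : Subgroup.normalizer (PK : Set G) ≤ K := hK PK hPKne hPKK hPKn
  have hPHPK : PH ≤ PK :=
    le_of_self_normalizing_sup hPKp hPHp (hPKH.trans hPHn)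
      (fun b hb hbn => hPi ⟨hb, hNPK hbn⟩)
  have heq : PH = PK := Subgroup.eq_of_le_of_card_ge hPHPK hcard.le
  have hbot : PH = ⊥ :=
    eq_bot_of_common hH hK hne hPHH (heq ▸ hPKK) hPHn (heq ▸ hPKn)
  exact hPHne hbot

/-- **The Thompson–Wielandt theorem** (internal form): if both second cores are nontrivial then
for some prime `p` both `H` and `K` have characteristic `p` and the second cores are `p`-groups. -/
theorem thompson_wielandt [Finite G] {H K : Subgroup G} (g : G)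
    (hconj : K = H.map (MulAut.conj g).toMonoidHom) (hne : H ≠ K)
    (hH : NormHyp H) (hK : NormHyp K)
    (hU : coreIn H (coreIn H (H ⊓ K) ⊓ coreIn K (H ⊓ K)) ≠ ⊥)
    (hV : coreIn K (coreIn H (H ⊓ K) ⊓ coreIn K (H ⊓ K)) ≠ ⊥) :
    ∃ p : ℕ, p.Prime ∧ (∀ k ∈ H, (∀ y ∈ opIn p H, Commute k y) → k ∈ opIn p H) ∧
      (∀ k ∈ K, (∀ y ∈ opIn p K, Commute k y) → k ∈ opIn p K) ∧
      IsPGroup p ↥(coreIn H (coreIn H (H ⊓ K) ⊓ coreIn K (H ⊓ K))) ∧
      IsPGroup p ↥(coreIn K (coreIn H (H ⊓ K) ⊓ coreIn K (H ⊓ K))) ∧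
      IsPGroup p ↥(coreIn H (coreIn H (H ⊓ K) ⊓ coreIn K (H ⊓ K)) ⊔
        coreIn K (coreIn H (H ⊓ K) ⊓ coreIn K (H ⊓ K)) : Subgroup G) := by
  obtain ⟨p, hp, hcH, hcK⟩ := thompson_main g hconj hne hH hK hU hV
  have : Fact p.Prime := ⟨hp⟩
  have hcard : Nat.card ↥(opIn p K) = Nat.card ↥(opIn p H) := by
    rw [hconj]; exact card_opIn_map_conj p g H
  have h1 := wielandt_half hne hH hK hcH hcard
  have h2 := wielandt_half hne.symm hK hH hcK hcard.symm
  rw [inf_comm K H, inf_comm (coreIn K (H ⊓ K)) (coreIn H (H ⊓ K))] at h2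
  refine ⟨p, hp, hcH, hcK, h1, h2, ?_⟩
  refine IsPGroup.to_sup_of_normal_right' h1 h2 ?_
  have hUK : coreIn H (coreIn H (H ⊓ K) ⊓ coreIn K (H ⊓ K)) ≤ K :=
    (coreIn_le_right _ _).trans (inf_le_right.trans (coreIn_le_left _ _))
  exact hUK.trans (coreIn_normalizer K _)

end Cfsg.Agent.Lib.Helper66.TW
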