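/-
K-UC-K8 (keystone 264618, pack S2646, architect helper73): assembly of A1, A2, B, C4 (hypothesis form):
the number of nondegenerate hermitian matrices for which `nilM d K` is self-adjoint.
-/
import Cfsg.Agent.Lib.Helper73.UCDefs

set_option autoImplicit false
set_option linter.unusedVariables false

namespace Cfsg.Agent.Lib.Helper66.UC

open Matrix Cfsg.Agent.Lib.Helper73.UC

variable {K : Type*} [Field K]

/-- **K-UC-K8 (264618)** -/
theorem card_formsSA_nilM_of [Fintype K] {q t : ℕ} (φ : K →+* K) (d : Fin t → ℕ) (hd : ∀ k, 1 ≤ d k)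
    (hA1 : ∀ M : Matrix (JI d) (JI d) K,
      (hadj φ M = M ∧ hadj φ (nilM d K) * M = M * nilM d K) ↔ ∃ c ∈ HC d φ, hankel d c = M)
    (hA2 : Function.Injective (hankel d : (CIdx d → K) → Matrix (JI d) (JI d) K))
    (hB : ∀ c : CIdx d → K, IsUnit (hankel d c).det ↔ IsUnit (topC d hd c).det)
    (hC : Nat.card {c : CIdx d → K // c ∈ HC d φ ∧ IsUnit (topC d hd c).det} =
      q ^ gam d * ∏ i ∈ Finset.range (Finset.univ.sup d + 1), hermUnits φ (mult d i)) :
    Nat.card (FormsSA φ (nilM d K)) =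
      q ^ gam d * ∏ i ∈ Finset.range (Finset.univ.sup d + 1), hermUnits φ (mult d i) := by
  classical
  rw [← hC]
  symm
  let f : {c : CIdx d → K // c ∈ HC d φ ∧ IsUnit (topC d hd c).det} → FormsSA φ (nilM d K) :=
    fun c => ⟨hankel d c.1, by
      obtain ⟨h1, h2⟩ := (hA1 (hankel d c.1)).mpr ⟨c.1, c.2.1, rfl⟩
      exact ⟨h1, (hB c.1).mpr c.2.2, h2⟩⟩
  have hf : Function.Bijective f := by
    constructor
    · intro c c' h
      apply Subtype.ext
      apply hA2
      exact congrArg Subtype.val h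
    · rintro ⟨M, hM1, hM2, hM3⟩
      obtain ⟨c, hc, hcM⟩ := (hA1 M).mp ⟨hM1, hM3⟩
      refine ⟨⟨c, hc, ?_⟩, ?_⟩
      · rw [← hB c, hcM]
        exact hM2
      · apply Subtype.ext
        exact hcM
  exact Nat.card_congr (Equiv.ofBijective f hf)

end Cfsg.Agent.Lib.Helper66.UC
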