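/-
K-UTi-N2a (keystone 595332, pack S5953, architect helper46): multiplicity-free model for `i = 2`
(`r ∣ q + 1`): the diagonal matrix `diag(ζ, ζ⁻¹, …, ζ^k, ζ^{-k}, 1, …, 1)`.
-/
import Cfsg.Agent.Lib.Helper46.UTiB1

set_option autoImplicit false
set_option linter.unusedSectionVars false
set_option linter.unusedVariables false
set_option maxHeartbeats 800000

namespace Cfsg.Agent.Lib.Helper66.UTi

open Module Polynomial Cfsg.Agent.Lib.Helper98.Elus Cfsg.Agent.Lib.Helper46.UTi

universe u

variable {F : Type u} [Field F]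

/-- powers of a diagonal map -/
theorem diag_pow_apply {n : ℕ} (d : Fin n → F) (s : ℕ) (w : Fin n → F) :
    ((Matrix.toLin' (Matrix.diagonal d)) ^ s) w = fun j => d j ^ s * w j := by
  induction s generalizing w with
  | zero => funext j; simp
  | succ s ih =>
    rw [pow_succ, Module.End.mul_apply, ih]
    funext j
    rw [Matrix.toLin'_apply, Matrix.mulVec_diagonal]
    ring

/-- polynomials in a diagonal map -/
theorem diag_aeval_apply {n : ℕ} (d : Fin n → F) (g : F[X]) (w : Fin n → F) :
    aeval (Matrix.toLin' (Matrix.diagonal d)) g w = fun j => g.eval (d j) * w j := by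
  rw [aeval_eq_sum_range, LinearMap.sum_apply]
  funext j
  rw [Finset.sum_apply, eval_eq_sum_range, Finset.sum_mul]
  apply Finset.sum_congr rfl
  intro s _
  rw [LinearMap.smul_apply, diag_pow_apply, Pi.smul_apply, smul_eq_mul, mul_assoc]

variable [Fintype F] {p : ℕ} [Fact p.Prime] [CharP F p] {q : ℕ}

/-- **K-UTi-N2a (595332)** -/
theorem bound_multfree_two (hq : Fintype.card F = q ^ 2) (n m : ℕ) (hn : 3 ≤ n) (hm : 1 ≤ m)
    (hmn : 2 * m ≤ n) (r : ℕ) [Fact r.Prime] (hrp : r ≠ p) (hr2 : r ≠ 2) (hrq : r ∣ q + 1)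
    (hL : AllFix F n m q r) : r - 1 + 2 * m ≤ n := by
  classical
  by_contra hcon
  push Not at hcon
  have hr : r.Prime := Fact.out
  obtain ⟨s, hs⟩ := hr.odd_of_ne_two hr2
  obtain ⟨k, hkdef⟩ : ∃ k, k = (n - 2 * m) / 2 + 1 := ⟨_, rfl⟩
  have hk1 : 1 ≤ k := by omega
  have hk2 : 2 * k ≤ n := by omega
  have hk3 : n + 1 ≤ 2 * k + 2 * m := by omega
  have hk4 : 2 * k < r := by omega
  have hq1 : 1 ≤ q := Cfsg.Agent.Lib.Helper19.q_pos hq
  -- an element of order `r`
  have hcardU : Fintype.card Fˣ = q ^ 2 - 1 := by rw [Fintype.card_units, hq]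
  have hrdvd : r ∣ Fintype.card Fˣ := by
    rw [hcardU]
    have h1 : q ^ 2 - 1 = (q + 1) * (q - 1) := by
      have := Nat.sq_sub_sq q 1
      rwa [one_pow] at this
    rw [h1]
    exact dvd_mul_of_dvd_left hrq _
  obtain ⟨ζ, hζ⟩ := exists_prime_orderOf_dvd_card r hrdvd
  have hζr : ζ ^ r = 1 := by rw [← hζ]; exact pow_orderOf_eq_one ζ
  have hζq : ζ ^ (q + 1) = 1 := by
    obtain ⟨c, hc⟩ := hrq
    rw [hc, pow_mul, hζr, one_pow]
  -- the index type
  let ι := (Fin k ⊕ Fin k) ⊕ Fin (n - 2 * k)
  have hcard : Fintype.card (Fin n) = Fintype.card ι := by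
    simp only [ι, Fintype.card_sum, Fintype.card_fin]
    omega
  let σ : Fin n ≃ ι := Fintype.equivOfCardEq hcard
  let ex : ι → ℤ := Sum.elim (Sum.elim (fun j => (j.val : ℤ) + 1) (fun j => -((j.val : ℤ) + 1)))
    (fun _ => 0)
  have hex_bound : ∀ x : ι, |ex x| ≤ (k : ℤ) := by
    rintro ((j | j) | z)
    · simp only [ex, Sum.elim_inl]
      have := j.isLt
      rw [abs_le]; constructor <;> omega
    · simp only [ex, Sum.elim_inl, Sum.elim_inr]
      have := j.isLt
      rw [abs_le]; constructor <;> omega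
    · simp only [ex, Sum.elim_inr]
      rw [abs_le]; constructor <;> omega
  let du : ι → Fˣ := fun x => ζ ^ ex x
  have hdu_inj : ∀ x y : ι, du x = du y → ex x = ex y := by
    intro x y h
    have h1 : ex x ≡ ex y [ZMOD (orderOf ζ : ℤ)] := zpow_eq_zpow_iff_modEq.mp h
    rw [hζ] at h1
    have h2 : (r : ℤ) ∣ ex y - ex x := h1.dvd
    have hx := abs_le.mp (hex_bound x)
    have hy := abs_le.mp (hex_bound y)
    have h3 : |ex y - ex x| < (r : ℤ) := by
      rw [abs_lt]; constructor <;> omega
    have := Int.eq_zero_of_abs_lt_dvd h2 h3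
    omega
  have hex_inl : ∀ (a : Fin k ⊕ Fin k) (y : ι), ex (Sum.inl a) = ex y → y = Sum.inl a := by
    rintro (j | j) ((j' | j') | z) h
    · simp only [ex, Sum.elim_inl] at h
      have : j = j' := Fin.ext (by omega)
      rw [this]
    · simp only [ex, Sum.elim_inl, Sum.elim_inr] at h
      omega
    · simp only [ex, Sum.elim_inl, Sum.elim_inr] at h
      omega
    · simp only [ex, Sum.elim_inl, Sum.elim_inr] at h
      omega
    · simp only [ex, Sum.elim_inl, Sum.elim_inr] at h
      have : j = j' := Fin.ext (by omega)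
      rw [this]
    · simp only [ex, Sum.elim_inl, Sum.elim_inr] at h
      omega
  -- the diagonal entries
  let d : Fin n → F := fun i => ((du (σ i) : Fˣ) : F)
  have hd_r : ∀ i, d i ^ r = 1 := by
    intro i
    show ((du (σ i) : Fˣ) : F) ^ r = 1
    rw [← Units.val_pow_eq_pow_val]
    have : du (σ i) ^ r = 1 := by
      show (ζ ^ ex (σ i)) ^ r = 1
      rw [← zpow_natCast, ← zpow_mul, mul_comm, zpow_mul, zpow_natCast, hζr, one_zpow]
    rw [this, Units.val_one]
  have hd_q : ∀ i, d i ^ (q + 1) = 1 := by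
    intro i
    show ((du (σ i) : Fˣ) : F) ^ (q + 1) = 1
    rw [← Units.val_pow_eq_pow_val]
    have : du (σ i) ^ (q + 1) = 1 := by
      show (ζ ^ ex (σ i)) ^ (q + 1) = 1
      rw [← zpow_natCast, ← zpow_mul, mul_comm, zpow_mul, zpow_natCast, hζq, one_zpow]
    rw [this, Units.val_one]
  have hd_eq : ∀ i j, d i = d j → ex (σ i) = ex (σ j) := by
    intro i j h
    exact hdu_inj _ _ (Units.ext h)
  have hprod : ∏ i, d i = 1 := by
    show ∏ i, ((du (σ i) : Fˣ) : F) = 1
    rw [← Units.coe_prod, Equiv.prod_comp σ du, Fintype.prod_sum_type, Fintype.prod_sum_type]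
    have h1 : ∀ j : Fin k, du (Sum.inl (Sum.inr j)) = (du (Sum.inl (Sum.inl j)))⁻¹ := by
      intro j
      show ζ ^ ex (Sum.inl (Sum.inr j)) = (ζ ^ ex (Sum.inl (Sum.inl j)))⁻¹
      simp only [ex, Sum.elim_inl, Sum.elim_inr, zpow_neg]
    have h2 : ∀ z : Fin (n - 2 * k), du (Sum.inr z) = 1 := by
      intro z
      show ζ ^ ex (Sum.inr z) = 1
      simp only [ex, Sum.elim_inr, zpow_zero]
    rw [Finset.prod_congr rfl (fun j _ => h1 j), Finset.prod_congr rfl (fun z _ => h2 z),
      Finset.prod_inv_distrib, mul_inv_cancel, Finset.prod_const_one, mul_one, Units.val_one]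
  set D : Matrix (Fin n) (Fin n) F := Matrix.diagonal d with hD
  have hdet : D.det = 1 := by rw [hD, Matrix.det_diagonal, hprod]
  set x : Matrix.SpecialLinearGroup (Fin n) F := ⟨D, hdet⟩ with hx
  have hxD : (x : Matrix (Fin n) (Fin n) F) = D := rfl
  have hmulVec : ∀ u : Fin n → F, D.mulVec u = fun i => d i * u i := by
    intro u
    funext i
    rw [hD, Matrix.mulVec_diagonal]
  have hxSU : x ∈ Cfsg.SU n F q := by
    intro u v
    show Cfsg.hermForm n F q (D.mulVec u) (D.mulVec v) = Cfsg.hermForm n F q u v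
    rw [hmulVec, hmulVec]
    unfold Cfsg.hermForm
    apply Finset.sum_congr rfl
    intro i _
    have := hd_q i
    calc d i * u i * (d i * v i) ^ q = d i ^ (q + 1) * (u i * v i ^ q) := by ring
      _ = u i * v i ^ q := by rw [this, one_mul]
  have hxr : ∃ z : F, ((x ^ r : Matrix.SpecialLinearGroup (Fin n) F) :
      Matrix (Fin n) (Fin n) F) = z • (1 : Matrix (Fin n) (Fin n) F) := by
    refine ⟨1, ?_⟩
    rw [Matrix.SpecialLinearGroup.coe_pow, hxD, hD, Matrix.diagonal_pow, one_smul]
    have : d ^ r = 1 := by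
      funext i
      rw [Pi.pow_apply, hd_r]
      rfl
    rw [this]
    exact Matrix.diagonal_one
  -- two positions with different entries
  let i₁ : Fin n := σ.symm (Sum.inl (Sum.inl ⟨0, hk1⟩))
  let i₂ : Fin n := σ.symm (Sum.inl (Sum.inr ⟨0, hk1⟩))
  have hns : ∀ z : F, (x : Matrix (Fin n) (Fin n) F) ≠
      z • (1 : Matrix (Fin n) (Fin n) F) := by
    intro z hz
    rw [hxD] at hz
    have h1 := congrFun (congrFun hz i₁) i₁
    have h2 := congrFun (congrFun hz i₂) i₂
    simp only [hD, Matrix.diagonal_apply_eq, Matrix.smul_apply, Matrix.one_apply_eq, smul_eq_mul,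
      mul_one] at h1 h2
    have h3 := hd_eq i₁ i₂ (by rw [h1, h2])
    simp only [i₁, i₂, Equiv.apply_symm_apply, ex, Sum.elim_inl, Sum.elim_inr] at h3
    omega
  obtain ⟨W, hWm, hWti, hWinv⟩ := hL x hxSU hxr hns
  rw [hxD] at hWinv
  have hH := isHerm_hermForm (F := F) hq n
  have hInv : Inv (Matrix.toLin' D) W := fun v hv => hWinv ⟨v, hv, rfl⟩
  -- basis vectors
  have hee : ∀ i : Fin n, Cfsg.hermForm n F q (Pi.single i 1) (Pi.single i 1) = 1 := by
    intro i
    unfold Cfsg.hermForm
    rw [Finset.sum_eq_single i]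
    · simp
    · intro j _ hj
      simp [Pi.single_eq_of_ne hj]
    · intro h
      exact absurd (Finset.mem_univ _) h
  have heW : ∀ i : Fin n, (Pi.single i 1 : Fin n → F) ∉ W := by
    intro i h
    have := hWti _ h _ h
    rw [hee] at this
    exact one_ne_zero this
  -- vectors of `W` vanish at the positions with a nontrivial entry
  have hcoord : ∀ (a : Fin k ⊕ Fin k) (w : Fin n → F), w ∈ W → w (σ.symm (Sum.inl a)) = 0 := by
    intro a w hw
    set i₀ : Fin n := σ.symm (Sum.inl a) with hi₀
    by_contra hw0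
    set Λ : Finset F := (Finset.univ.image d).erase (d i₀) with hΛ
    set g : F[X] := ∏ l ∈ Λ, (X - C l) with hg
    have hgi : g.eval (d i₀) ≠ 0 := by
      rw [hg, eval_prod, Finset.prod_ne_zero_iff]
      intro l hl
      rw [eval_sub, eval_X, eval_C, sub_ne_zero]
      exact fun h => (Finset.ne_of_mem_erase hl) h.symm
    have hgj : ∀ j, j ≠ i₀ → g.eval (d j) = 0 := by
      intro j hj
      have hdj : d j ≠ d i₀ := by
        intro h
        have h1 := hd_eq j i₀ h
        have h2 : σ i₀ = Sum.inl a := by rw [hi₀, Equiv.apply_symm_apply]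
        rw [h2] at h1
        have h3 := hex_inl a (σ j) h1.symm
        apply hj
        rw [hi₀, ← h3, Equiv.symm_apply_apply]
      have hmem : d j ∈ Λ := by
        rw [hΛ]
        exact Finset.mem_erase.mpr ⟨hdj, Finset.mem_image.mpr ⟨j, Finset.mem_univ _, rfl⟩⟩
      rw [hg, eval_prod]
      apply Finset.prod_eq_zero hmem
      rw [eval_sub, eval_X, eval_C, sub_self]
    have h1 : aeval (Matrix.toLin' D) g w ∈ W := hInv.aeval_mem g w hw
    have h2 : aeval (Matrix.toLin' D) g w = (g.eval (d i₀) * w i₀) • (Pi.single i₀ 1 : Fin n → F) := by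
      rw [hD, diag_aeval_apply]
      funext j
      by_cases hj : j = i₀
      · subst hj
        simp
      · rw [hgj j hj, zero_mul, Pi.smul_apply, Pi.single_eq_of_ne hj, smul_zero]
    rw [h2] at h1
    have hne : g.eval (d i₀) * w i₀ ≠ 0 := mul_ne_zero hgi hw0
    have := W.smul_mem (g.eval (d i₀) * w i₀)⁻¹ h1
    rw [smul_smul, inv_mul_cancel₀ hne, one_smul] at this
    exact heW i₀ this
  -- the span of the basis vectors at these positions
  let τ : Fin k ⊕ Fin k → Fin n := fun a => σ.symm (Sum.inl a)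
  have hτ : Function.Injective τ := by
    intro a a' h
    have := σ.symm.injective h
    exact Sum.inl_injective this
  let v : Fin k ⊕ Fin k → (Fin n → F) := fun a => Pi.single (τ a) 1
  have hvli : LinearIndependent F v := by
    have h1 := (Pi.basisFun F (Fin n)).linearIndependent.comp τ hτ
    have h2 : (⇑(Pi.basisFun F (Fin n)) ∘ τ) = v := by
      funext a
      simp only [Function.comp_apply, Pi.basisFun_apply]
      rfl
    rwa [h2] at h1
  set S : Submodule F (Fin n → F) := Submodule.span F (Set.range v) with hS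
  have hSd : finrank F S = 2 * k := by
    rw [hS, finrank_span_eq_card hvli, Fintype.card_sum, Fintype.card_fin]
    omega
  have hSorth : S ≤ orth hH W := by
    rw [hS, Submodule.span_le]
    rintro _ ⟨a, rfl⟩
    intro w hw
    show Cfsg.hermForm n F q (Pi.single (τ a) 1) w = 0
    unfold Cfsg.hermForm
    rw [Finset.sum_eq_single (τ a)]
    · rw [hcoord a w hw, zero_pow (by omega : q ≠ 0), mul_zero]
    · intro j _ hj
      rw [Pi.single_eq_of_ne hj, zero_mul]
    · intro h
      exact absurd (Finset.mem_univ _) h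
  have hWorth : W ≤ orth hH W := fun u hu w hw => hWti u hu w hw
  have hSW : S ⊓ W = ⊥ := by
    rw [eq_bot_iff]
    intro y hy
    obtain ⟨hyS, hyW⟩ := Submodule.mem_inf.mp hy
    rw [Submodule.mem_bot]
    -- `y` is supported on the range of `τ`
    have hsupp : ∀ y ∈ S, ∀ j, j ∉ Set.range τ → y j = 0 := by
      intro y hy
      rw [hS] at hy
      induction hy using Submodule.span_induction with
      | mem y hy =>
        obtain ⟨a, rfl⟩ := hy
        intro j hj
        show (Pi.single (τ a) 1 : Fin n → F) j = 0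
        apply Pi.single_eq_of_ne
        intro h
        exact hj ⟨a, h.symm⟩
      | zero => intro j _; rfl
      | add y z _ _ hy hz => intro j hj; rw [Pi.add_apply, hy j hj, hz j hj, add_zero]
      | smul c y _ hy => intro j hj; rw [Pi.smul_apply, hy j hj, smul_zero]
    funext j
    by_cases hj : j ∈ Set.range τ
    · obtain ⟨a, rfl⟩ := hj
      exact hcoord a y hyW
    · exact hsupp y hyS j hj
  have h1 := Submodule.finrank_sup_add_finrank_inf_eq S W
  rw [hSW, finrank_bot, add_zero] at h1
  have h2 : finrank F ↥(S ⊔ W) ≤ finrank F ↥(orth hH W) :=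
    Submodule.finrank_mono (sup_le hSorth hWorth)
  have h3 := finrank_orth_inf hq hH W ⊤ le_top (nonDeg_hermForm hq n)
  rw [inf_top_eq, finrank_top, Module.finrank_pi, Fintype.card_fin, hWm] at h3
  omega

end Cfsg.Agent.Lib.Helper66.UTi
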